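import Mathlib.GroupTheory.Perm.ViaEmbedding
import Mathlib.GroupTheory.SpecificGroups.Alternating
import Mathlib.GroupTheory.QuotientGroup.Basic

/-!
# Smaller alternating sections
-/

set_option autoImplicit false

namespace CfsgLib.Lie.AltSection

open Equiv Equiv.Perm

/-- the alternating group of fewer points inside that of more points -/
theorem exists_alt_embedding {k r : ℕ} (h : k ≤ r) :
    ∃ f : alternatingGroup (Fin k) →* alternatingGroup (Fin r), Function.Injective f := by
  classical
  refine ⟨((viaEmbeddingHom (Fin.castLEEmb h)).comp (alternatingGroup (Fin k)).subtype).codRestrict _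
    fun σ => ?_, fun a b e => Subtype.ext (viaEmbeddingHom_injective _ (congrArg Subtype.val e))⟩
  rw [mem_alternatingGroup, MonoidHom.comp_apply, viaEmbeddingHom_apply, viaEmbedding,
    sign_extendDomain]
  exact σ.2

/-- a subgroup with `Alt k` as a homomorphic image, from a larger alternating section -/
theorem exists_section {G : Type*} [Group G] {r k : ℕ} (hk : k ≤ r) (H : Subgroup G)
    (K : Subgroup ↥H) [K.Normal] (h : Nonempty (↥H ⧸ K ≃* ↥(alternatingGroup (Fin r)))) :
    ∃ (H' : Subgroup G) (ψ : ↥H' →* ↥(alternatingGroup (Fin k))), Function.Surjective ψ := by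
  obtain ⟨e⟩ := h
  obtain ⟨f, hf⟩ := exists_alt_embedding hk
  let θ : ↥H →* ↥(alternatingGroup (Fin r)) := e.toMonoidHom.comp (QuotientGroup.mk' K)
  have hθ : Function.Surjective θ := e.surjective.comp (QuotientGroup.mk'_surjective K)
  let S : Subgroup ↥H := f.range.comap θ
  let H' : Subgroup G := S.map H.subtype
  let i : ↥H' ≃* ↥S := (S.equivMapOfInjective H.subtype H.subtype_injective).symm
  let θ' : ↥S →* ↥f.range := (θ.comp S.subtype).codRestrict _ fun s => s.2
  have hθ' : Function.Surjective θ' := by
    rintro ⟨y, hy⟩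
    obtain ⟨x, rfl⟩ := hθ y
    exact ⟨⟨x, hy⟩, rfl⟩
  let j : ↥f.range ≃* ↥(alternatingGroup (Fin k)) := (MonoidHom.ofInjective hf).symm
  exact ⟨H', j.toMonoidHom.comp (θ'.comp i.toMonoidHom),
    j.surjective.comp (hθ'.comp i.surjective)⟩

end CfsgLib.Lie.AltSection
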