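import Cfsg.Agent.Lib.Lie.AltSection.D4Nat

/-!
# An element of order three of the Weyl group of D₄ and the diagonal elements it fixes

An element outside the diagonal subgroup in the coset of this element cannot be conjugate to the
fixed diagonal element `z` and at the same time be inverted by an element centralizing `z`.
-/

set_option autoImplicit false
set_option maxRecDepth 100000
set_option maxHeartbeats 1000000

namespace CfsgLib.Lie.AltSection.D4Nat

open Cfsg.Lie CfsgLib.Lie.Chev CfsgLib.Lie.NatRep TD4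
open scoped Matrix MatrixGroups

/-- the six moved coordinates in two triples, followed by the two fixed ones -/
def blk : (Fin 3 ⊕ Fin 3) ⊕ Fin 2 → J :=
  Sum.elim (Sum.elim ![.inl 0, .inr 1, .inr 2] ![.inr 0, .inl 1, .inl 2]) ![.inl 3, .inr 3]

theorem blk_bijective : Function.Bijective blk := by decide +kernel

theorem blk_swap : ∀ k : Fin 3, (blk (.inl (.inl k))).swap = blk (.inl (.inr k)) ∧
    (blk (.inl (.inr k))).swap = blk (.inl (.inl k)) := by decide +kernel

theorem w3_steps : sww w3 (.inl 0) = .inr 1 ∧ sww w3 (.inr 1) = .inr 2 := by decide +kernel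

theorem sgw_fixed : sgw w3 (.inr 3) = sgw w3 (.inl 3) ∧ sgw w3 (.inl 3) ^ 2 = 1 := by decide +kernel

theorem wt_swap : ∀ l i, wt l (Sum.swap i) = -wt l i := by decide +kernel

theorem tab_shape : ∀ r : Fin chevD4.nroots,
    (tabD4 r.val).all (fun e => decide (e.1 = 1 ∧ (e.2.1 = 1 ∨ e.2.1 = -1) ∧
      e.2.2.1 ≠ e.2.2.2)) = true ∧
    ∃ i j : J, i ≠ j ∧
      ((tabD4 r.val).filter fun e => decide (e.2.2.1 = i ∧ e.2.2.2 = j)).length = 1 := by
  decide +kernel

/-- the word -/
def wd3 : List (Fin chevD4.rank) := w3.map nl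

theorem pw_cube : C.G.pw (wd3 ++ wd3 ++ wd3) = 1 := by decide +kernel

variable {K : Type*} [Field K]

theorem nxL_diag (r : Fin chevD4.nroots) (t : K) (i : J) : nxL (tabD4 r.val) t i i = 1 := by
  obtain ⟨hall, -⟩ := tab_shape r
  rw [List.all_eq_true] at hall
  simp only [decide_eq_true_eq] at hall
  rw [nxL, Matrix.add_apply, Matrix.one_apply_eq]
  generalize tabD4 r.val = L at hall ⊢
  induction L with
  | nil => simp
  | cons e L ih =>
    rw [List.map_cons, List.sum_cons, Matrix.add_apply, Matrix.single_apply,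
      if_neg fun h => (hall e List.mem_cons_self).2.2 (h.1.trans h.2.symm), zero_add]
    exact ih fun x hx => hall x (List.mem_cons_of_mem _ hx)

theorem nxL_off (r : Fin chevD4.nroots) : ∃ i j : J,
    nxL (tabD4 r.val) (1 : K) i j ≠ 0 ∧
      ∀ t : K, nxL (tabD4 r.val) t i j = nxL (tabD4 r.val) (1 : K) i j * t := by
  obtain ⟨hall, i, j, hij, hlen⟩ := tab_shape r
  rw [List.all_eq_true] at hall
  simp only [decide_eq_true_eq] at hall
  refine ⟨i, j, ?_, fun t => ?_⟩
  · simp only [nxL, Matrix.add_apply, Matrix.one_apply_ne hij, zero_add]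
    generalize tabD4 r.val = L at hall hlen ⊢
    have hzero : ∀ L : Ents J, (L.filter fun e => decide (e.2.2.1 = i ∧ e.2.2.2 = j)).length = 0 →
        (L.map fun e => Matrix.single e.2.2.1 e.2.2.2 ((e.2.1 : K) * 1 ^ e.1)).sum i j = 0 := by
      intro L hL
      induction L with
      | nil => simp
      | cons e L ih =>
        by_cases he : e.2.2.1 = i ∧ e.2.2.2 = j
        · simp [he] at hL
        · rw [List.filter_cons_of_neg (by simpa using he)] at hL
          rw [List.map_cons, List.sum_cons, Matrix.add_apply, ih hL, Matrix.single_apply, if_neg he,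
            add_zero]
    induction L with
    | nil => simp at hlen
    | cons e L ih =>
      rw [List.map_cons, List.sum_cons, Matrix.add_apply, Matrix.single_apply]
      by_cases he : e.2.2.1 = i ∧ e.2.2.2 = j
      · rw [List.filter_cons_of_pos (by simpa using he), List.length_cons] at hlen
        rw [if_pos he, hzero L (Nat.succ.inj hlen), add_zero, one_pow, mul_one]
        rcases (hall e List.mem_cons_self).2.1 with h | h <;> simp [h]
      · rw [List.filter_cons_of_neg (by simpa using he)] at hlen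
        rw [if_neg he, zero_add]
        exact ih (fun x hx => hall x (List.mem_cons_of_mem _ hx)) hlen
  · simp only [nxL, Matrix.add_apply, Matrix.one_apply_ne hij, zero_add]
    generalize tabD4 r.val = L at hall ⊢
    clear hlen
    induction L with
    | nil => simp
    | cons e L ih =>
      simp only [List.map_cons, List.sum_cons, Matrix.add_apply, Matrix.single_apply, add_mul,
        ih fun x hx => hall x (List.mem_cons_of_mem _ hx)]
      congr 1
      rw [(hall e List.mem_cons_self).1]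
      split_ifs <;> simp

/-- two elements with the same image differ by a sign in the representation -/
theorem rho_of_theta_eq {a b : chevD4.SteinbergCover K} (h : C.theta a = C.theta b) :
    ∃ c : K, (c = 1 ∨ c = -1) ∧ (rho a : Matrix J J K) = c • (rho b : Matrix J J K) := by
  obtain ⟨c, hc, e⟩ := kernel_scalar (g := a * b⁻¹) (by rw [map_mul, map_inv, h, mul_inv_cancel])
  refine ⟨c, hc, ?_⟩
  rw [show a = (a * b⁻¹) * b by group, map_mul, Units.val_mul, e, Matrix.smul_mul, one_mul]

/-- an element with scalar image and diagonal adjoint image is trivial in the adjoint group -/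
theorem theta_eq_one_of_scalar {g : chevD4.SteinbergCover K}
    (hd : C.theta g ∈ chevD4.diagonalSubgroup K) {c : K} (hg : (rho g : Matrix J J K) = c • 1) :
    C.theta g = 1 := by
  refine C.central_eq_one (by rw [← C.theta_range]; exact ⟨g, rfl⟩) fun r => ?_
  obtain ⟨a, ha⟩ := C.G.exists_tor hd
  set μ : Kˣ := C.G.chi a (C.G.rho r)
  have e1 : C.theta (g * C.G.xc r 1 * g⁻¹) = C.theta (C.G.xc r (μ : K)) := by
    rw [map_mul, map_mul, map_inv, C.theta_xc, C.theta_xc, ha, C.G.tor_conj_xu, mul_one]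
  obtain ⟨s, hs, es⟩ := rho_of_theta_eq e1
  have hcomm : (rho (g * C.G.xc r 1 * g⁻¹) : Matrix J J K) = nxL (tabD4 r.val) 1 := by
    rw [map_mul, map_mul, map_inv, Units.val_mul, Units.val_mul, hg, rho_xc, Matrix.smul_mul, one_mul,
      Matrix.smul_mul, ← Matrix.mul_smul]
    have hinv := Units.mul_inv (rho g)
    rw [hg, Matrix.smul_mul, one_mul] at hinv
    rw [hinv, mul_one]
  rw [hcomm, rho_xc] at es
  have h11 := congrFun (congrFun es (.inl 0)) (.inl 0)
  rw [Matrix.smul_apply, nxL_diag, nxL_diag, smul_eq_mul, mul_one] at h11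
  rw [← h11, one_smul] at es
  obtain ⟨i, j, hne, hij⟩ := nxL_off (K := K) r
  have e := congrFun (congrFun es i) j
  rw [hij (μ : K)] at e
  have hμ : (μ : K) = 1 := (mul_eq_left₀ hne).1 e.symm
  rw [← mul_inv_eq_iff_eq_mul, ha, C.G.tor_conj_xu, hμ, mul_one]

/-- the product of the values at the simple coroots -/
noncomputable def dv (c : Fin chevD4.rank → Kˣ) (i : J) : Kˣ :=
  c (nl 0) ^ wt 0 i * c (nl 1) ^ wt 1 i * c (nl 2) ^ wt 2 i * c (nl 3) ^ wt 3 i

/-- a lift of a diagonal element -/
noncomputable def lift (c : Fin chevD4.rank → Kˣ) : chevD4.SteinbergCover K :=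
  C.G.hc (nl 0) (c (nl 0) : K) * C.G.hc (nl 1) (c (nl 1) : K) * C.G.hc (nl 2) (c (nl 2) : K) *
    C.G.hc (nl 3) (c (nl 3) : K)

theorem theta_lift (c : Fin chevD4.rank → Kˣ) : C.theta (lift c) = C.G.torθ c := by
  rw [C.G.torθ_eq_prod,
    show List.finRange chevD4.rank = [nl 0, nl 1, nl 2, nl 3] by decide +kernel]
  simp only [lift, map_mul, C.theta_hc, List.map_cons, List.map_nil, List.prod_cons, List.prod_nil,
    mul_one, mul_assoc]

theorem rho_lift (c : Fin chevD4.rank → Kˣ) :
    (rho (lift c) : Matrix J J K) = Matrix.diagonal fun i => ((dv c i : Kˣ) : K) := by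
  simp only [lift, map_mul, Units.val_mul, rho_hc, Matrix.diagonal_mul_diagonal, dv]

theorem dv_swap (c : Fin chevD4.rank → Kˣ) (i : J) : dv c i.swap = (dv c i)⁻¹ := by
  simp only [dv, wt_swap, zpow_neg, mul_inv]

/-- the monomial element of the cover -/
noncomputable def nT : chevD4.SteinbergCover K := C.G.nwc wd3

/-- the monomial element -/
noncomputable def nG : GL chevD4.Idx K := C.G.nw wd3

theorem theta_nT : C.theta (nT (K := K)) = nG := C.theta_nwc wd3

theorem rho_nT (j : J) : ((rho (nT (K := K)) : GL J K) : Matrix J J K).mulVec (Pi.single j 1) =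
    Pi.single (sww w3 j) ((sgw w3 j : ℤ) : K) := rho_nwc w3 j

theorem nG_cube : (nG : GL chevD4.Idx K) ^ 3 = 1 := by
  have hP := hasPair_tab (D := chevD4) (by simp) C
  have hH : (nT (K := K)) ^ 3 ∈ C.G.Hc (K := K) := by
    have h := C.nwc_mem_Hc (K := K) hP _ (wd3 ++ wd3 ++ wd3) rfl pw_cube
    simpa [nT, Good.nwc, List.map_append, List.prod_append, pow_succ, mul_assoc] using h
  rw [← theta_nT, ← map_pow]
  refine theta_eq_one_of_scalar (C.theta_Hc hH) (c := ((sgw w3 (.inl 3) : ℤ) : K) ^ 3) ?_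
  refine Matrix.ext_of_mulVec_single fun j => ?_
  have hs : ∀ (i : J) (a : K), (Pi.single i a : J → K) = a • (Pi.single i 1 : J → K) := fun i a => by
    rw [← Pi.single_smul]; simp
  rw [map_pow, Units.val_pow_eq_pow_val, pow_succ, pow_two, ← Matrix.mulVec_mulVec, rho_nT, hs,
    Matrix.mulVec_smul, ← Matrix.mulVec_mulVec, rho_nT, hs (sww w3 (sww w3 j)), Matrix.mulVec_smul,
    rho_nT, hs (sww w3 _), Matrix.smul_mulVec, Matrix.one_mulVec]
  have e := congrArg (fun π : Equiv.Perm J => π j) w3_cube.1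
  simp only [Equiv.Perm.mul_apply, Equiv.Perm.one_apply] at e
  rw [e, smul_smul, smul_smul]
  congr 1
  have e' := congrArg (Int.cast : ℤ → K) (w3_cube.2 j)
  push_cast at e'
  linear_combination e'

theorem fixed_values {c : Fin chevD4.rank → Kˣ} (h : nG * C.G.torθ c = C.G.torθ c * nG) :
    c (nl 1) = 1 ∧ c (nl 0) * c (nl 2) * c (nl 3) = 1 := by
  have e1 : C.theta (nT * lift c) = C.theta (lift c * nT) := by
    rw [map_mul, map_mul, theta_nT, theta_lift, h]
  obtain ⟨s, -, es⟩ := rho_of_theta_eq e1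
  rw [map_mul, map_mul, Units.val_mul, Units.val_mul] at es
  have key : ∀ j, (dv c j : K) * ((sgw w3 j : ℤ) : K) =
      s * ((dv c (sww w3 j) : K) * ((sgw w3 j : ℤ) : K)) := by
    intro j
    have e := congrArg (fun M : Matrix J J K => M.mulVec (Pi.single j 1) (sww w3 j)) es
    simp only [← Matrix.mulVec_mulVec, Matrix.smul_mulVec, rho_lift, rho_nT,
      Matrix.diagonal_mulVec_single, mul_one, Pi.smul_apply, smul_eq_mul, Pi.single_eq_same] at e
    rw [show (Pi.single j (dv c j : K) : J → K) = (dv c j : K) • Pi.single j 1 by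
      rw [← Pi.single_smul]; simp, Matrix.mulVec_smul, rho_nT, Pi.smul_apply,
      Pi.single_eq_same, smul_eq_mul] at e
    exact e
  have hsg : ∀ j, ((sgw w3 j : ℤ) : K) ≠ 0 := by
    have : ∀ j, sgw w3 j = 1 ∨ sgw w3 j = -1 := by decide +kernel
    intro j
    rcases this j with e | e <;> simp [e]
  have hs : s = 1 := by
    have e := key (.inl 3)
    rw [w3_perm.1, ← mul_assoc] at e
    have e' : (dv c (.inl 3) : K) = s * (dv c (.inl 3) : K) := mul_right_cancel₀ (hsg _) e
    exact (mul_eq_right₀ (dv c (.inl 3)).ne_zero).1 e'.symm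
  have hfix : ∀ j, dv c j = dv c (sww w3 j) := fun j => Units.ext (by
    have e := key j
    rw [hs, one_mul] at e
    exact mul_right_cancel₀ (hsg j) e)
  have e0 := hfix (.inl 0)
  have e2 := hfix (.inr 1)
  rw [w3_steps.1] at e0
  rw [w3_steps.2] at e2
  simp [dv, wt] at e0 e2
  refine ⟨e0, ?_⟩
  rw [e0] at e2
  simp [← mul_assoc] at e2
  rw [e2]
  rw [← mul_inv, mul_assoc, inv_mul_cancel]

/-- an element of the coset, seen on the two fixed coordinates -/
structure Outer (M : Matrix J J K) (lam : K) : Prop where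
  col : M.mulVec (Pi.single (.inl 3) 1) = Pi.single (.inl 3) lam
  col' : M.mulVec (Pi.single (.inr 3) 1) = Pi.single (.inr 3) lam⁻¹
  off : ∀ j, j ≠ .inl 3 → j ≠ .inr 3 → M j j = 0

theorem outer_of (c : Fin chevD4.rank → Kˣ) {i : ℕ} (hi : i = 1 ∨ i = 2) :
    ∃ lam : K, lam ≠ 0 ∧ Outer (rho (lift c * nT ^ i) : Matrix J J K) lam := by
  have hsq : ((sgw w3 (.inl 3) : ℤ) : K) * ((sgw w3 (.inl 3) : ℤ) : K) = 1 := by
    have := congrArg (Int.cast : ℤ → K) sgw_fixed.2
    push_cast at this
    linear_combination this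
  have hs : ∀ (k : J) (a : K), (Pi.single k a : J → K) = a • (Pi.single k 1 : J → K) := fun k a => by
    rw [← Pi.single_smul]; simp
  have hinv : ((dv c (.inr 3) : Kˣ) : K) = ((dv c (.inl 3) : Kˣ) : K)⁻¹ := by
    rw [show (Sum.inr 3 : J) = Sum.swap (.inl 3) from rfl, dv_swap, Units.val_inv_eq_inv_val]
  obtain ⟨hp1, hp2, hp3⟩ := w3_perm
  rcases hi with rfl | rfl
  · refine ⟨(dv c (.inl 3) : K) * ((sgw w3 (.inl 3) : ℤ) : K),
      mul_ne_zero (dv c _).ne_zero (left_ne_zero_of_mul_eq_one hsq), ?_, ?_, fun j h1 h2 => ?_⟩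
    · rw [pow_one, map_mul, Units.val_mul, ← Matrix.mulVec_mulVec, rho_nT, hp1, rho_lift,
        Matrix.diagonal_mulVec_single]
    · rw [pow_one, map_mul, Units.val_mul, ← Matrix.mulVec_mulVec, rho_nT, hp2, rho_lift,
        Matrix.diagonal_mulVec_single, sgw_fixed.1, hinv, mul_inv,
        inv_eq_of_mul_eq_one_right hsq]
    · have e : (rho (lift c * nT ^ 1) : Matrix J J K).mulVec (Pi.single j 1) =
          Pi.single (sww w3 j) ((dv c (sww w3 j) : K) * ((sgw w3 j : ℤ) : K)) := by
        rw [pow_one, map_mul, Units.val_mul, ← Matrix.mulVec_mulVec, rho_nT, rho_lift,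
          Matrix.diagonal_mulVec_single]
      have := congrFun e j
      rw [Matrix.mulVec_single_one, Pi.single_eq_of_ne (Ne.symm (hp3 j h1 h2).1)] at this
      exact this
  · refine ⟨(dv c (.inl 3) : K), (dv c _).ne_zero, ?_, ?_, fun j h1 h2 => ?_⟩
    · rw [pow_two, map_mul, map_mul, Units.val_mul, Units.val_mul, ← Matrix.mulVec_mulVec,
        ← Matrix.mulVec_mulVec, rho_nT, hp1, hs, Matrix.mulVec_smul, rho_nT, hp1, hs (.inl 3),
        smul_smul, hsq, one_smul, rho_lift, Matrix.diagonal_mulVec_single, mul_one]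
    · rw [pow_two, map_mul, map_mul, Units.val_mul, Units.val_mul, ← Matrix.mulVec_mulVec,
        ← Matrix.mulVec_mulVec, rho_nT, hp2, hs, Matrix.mulVec_smul, rho_nT, hp2, hs (.inr 3),
        smul_smul, sgw_fixed.1, hsq, one_smul, rho_lift, Matrix.diagonal_mulVec_single, mul_one, hinv]
    · have e : (rho (lift c * nT ^ 2) : Matrix J J K).mulVec (Pi.single j 1) =
          Pi.single (sww w3 (sww w3 j)) ((dv c (sww w3 (sww w3 j)) : K) *
            (((sgw w3 j : ℤ) : K) * ((sgw w3 (sww w3 j) : ℤ) : K))) := by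
        rw [pow_two, map_mul, map_mul, Units.val_mul, Units.val_mul, ← Matrix.mulVec_mulVec,
          ← Matrix.mulVec_mulVec, rho_nT, hs, Matrix.mulVec_smul, rho_nT, hs (sww w3 _), smul_smul,
          ← hs, rho_lift, Matrix.diagonal_mulVec_single]
      have := congrFun e j
      rw [Matrix.mulVec_single_one, Pi.single_eq_of_ne (Ne.symm (hp3 j h1 h2).2)] at this
      exact this

/-- the key incompatibility -/
theorem not_conj_inverted (h2 : (2 : K) ≠ 0) (h3 : (3 : K) ≠ 0) {c : Fin chevD4.rank → Kˣ} {v : Kˣ}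
    (hv : v ^ 3 = 1) (hv1 : v ≠ 1) (hc : c (nl 0) = v ∧ c (nl 1) = 1 ∧ c (nl 2) = v ∧ c (nl 3) = v)
    {xt : chevD4.SteinbergCover K} {lam : K} (hl : lam ≠ 0) (hM : Outer (rho xt : Matrix J J K) lam)
    (hx3 : C.theta xt ^ 3 = 1) {g h : GL chevD4.Idx K} (hg : g ∈ chevD4.group K)
    (hh : h ∈ chevD4.group K) (hgz : g * C.G.torθ c * g⁻¹ = C.theta xt)
    (hhz : h * C.G.torθ c * h⁻¹ = C.G.torθ c) (hhx : h * C.theta xt * h⁻¹ = (C.theta xt)⁻¹) :
    False := by
  classical
  rw [← C.theta_range] at hg hh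
  obtain ⟨gt, rfl⟩ := hg
  obtain ⟨ht, rfl⟩ := hh
  obtain ⟨hc0, hc1, hc2, hc3⟩ := hc
  set ζ := lift c
  set M := (rho xt : Matrix J J K) with hMdef
  set H := (rho ht : Matrix J J K) with hHdef
  have hvK : (v : K) ^ 3 = 1 := by rw [← Units.val_pow_eq_pow_val, hv, Units.val_one]
  have hv1K : (v : K) ≠ 1 := fun e => hv1 (Units.ext e)
  have hvsum : 1 + (v : K) + (v : K) ^ 2 = 0 :=
    (mul_eq_zero.1 (show ((v : K) - 1) * (1 + v + (v : K) ^ 2) = 0 by linear_combination hvK)).resolve_left
      (sub_ne_zero.2 hv1K)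
  have hvinv : (v : K)⁻¹ = (v : K) ^ 2 := inv_eq_of_mul_eq_one_right (by linear_combination hvK)
  -- the values of `z`
  have hd : ∀ p, ((dv c (blk p) : Kˣ) : K) =
      Sum.elim (Sum.elim (fun _ => (v : K)) fun _ => (v : K) ^ 2) (fun _ => 1) p := by
    have hvm : (v : K) * v = (v : K)⁻¹ := by rw [hvinv]; ring
    rintro ((k | k) | k) <;> fin_cases k <;>
      simp [blk, dv, wt, hc0, hc1, hc2, hc3, hvinv] <;>
      first | linear_combination hvK | (field_simp <;> linear_combination hvK) |
        (field_simp <;> linear_combination -hvK)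
  let e : (Fin 3 ⊕ Fin 3) ⊕ Fin 2 ≃ J := Equiv.ofBijective blk blk_bijective
  -- traces
  have htr : (rho ζ : Matrix J J K).trace = -1 := by
    rw [rho_lift, Matrix.trace_diagonal, ← e.sum_comp]
    simp [e, Equiv.ofBijective_apply, hd, Fintype.sum_sum_type]
    linear_combination 3 * hvsum
  have htrM : M.trace = lam + lam⁻¹ := by
    have h3' : M (.inl 3) (.inl 3) = lam := by
      have := congrFun hM.col (.inl 3)
      rwa [Matrix.mulVec_single_one, Pi.single_eq_same] at this
    have h4' : M (.inr 3) (.inr 3) = lam⁻¹ := by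
      have := congrFun hM.col' (.inr 3)
      rwa [Matrix.mulVec_single_one, Pi.single_eq_same] at this
    rw [Matrix.trace]
    simp only [Matrix.diag, Fintype.sum_sum_type, Fin.sum_univ_four]
    rw [h3', h4', hM.off _ (by simp) (by simp), hM.off _ (by simp) (by simp),
      hM.off _ (by simp) (by simp), hM.off _ (by simp) (by simp), hM.off _ (by simp) (by simp),
      hM.off _ (by simp) (by simp)]
    ring
  obtain ⟨s₁, hs₁, es₁⟩ := rho_of_theta_eq (a := gt * ζ * gt⁻¹) (b := xt) (by
    rw [map_mul, map_mul, map_inv, theta_lift, hgz])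
  have htrace : -1 = s₁ * (lam + lam⁻¹) := by
    have := congrArg Matrix.trace es₁
    rwa [map_mul, map_mul, map_inv, Units.val_mul, Units.val_mul, Matrix.trace_units_conj, htr,
      Matrix.trace_smul, htrM, smul_eq_mul] at this
  -- the cube of `x`
  obtain ⟨s₃, hs₃, es₃⟩ := kernel_scalar (g := xt ^ 3) (by rw [map_pow, hx3])
  have hlam3 : lam ^ 3 = s₃ := by
    have e := congrArg (fun X : Matrix J J K => X.mulVec (Pi.single (.inl 3) 1) (.inl 3)) es₃
    have hs : (Pi.single (.inl 3) lam : J → K) = lam • Pi.single (.inl 3) 1 := by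
      rw [← Pi.single_smul]; simp
    simp only [pow_succ, pow_zero, one_mul, map_mul, Units.val_mul, ← Matrix.mulVec_mulVec,
      ← hMdef, hM.col, hs, Matrix.mulVec_smul, Matrix.smul_mulVec, Matrix.one_mulVec, Pi.smul_apply,
      Pi.single_eq_same, smul_eq_mul, mul_one] at e
    linear_combination e
  -- `h` commutes with `z` in the representation
  obtain ⟨s, hs, es⟩ := rho_of_theta_eq (a := ht * ζ * ht⁻¹) (b := ζ) (by
    rw [map_mul, map_mul, map_inv, theta_lift, hhz])
  have hs1 : s = 1 := by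
    rcases hs with h | h
    · exact h
    exfalso
    have hz3 : (rho ζ : Matrix J J K) ^ 3 = 1 := by
      rw [rho_lift, Matrix.diagonal_pow, ← Matrix.diagonal_one]
      congr 1
      funext i
      obtain ⟨p, rfl⟩ := e.surjective i
      rw [Pi.pow_apply, show (e p : J) = blk p from rfl, hd]
      have hv6 : ((v : K) ^ 2) ^ 3 = 1 := by rw [← pow_mul, mul_comm, pow_mul, hvK, one_pow]
      rcases p with (k | k) | k <;> simp [hvK, hv6]
    have e3 := congrArg (fun X : Matrix J J K => X ^ 3) es
    simp only [h, smul_pow, hz3] at e3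
    rw [← Units.val_pow_eq_pow_val, ← map_pow, conj_pow, map_mul, map_mul, map_inv, map_pow,
      Units.val_mul, Units.val_mul, Units.val_pow_eq_pow_val, hz3, mul_one, Units.mul_inv] at e3
    have := congrFun (congrFun e3 (.inl 0)) (.inl 0)
    simp at this
    exact h2 (by linear_combination this)
  rw [hs1, one_smul, map_mul, map_mul, map_inv, Units.val_mul, Units.val_mul,
    Units.mul_inv_eq_iff_eq_mul, ← hHdef] at es
  have hzero : ∀ i j, dv c i ≠ dv c j → H i j = 0 := by
    intro i j hij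
    have e := congrFun (congrFun es i) j
    rw [rho_lift, Matrix.mul_diagonal, Matrix.diagonal_mul] at e
    have : H i j * ((dv c j : K) - (dv c i : K)) = 0 := by linear_combination e
    exact (mul_eq_zero.1 this).resolve_right (sub_ne_zero.2 fun e' => hij (Units.ext e'.symm))
  have hv2 : (v : K) ^ 2 ≠ 1 := fun e => hv1K (by linear_combination hvK - (v : K) * e)
  have hv12 : (v : K) ≠ (v : K) ^ 2 := fun e => hv2 (by linear_combination (v : K) * e + hvK)
  have hoff : ∀ p p', (∀ q q' : (Fin 3 ⊕ Fin 3) ⊕ Fin 2, q = p → q' = p' →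
      Sum.elim (Sum.elim (fun _ => (v : K)) fun _ => (v : K) ^ 2) (fun _ => 1) q ≠
        Sum.elim (Sum.elim (fun _ => (v : K)) fun _ => (v : K) ^ 2) (fun _ => 1) q') →
      H (blk p) (blk p') = 0 := fun p p' h => hzero _ _ fun e' => h p p' rfl rfl (by
        rw [← hd, ← hd, e'])
  have z12 : ∀ k l, H (blk (.inl (.inl k))) (blk (.inl (.inr l))) = 0 := fun k l =>
    hoff _ _ (by rintro _ _ rfl rfl; exact hv12)
  have z21 : ∀ k l, H (blk (.inl (.inr k))) (blk (.inl (.inl l))) = 0 := fun k l =>
    hoff _ _ (by rintro _ _ rfl rfl; exact hv12.symm)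
  have z13 : ∀ k l, H (blk (.inl k)) (blk (.inr l)) = 0 := fun k l =>
    hoff _ _ (by rintro _ _ rfl rfl; rcases k with k | k; exacts [hv1K, hv2])
  have z31 : ∀ k l, H (blk (.inr l)) (blk (.inl k)) = 0 := fun k l =>
    hoff _ _ (by rintro _ _ rfl rfl; rcases k with k | k; exacts [hv1K.symm, hv2.symm])
  set a := H (.inl 3) (.inl 3)
  set b := H (.inr 3) (.inl 3)
  set a' := H (.inl 3) (.inr 3)
  set b' := H (.inr 3) (.inr 3)
  set A : Matrix (Fin 3) (Fin 3) K :=
    Matrix.of fun k l => H (blk (.inl (.inl k))) (blk (.inl (.inl l)))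
  set B : Matrix (Fin 3) (Fin 3) K :=
    Matrix.of fun k l => H (blk (.inl (.inr k))) (blk (.inl (.inr l)))
  have hblock : H.submatrix e e = Matrix.fromBlocks (Matrix.fromBlocks A 0 0 B) 0 0 !![a, a'; b, b'] := by
    ext p p'
    rcases p with (k | k) | k <;> rcases p' with (l | l) | l <;>
      simp [e, Equiv.ofBijective_apply, z12, z21, z13, z31, A, B]
    fin_cases k <;> fin_cases l <;> simp [blk, a, a', b, b']
  have hdual : (dual H).submatrix e e =
      Matrix.fromBlocks (Matrix.fromBlocks Bᵀ 0 0 Aᵀ) 0 0 !![b', a'; b, a] := by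
    have hD2 : ∀ k : Fin 2, (blk (.inr k)).swap = blk (.inr (1 - k)) := by decide +kernel
    ext p p'
    rcases p with (k | k) | k <;> rcases p' with (l | l) | l <;>
      simp [e, Equiv.ofBijective_apply, dual_apply, (blk_swap _).1, (blk_swap _).2, hD2, z12, z21,
        z13, z31, A, B]
    fin_cases k <;> fin_cases l <;> simp [blk, a, a', b, b']
  have hprod : dual H * H = 1 := by
    rw [hHdef, ← rho_inv, Units.inv_mul]
  have hprod' : (dual H).submatrix e e * H.submatrix e e = 1 := by
    rw [Matrix.submatrix_mul_equiv, hprod, Matrix.submatrix_one_equiv]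
  rw [hblock, hdual, Matrix.fromBlocks_multiply, ← Matrix.fromBlocks_one, Matrix.fromBlocks_inj,
    Matrix.fromBlocks_multiply] at hprod'
  simp only [Matrix.mul_zero, Matrix.zero_mul, add_zero, zero_add] at hprod'
  rw [← Matrix.fromBlocks_one, Matrix.fromBlocks_inj] at hprod'
  obtain ⟨⟨hBA, -, -, -⟩, -, -, hD⟩ := hprod'
  have hD00 := congrFun (congrFun hD 0) 0
  have hD10 := congrFun (congrFun hD 1) 0
  have hD01 := congrFun (congrFun hD 0) 1
  simp [Matrix.mul_apply, Fin.sum_univ_two] at hD00 hD10 hD01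
  have hdet : A.det * B.det * (a * b' - a' * b) = 1 := by
    have := det_rho ht
    rw [← hHdef, ← Matrix.det_submatrix_equiv_self e, hblock, Matrix.det_fromBlocks_zero₂₁,
      Matrix.det_fromBlocks_zero₂₁, Matrix.det_fin_two_of] at this
    exact this
  have hAB : A.det * B.det = 1 := by
    have := congrArg Matrix.det hBA
    rw [Matrix.det_mul, Matrix.det_transpose, Matrix.det_one] at this
    linear_combination this
  rw [hAB, one_mul] at hdet
  have hb : b = 0 := by
    by_contra hb
    have ha : a = 0 := by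
      have : 2 * (a * b) = 0 := by linear_combination hD10
      exact (mul_eq_zero.1 ((mul_eq_zero.1 this).resolve_left h2)).resolve_right hb
    rw [ha] at hdet hD00
    exact h2 (by linear_combination -hD00 - hdet)
  have ha : a ≠ 0 := fun ha => by
    rw [hb, ha] at hD00
    simp at hD00
  -- `h` inverts `x`
  obtain ⟨s₂, hs₂, es₂⟩ := rho_of_theta_eq (a := ht * xt * ht⁻¹) (b := xt⁻¹) (by
    rw [map_mul, map_mul, map_inv, map_inv, hhx])
  rw [map_mul, map_mul, map_inv, map_inv, Units.val_mul, Units.val_mul,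
    Units.mul_inv_eq_iff_eq_mul, ← hMdef, ← hHdef, Matrix.smul_mul] at es₂
  have hz : ∀ i, i ≠ (Sum.inl 3 : J) → H i (.inl 3) = 0 := by
    intro i hi
    obtain ⟨p, rfl⟩ := e.surjective i
    rcases p with p | k
    · exact z13 p 0
    · fin_cases k
      · exact absurd rfl hi
      · exact hb
  have hcolH : H.mulVec (Pi.single (.inl 3) 1) = Pi.single (.inl 3) a := by
    rw [Matrix.mulVec_single_one]
    funext i
    by_cases hi : i = Sum.inl 3
    · subst hi; simp [a]
    · rw [Pi.single_eq_of_ne hi]; exact hz i hi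
  have hMinv : ((rho xt)⁻¹ : GL J K).val.mulVec (Pi.single (.inl 3) 1) = Pi.single (.inl 3) lam⁻¹ := by
    have h1 := congrArg ((rho xt)⁻¹ : GL J K).val.mulVec hM.col
    rw [Matrix.mulVec_mulVec, hMdef, Units.inv_mul, Matrix.one_mulVec,
      show (Pi.single (.inl 3) lam : J → K) = lam • Pi.single (.inl 3) 1 by
        rw [← Pi.single_smul]; simp, Matrix.mulVec_smul] at h1
    rw [show (Pi.single (.inl 3) lam⁻¹ : J → K) = lam⁻¹ • Pi.single (.inl 3) 1 by
      rw [← Pi.single_smul]; simp]
    conv_rhs => rw [h1, smul_smul, inv_mul_cancel₀ hl, one_smul]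
  have e2 := congrArg (fun X : Matrix J J K => X.mulVec (Pi.single (.inl 3) 1) (.inl 3)) es₂
  have hsc : ∀ x : K, (Pi.single (.inl 3) x : J → K) = x • Pi.single (.inl 3) 1 := fun x => by
    rw [← Pi.single_smul]; simp
  simp only [← Matrix.mulVec_mulVec, Matrix.smul_mulVec, hM.col, hcolH, hsc lam, hsc a, hMinv,
    hsc lam⁻¹, Matrix.mulVec_smul, Pi.smul_apply, Pi.single_eq_same, smul_eq_mul, mul_one] at e2
  have hs₂' : lam ^ 2 = s₂ := by
    field_simp at e2
    linear_combination e2
  have hs₂1 : s₂ = 1 := by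
    rcases hs₂ with h | h
    · exact h
    exfalso
    have h6 : lam ^ 6 = -1 := by
      rw [show lam ^ 6 = (lam ^ 2) ^ 3 by ring, hs₂', h]; ring
    have h6' : lam ^ 6 = 1 := by
      rw [show lam ^ 6 = (lam ^ 3) ^ 2 by ring, hlam3]
      rcases hs₃ with h | h <;> rw [h] <;> ring
    exact h2 (by linear_combination h6 - h6')
  have hl2 : lam ⁻¹ = lam := inv_eq_of_mul_eq_one_right (by linear_combination hs₂'.trans hs₂1)
  rw [hl2] at htrace
  have h4 : (lam * (2 * s₁)) ^ 2 = 4 := by
    have : s₁ * s₁ = 1 := by rcases hs₁ with h | h <;> rw [h] <;> ring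
    linear_combination 4 * lam ^ 2 * this + 4 * (hs₂'.trans hs₂1)
  exact h3 (by linear_combination -((-1 + s₁ * (lam + lam)) * htrace + h4))

end CfsgLib.Lie.AltSection.D4Nat
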