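import Cfsg.Agent.Lib.Lie.Chev.Nat.Tables
import Cfsg.Agent.Lib.Lie.Chev.Tw.D4Gp
import Cfsg.Agent.Lib.Lie.Chev.CoverTorus
import Cfsg.Agent.Lib.Lie.Chev.CoverPerfect

/-!
# The natural representation of the cover of type D₄

The representation on eight coordinates: the dual relation, the images of the torus and of the
monomial elements, and the scalar action of the kernel of the map onto the adjoint group.
-/

set_option autoImplicit false
set_option maxRecDepth 100000
set_option maxHeartbeats 1000000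

namespace CfsgLib.Lie.AltSection.D4Nat

open Cfsg.Lie CfsgLib.Lie.Chev CfsgLib.Lie.NatRep TD4
open scoped Matrix MatrixGroups

/-- the coordinates -/
abbrev J : Type := IP 4

/-- the simple root and its negative -/
def sn : Fin 4 → Fin chevD4.nroots × Fin chevD4.nroots :=
  ![(rt 18, rt 5), (rt 14, rt 9), (rt 13, rt 10), (rt 12, rt 11)]

/-- the node -/
def nl : Fin 4 → Fin chevD4.rank := ![nd 0, nd 1, nd 2, nd 3]

theorem sn_eq : ∀ l, C.G.simp' (nl l) = (sn l).1 ∧ C.G.negr (sn l).1 = (sn l).2 := by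
  obtain ⟨s0, s1, s2, s3⟩ := simp_rt
  obtain ⟨n1, n2, n3, n4⟩ := negr_rt
  intro l
  fin_cases l
  exacts [⟨s0, n1⟩, ⟨s1, n4⟩, ⟨s2, n2⟩, ⟨s3, n3⟩]

/-- the coefficients of the coordinates on the simple coroots -/
def wt (l : Fin 4) : J → ℤ := fun i =>
  Sum.elim (fun k => (![![1, -1, 0, 0], ![0, 1, -1, 0], ![0, 0, 1, -1], ![0, 0, 1, 1]] :
      Fin 4 → Fin 4 → ℤ) l k)
    (fun k => -(![![1, -1, 0, 0], ![0, 1, -1, 0], ![0, 0, 1, -1], ![0, 0, 1, 1]] :
      Fin 4 → Fin 4 → ℤ) l k) i

/-- exchange of the two coordinates of each hyperbolic pair in the entries -/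
def flipE (L : Ents J) : Ents J := L.map fun e => (e.1, e.2.1, e.2.2.2.swap, e.2.2.1.swap)

theorem flip_chk : ∀ r : Fin chevD4.nroots,
    wordsEq [(tabD4 r.val, -1, 1, 0)] [(flipE (tabD4 r.val), 1, 1, 0)] = true := by decide +kernel

/-- the permutation of the coordinates given by a simple reflection -/
def sw : Fin 4 → Equiv.Perm J :=
  ![Equiv.swap (.inl 0) (.inl 1) * Equiv.swap (.inr 0) (.inr 1),
    Equiv.swap (.inl 1) (.inl 2) * Equiv.swap (.inr 1) (.inr 2),
    Equiv.swap (.inl 2) (.inl 3) * Equiv.swap (.inr 2) (.inr 3),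
    Equiv.swap (.inl 2) (.inr 3) * Equiv.swap (.inr 2) (.inl 3)]

/-- the signs -/
def sg : Fin 4 → J → ℤ :=
  ![fun j => if j = .inl 0 ∨ j = .inr 0 then -1 else 1,
    fun j => if j = .inl 1 ∨ j = .inr 1 then -1 else 1,
    fun j => if j = .inl 2 ∨ j = .inr 2 then -1 else 1,
    fun j => if j = .inl 2 ∨ j = .inr 2 then -1 else 1]

theorem nc_chk : ∀ (l : Fin 4) (j : J), eqV
    (runL [(tabD4 (sn l).1.val, 1, 0, 0), (tabD4 (sn l).2.val, -1, 0, 0),
      (tabD4 (sn l).1.val, 1, 0, 0)] j) [((sw l j, 0, 0), sg l j)] = true := by decide +kernel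

/-- the word of the element of order three -/
def w3 : List (Fin 4) := [1, 0, 2, 3, 1, 3, 2, 0]

/-- the permutation of a word -/
def sww : List (Fin 4) → Equiv.Perm J
  | [] => 1
  | l :: w => sw l * sww w

/-- the signs of a word -/
def sgw : List (Fin 4) → J → ℤ
  | [] => fun _ => 1
  | l :: w => fun j => sg l (sww w j) * sgw w j

theorem w3_perm : sww w3 (.inl 3) = .inl 3 ∧ sww w3 (.inr 3) = .inr 3 ∧
    (∀ j, j ≠ .inl 3 → j ≠ .inr 3 → sww w3 j ≠ j ∧ sww w3 (sww w3 j) ≠ j) := by decide +kernel

theorem w3_cube : sww w3 * sww w3 * sww w3 = 1 ∧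
    ∀ j, sgw w3 (sww w3 (sww w3 j)) * sgw w3 (sww w3 j) * sgw w3 j = sgw w3 (.inl 3) ^ 3 := by
  decide +kernel

theorem w3_orbit : sww w3 (.inl 0) = .inr 1 ∨ sww w3 (.inl 0) = .inr 2 := by decide +kernel

variable {K : Type*} [Field K]

/-- the representation -/
noncomputable def rho : chevD4.SteinbergCover K →* GL J K := natHom chk_D4

theorem rho_xc (r : Fin chevD4.nroots) (t : K) :
    (rho (C.G.xc r t) : Matrix J J K) = nxL (tabD4 r.val) t := by
  rw [C.G.xc_eq_of]; exact natHom_of chk_D4 r t

/-- the matrix seen from the dual side -/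
def dual (M : Matrix J J K) : Matrix J J K := Matrix.of fun i j => M j.swap i.swap

theorem dual_apply (M : Matrix J J K) (i j : J) : dual M i j = M j.swap i.swap := rfl

theorem dual_mul (M N : Matrix J J K) : dual (M * N) = dual N * dual M := by
  ext i j
  rw [dual_apply, Matrix.mul_apply, Matrix.mul_apply,
    ← Equiv.sum_comp (Equiv.sumComm (Fin 4) (Fin 4)) fun k => M j.swap k * N k i.swap]
  refine Finset.sum_congr rfl fun k _ => ?_
  simp only [dual_apply, Equiv.sumComm_apply]
  rw [mul_comm]

theorem dual_dual (M : Matrix J J K) : dual (dual M) = M := by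
  ext i j; simp [dual_apply]

theorem dual_one : dual (1 : Matrix J J K) = 1 := by
  ext i j
  by_cases h : i = j
  · subst h; simp [dual_apply]
  · rw [dual_apply, Matrix.one_apply_ne h, Matrix.one_apply_ne]
    exact fun e => h (by simpa using congrArg Sum.swap e.symm)

theorem dual_nxL (L : Ents J) (t : K) : dual (nxL L t) = nxL (flipE L) t := by
  simp only [nxL, flipE]
  have hadd : ∀ M N : Matrix J J K, dual (M + N) = dual M + dual N := fun M N => rfl
  rw [hadd, dual_one]
  congr 1
  induction L with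
  | nil => ext i j; simp [dual_apply]
  | cons e L ih =>
    simp only [List.map_cons, List.sum_cons, hadd, ih]
    congr 1
    ext i j
    rw [dual_apply, Matrix.single_apply, Matrix.single_apply]
    by_cases h : e.2.2.1 = j.swap ∧ e.2.2.2 = i.swap
    · rw [if_pos h, if_pos (by rw [h.1, h.2]; simp)]
    · rw [if_neg h, if_neg fun h' => h ⟨by rw [← h'.2]; simp, by rw [← h'.1]; simp⟩]

theorem rho_inv (g : chevD4.SteinbergCover K) :
    ((rho g)⁻¹ : GL J K).val = dual (rho g).val := by
  have hg : g ∈ Subgroup.closure {g : chevD4.SteinbergCover K | ∃ r t, g = C.G.xc r t} := by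
    rw [C.G.xc_generate]; trivial
  induction hg using Subgroup.closure_induction with
  | mem x hx =>
    obtain ⟨r, t, rfl⟩ := hx
    rw [← map_inv, C.G.xc_inv, rho_xc, rho_xc, dual_nxL]
    have h := word_eq (flip_chk r) t (0 : K)
    simpa [wordL] using h
  | one => simp [dual_one]
  | mul x y _ _ hx hy => rw [map_mul, mul_inv_rev, Units.val_mul, Units.val_mul, hx, hy, dual_mul]
  | inv x _ hx => rw [map_inv, inv_inv, hx, dual_dual]

theorem rho_hc (l : Fin 4) (t : Kˣ) :
    (rho (C.G.hc (nl l) (t : K)) : Matrix J J K) =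
      Matrix.diagonal fun i => ((t ^ wt l i : Kˣ) : K) := by
  obtain ⟨h1, h2⟩ := sn_eq l
  simp only [Good.hc, Good.nc, map_mul, Units.val_mul, h1, h2, rho_xc]
  refine Matrix.ext_of_mulVec_single fun j => funext fun i => ?_
  have ht : (t : K) ≠ 0 := t.ne_zero
  simp only [← Matrix.mulVec_mulVec, nxL_mulVec, Matrix.diagonal_mulVec_single]
  fin_cases l <;>
    simp [sn, rt, tabD4, wt, Pi.single_apply] <;>
    rcases j with j | j <;> fin_cases j <;> rcases i with i | i <;> fin_cases i <;>
    simp [Pi.single_apply] <;> field_simp <;> ring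

/-- the monomial image of a word -/
theorem rho_nwc (w : List (Fin 4)) (j : J) :
    ((rho (C.G.nwc (K := K) (w.map nl)) : GL J K) : Matrix J J K).mulVec (Pi.single j 1) =
      Pi.single (sww w j) ((sgw w j : ℤ) : K) := by
  induction w with
  | nil =>
    simp only [Good.nwc, List.map_nil, List.prod_nil, map_one, Units.val_one, Matrix.one_mulVec,
      sww, sgw, Int.cast_one, Equiv.Perm.one_apply]
  | cons l w ih =>
    rw [List.map_cons, show C.G.nwc (K := K) (nl l :: w.map nl) = C.G.nc (nl l) (1 : K) * C.G.nwc (w.map nl)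
      from List.prod_cons, map_mul, Units.val_mul, ← Matrix.mulVec_mulVec, ih]
    have h := eqV_spec (nc_chk l (sww w j)) (1 : K) (1 : K)
    rw [ev_run] at h
    obtain ⟨h1, h2⟩ := sn_eq l
    have hm : ((rho (C.G.nc (nl l) (1 : K)) : GL J K) : Matrix J J K) =
        wordL (1 : K) 1 [(tabD4 (sn l).1.val, 1, 0, 0), (tabD4 (sn l).2.val, -1, 0, 0),
          (tabD4 (sn l).1.val, 1, 0, 0)] := by
      simp [Good.nc, h1, h2, rho_xc, wordL, mul_assoc]
    have hs : (Pi.single (sww w j) ((sgw w j : ℤ) : K) : J → K) =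
        ((sgw w j : ℤ) : K) • (Pi.single (sww w j) 1 : J → K) := by
      rw [← Pi.single_smul]; simp
    rw [hs, Matrix.mulVec_smul, hm, h]
    simp [ev, sww, sgw, ← Pi.single_smul, mul_comm]

theorem nl_surjective : ∀ i : Fin chevD4.rank, ∃ l, nl l = i := by decide +kernel

theorem hc_diag {h : chevD4.SteinbergCover K} (hh : h ∈ C.G.Hc (K := K)) :
    ∀ i j, i ≠ j → (rho h : Matrix J J K) i j = 0 := by
  induction hh using Subgroup.closure_induction with
  | mem x hx =>
    obtain ⟨i, t, ht, rfl⟩ := hx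
    obtain ⟨l, rfl⟩ := nl_surjective i
    intro i j hij
    rw [show t = ((Units.mk0 t ht : Kˣ) : K) from rfl, rho_hc]
    exact Matrix.diagonal_apply_ne _ hij
  | one => intro i j hij; simp [hij]
  | mul x y _ _ hx hy =>
    intro i j hij
    rw [map_mul, Units.val_mul, Matrix.mul_apply]
    refine Finset.sum_eq_zero fun k _ => ?_
    by_cases h : i = k
    · subst h; rw [hy i j hij, mul_zero]
    · rw [hx i k h, zero_mul]
  | inv x _ hx =>
    intro i j hij
    rw [map_inv, rho_inv, dual_apply]
    exact hx _ _ fun e => hij (by simpa using congrArg Sum.swap e.symm)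

theorem root_link : ∀ i j : J, j ≠ i → j ≠ i.swap →
    ∃ r : Fin chevD4.nroots, (tabD4 r.val).any (fun e => decide (e.2.2.1 = i ∧ e.2.2.2 = j)) = true ∧
      (tabD4 r.val).length = 2 ∧
      (tabD4 r.val).all (fun e => decide (e.1 = 1 ∧ (e.2.1 = 1 ∨ e.2.1 = -1) ∧
        e.2.2.1 ≠ e.2.2.2)) = true ∧
      ((tabD4 r.val).filter fun e => decide (e.2.2.1 = i ∧ e.2.2.2 = j)).length = 1 := by
  decide +kernel

theorem entry_of_link {i j : J} (h1 : j ≠ i) (h2 : j ≠ i.swap) :
    ∃ r : Fin chevD4.nroots, ∀ t : K, ∃ s : K, (s = t ∨ s = -t) ∧ nxL (tabD4 r.val) t i j = s := by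
  obtain ⟨r, -, -, hall, hlen⟩ := root_link i j h1 h2
  refine ⟨r, fun t => ?_⟩
  rw [List.all_eq_true] at hall
  simp only [decide_eq_true_eq] at hall
  have hij : (1 : Matrix J J K) i j = 0 := Matrix.one_apply_ne (Ne.symm h1)
  simp only [nxL, Matrix.add_apply, hij, zero_add]
  generalize tabD4 r.val = L at hall hlen ⊢
  have hzero : ∀ L : Ents J, (L.filter fun e => decide (e.2.2.1 = i ∧ e.2.2.2 = j)).length = 0 →
      (L.map fun e => Matrix.single e.2.2.1 e.2.2.2 ((e.2.1 : K) * t ^ e.1)).sum i j = 0 := by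
    intro L hL
    induction L with
    | nil => simp
    | cons e L ih =>
      by_cases he : e.2.2.1 = i ∧ e.2.2.2 = j
      · simp [he] at hL
      · rw [List.filter_cons_of_neg (by simpa using he)] at hL
        rw [List.map_cons, List.sum_cons, Matrix.add_apply, ih hL,
          Matrix.single_apply, if_neg he, add_zero]
  induction L with
  | nil => simp at hlen
  | cons e L ih =>
    rw [List.map_cons, List.sum_cons, Matrix.add_apply, Matrix.single_apply]
    by_cases he : e.2.2.1 = i ∧ e.2.2.2 = j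
    · rw [List.filter_cons_of_pos (by simpa using he), List.length_cons] at hlen
      rw [if_pos he, hzero L (Nat.succ.inj hlen), add_zero]
      obtain ⟨hd, hc, -⟩ := hall e List.mem_cons_self
      refine ⟨_, ?_, rfl⟩
      rw [hd, pow_one]
      rcases hc with h | h <;> simp [h]
    · rw [List.filter_cons_of_neg (by simpa using he)] at hlen
      rw [if_neg he, zero_add]
      exact ih (fun x hx => hall x (List.mem_cons_of_mem _ hx)) hlen

theorem kernel_scalar {g : chevD4.SteinbergCover K} (hg : C.theta g = 1) :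
    ∃ c : K, (c = 1 ∨ c = -1) ∧ (rho g : Matrix J J K) = c • 1 := by
  have hP := hasPair_tab (D := chevD4) (by simp) C
  set M := (rho g : Matrix J J K) with hM
  have hd : ∀ i j, i ≠ j → M i j = 0 := hc_diag (C.ker_le_Hc hP (MonoidHom.mem_ker.2 hg))
  have hcentral : ∀ r t, M * nxL (tabD4 r) t = nxL (tabD4 r) t * M ∨ chevD4.nroots ≤ r := by
    intro r t
    by_cases hr : r < chevD4.nroots
    · left
      have := congrArg (fun x => (rho x : Matrix J J K))
        (Subgroup.mem_center_iff.1 (C.theta_ker_central hP (MonoidHom.mem_ker.2 hg))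
          (C.G.xc ⟨r, hr⟩ t))
      simp only [map_mul, Units.val_mul, rho_xc] at this
      exact this.symm
    · exact Or.inr (by omega)
  have hlink : ∀ i j : J, j ≠ i → j ≠ i.swap → M i i = M j j := by
    intro i j h1 h2
    obtain ⟨r, hr⟩ := entry_of_link (K := K) h1 h2
    obtain ⟨s, hs, hs'⟩ := hr 1
    have e := ((hcentral r.val 1).resolve_right (by omega))
    have e' := congrFun (congrFun e i) j
    rw [Matrix.mul_apply, Matrix.mul_apply,
      Finset.sum_eq_single i (fun k _ hk => by rw [hd i k (Ne.symm hk), zero_mul]) (by simp),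
      Finset.sum_eq_single j (fun k _ hk => by rw [hd k j hk, mul_zero]) (by simp), hs'] at e'
    have hs0 : s ≠ 0 := by rcases hs with h | h <;> rw [h] <;> simp
    exact mul_right_cancel₀ hs0 (e'.trans (mul_comm _ _))
  have hex : ∀ i j : J, ∃ k, (k ≠ i ∧ k ≠ i.swap) ∧ j ≠ k ∧ j ≠ k.swap := by decide +kernel
  have hsame : ∀ i j : J, M i i = M j j := by
    intro i j
    obtain ⟨k, ⟨a1, a2⟩, a3, a4⟩ := hex i j
    exact (hlink i k a1 a2).trans (hlink k j a3 a4)
  set c := M (.inl 0) (.inl 0)
  have hMc : M = c • 1 := by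
    ext i j
    by_cases hij : i = j
    · subst hij; simp [hsame i (.inl 0), c]
    · simp [hd i j hij, Matrix.one_apply_ne hij]
  refine ⟨c, mul_self_eq_one_iff.1 ?_, hMc⟩
  have e := Units.mul_inv (rho g)
  rw [rho_inv, ← hM, hMc] at e
  have e' := congrFun (congrFun e (.inl 0)) (.inl 0)
  have hdual : dual (c • (1 : Matrix J J K)) = c • 1 := by
    ext i j
    rw [dual_apply, Matrix.smul_apply, Matrix.smul_apply,
      ← dual_apply (1 : Matrix J J K) i j, dual_one]
  rw [hdual] at e'
  simpa using e'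

theorem det_rho (g : chevD4.SteinbergCover K) : (rho g : Matrix J J K).det = 1 := by
  have hperf : commutator (chevD4.SteinbergCover K) = ⊤ := by
    refine CoverPerfect.cover_perfect chevD4 (by simp) fun h => ?_
    simp only [List.mem_cons, List.not_mem_nil, or_false] at h
    rcases h with h | h <;>
      exact absurd (congrArg ChevalleyDatum.nroots h) (by decide +kernel)
  let f : chevD4.SteinbergCover K →* Kˣ := (Matrix.GeneralLinearGroup.det).comp rho
  have h := Abelianization.commutator_subset_ker f (show g ∈ commutator _ by rw [hperf]; trivial)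
  rw [← Matrix.GeneralLinearGroup.val_det_apply]
  exact congrArg Units.val (show f g = 1 from h)

end CfsgLib.Lie.AltSection.D4Nat
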