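import Cfsg.Agent.Lib.Lie.AltSection.Torus
import Cfsg.Agent.Lib.Lie.Chev.Tw.Card

/-!
# Automorphisms of diagonal subgroups induced by fixed elements of a twist

A fixed element acts as an element of the centraliser of the diagram symmetry in the Weyl group.
-/

set_option autoImplicit false

namespace CfsgLib.Lie.AltSection

open Cfsg.Lie CfsgLib.Lie.Chev CfsgLib.Lie.CoxTorus
open scoped MatrixGroups

variable {D : ChevalleyDatum} {C : Full D} {K : Type*} [Field K] (T : Twist C.G K)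

/-- one element of the centraliser of the symmetry serves all pairs of diagonal elements -/
theorem twist_common_fix {g : GL D.Idx K} (hg : g ∈ T.Fix) :
    ∃ π ∈ Wp C.G T.p, ∀ a b : Fin D.rank → Kˣ, C.G.tor a ∈ D.diagonalSubgroup K →
      C.G.tor b ∈ D.diagonalSubgroup K → g * C.G.tor a = C.G.tor b * g →
      ∀ s, C.G.chi b (C.G.rho (π s)) = C.G.chi a (C.G.rho s) := by
  obtain ⟨v, n, u, π, ⟨-, hv⟩, ⟨-, hnm⟩, hπ, hnπ, ⟨-, hu⟩, rfl⟩ := T.fix_bruhat hg
  refine ⟨π, hπ, fun a b ha hb h => ?_⟩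
  have hna : n * C.G.tor a * n⁻¹ ∈ D.diagonalSubgroup K :=
    (Subgroup.mem_normalizer_iff.1 (C.G.monomial_le_normalizer hnm) _).1 ha
  have hu' := C.G.Uinv_congr_H (inv_mem ha) π hu
  rw [inv_inv] at hu'
  have e : (v * (n * C.G.tor a * n⁻¹)) * n * ((C.G.tor a)⁻¹ * u * C.G.tor a) =
      (C.G.tor b * v) * n * u := by
    calc (v * (n * C.G.tor a * n⁻¹)) * n * ((C.G.tor a)⁻¹ * u * C.G.tor a)
        = v * n * u * C.G.tor a := by group
      _ = C.G.tor b * (v * n * u) := h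
      _ = (C.G.tor b * v) * n * u := by group
  obtain ⟨e1, -⟩ := C.refined_unique
    (mul_mem (Subgroup.mem_sup_left hv) (Subgroup.mem_sup_right hna))
    (mul_mem (Subgroup.mem_sup_right hb) (Subgroup.mem_sup_left hv)) hnπ hu' hu e
  have hbw : C.G.tor b * v * (C.G.tor b)⁻¹ ∈ D.posUnipotent K :=
    (Subgroup.mem_normalizer_iff.1 (C.G.H_normalizes_U hb) v).1 hv
  obtain ⟨-, e4⟩ := C.G.eq_one_of_U_H (mul_mem (inv_mem hbw) hv) (mul_mem hna (inv_mem hb)) (by
    calc (C.G.tor b * v * (C.G.tor b)⁻¹)⁻¹ * v * (n * C.G.tor a * n⁻¹ * (C.G.tor b)⁻¹)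
        = C.G.tor b * v⁻¹ * (C.G.tor b)⁻¹ * (v * (n * C.G.tor a * n⁻¹)) * (C.G.tor b)⁻¹ := by group
      _ = 1 := by rw [e1]; group)
  exact chi_of_conj C hnπ (mul_inv_eq_iff_eq_mul.1 (mul_inv_eq_one.1 e4))

/-- a power trivial on the centraliser of the symmetry centralises -/
theorem pow_centralizes_fix {g : GL D.Idx K} (hg : g ∈ T.Fix)
    {A : Subgroup (GL D.Idx K)} (hA : A ≤ D.diagonalSubgroup K) (hn : ∀ x ∈ A, g * x * g⁻¹ ∈ A)
    {m : ℕ} (hm : ∀ π ∈ Wp C.G T.p, π ^ m = 1) {x : GL D.Idx K} (hx : x ∈ A) :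
    g ^ m * x * (g ^ m)⁻¹ = x := by
  obtain ⟨π, hπ, hπc⟩ := twist_common_fix T hg
  have hact : ∀ (n : ℕ) (a : Fin D.rank → Kˣ), C.G.tor a ∈ A → ∃ b, C.G.tor b ∈ A ∧
      g ^ n * C.G.tor a * (g ^ n)⁻¹ = C.G.tor b ∧
      ∀ s, C.G.chi b (C.G.rho ((π ^ n) s)) = C.G.chi a (C.G.rho s) := by
    intro n
    induction n with
    | zero => exact fun a ha => ⟨a, ha, by simp, fun s => rfl⟩
    | succ n ih =>
      intro a ha
      obtain ⟨b, hb, hgb, hchi⟩ := ih a ha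
      obtain ⟨b', hb'⟩ := C.G.exists_tor (hA (hn _ hb))
      refine ⟨b', hb' ▸ hn _ hb, ?_, fun s => ?_⟩
      · rw [← hb', ← hgb, pow_succ']; group
      · rw [pow_succ', Equiv.Perm.mul_apply,
          hπc b b' (hA hb) (hb' ▸ hA (hn _ hb)) (by rw [← hb']; group), hchi]
  obtain ⟨a, rfl⟩ := C.G.exists_tor (hA hx)
  obtain ⟨b, -, hb, hchi⟩ := hact m a hx
  rw [hb, eq_of_chi C (a := a) (b := b) fun s => by simpa [hm π hπ] using hchi s]

/-- an `r`-subgroup is conjugate into a subgroup of index prime to `r` -/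
theorem exists_conj_of_index {G : Type*} [Group G] [Finite G] {r : ℕ} [Fact r.Prime] (T : Subgroup G)
    (hidx : ¬ r ∣ T.index) {H : Type*} [Group H] (hH : IsPGroup r H) (φ : H →* G) :
    ∃ c : G, ∀ x, c⁻¹ * φ x * c ∈ T := by
  obtain ⟨v, hv⟩ := (hH.of_surjective φ.rangeRestrict
    φ.rangeRestrict_surjective).nonempty_fixed_point_of_prime_not_dvd_card (G ⧸ T)
    (by rwa [← Subgroup.index_eq_card])
  induction v using QuotientGroup.induction_on with
  | H c =>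
    refine ⟨c, fun x => ?_⟩
    have h5 := hv ⟨φ x, x, rfl⟩
    have h6 : c⁻¹ * (φ x * c) ∈ T := (QuotientGroup.eq).1 h5.symm
    rwa [mul_assoc]

end CfsgLib.Lie.AltSection
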