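import Cfsg.Agent.Lib.Lie.AltSection.StatesG2
import Cfsg.Agent.Lib.Lie.AltSection.StatesF4
import Cfsg.Agent.Lib.Lie.Chev.CoxTorus.Data

/-!
# The orders of the elements of the Weyl groups of types G₂ and F₄
-/

set_option autoImplicit false
set_option maxRecDepth 100000
set_option maxHeartbeats 2000000

namespace CfsgLib.Lie.AltSection

open Cfsg.Lie CfsgLib.Lie.Chev CfsgLib.Lie.CoxTorus

theorem closedG2 : chkClosed chevG2 fastG2 statesG2 = true := by decide +kernel

theorem sixG2 : (allLt statesG2.m fun k => chkOne chevG2 (statesG2.P.get k) 6) = true := by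
  decide +kernel

theorem closedF4 : chkClosed chevF4 fastF4 statesF4 = true := by decide +kernel

theorem ordersF4 : (allLt statesF4.m fun k =>
    chkOne chevF4 (statesF4.P.get k) 8 || chkOne chevF4 (statesF4.P.get k) 6 ||
      chkTwelve chevF4 fastF4 (statesF4.P.get k)) = true := by
  decide +kernel

/-- the exponent of the Weyl group of type G₂ -/
theorem pow_six_G2 {π : Equiv.Perm (Fin chevG2.nroots)} (hπ : π ∈ cG2.G.Wg) : π ^ 6 = 1 := by
  obtain ⟨k, hk, h⟩ := exists_state cG2.G checksG2 closedG2 hπ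
  exact pow_eq_one_of_chk h (allLt_spec sixG2 k hk)

/-- the elements of the Weyl group of type F₄ have order dividing `6` or `8`, or are Coxeter elements -/
theorem orders_F4 {π : Equiv.Perm (Fin chevF4.nroots)} (hπ : π ∈ cF4.G.Wg) :
    π ^ 8 = 1 ∨ π ^ 6 = 1 ∨
      ∀ r, cF4.G.rho ((π ^ 4) r) + cF4.G.rho r = cF4.G.rho ((π ^ 2) r) := by
  obtain ⟨k, hk, h⟩ := exists_state cF4.G checksF4 closedF4 hπ
  have := allLt_spec ordersF4 k hk
  simp only [Bool.or_eq_true] at this
  rcases this with (h8 | h6) | h12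
  · exact Or.inl (pow_eq_one_of_chk h h8)
  · exact Or.inr (Or.inl (pow_eq_one_of_chk h h6))
  · exact Or.inr (Or.inr fun r => twelve_of_chk h h12 r)

end CfsgLib.Lie.AltSection
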