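import Cfsg.Agent.Lib.Lie.AltSection.D4Key
import Cfsg.Agent.Lib.Lie.AltSection.Twisted
import Cfsg.Agent.Lib.Lie.AltSection.WeylFacts
import Mathlib.FieldTheory.Finite.Extension

/-!
# Subgroups of prime power order in ³D₄(q) for `q ≡ 1` modulo the prime

For `r = 3` they lie, up to conjugation, in the extension of the diagonal subgroup by the element `n`
of order three; for `r = 5` in the diagonal subgroup.
-/

set_option autoImplicit false
set_option maxRecDepth 100000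
set_option maxHeartbeats 1000000

namespace CfsgLib.Lie.AltSection.D4Nat

open Cfsg.Lie CfsgLib.Lie.Chev CfsgLib.Lie.CoxTorus TD4
open scoped MatrixGroups

variable {K : Type*} [Field K]

theorem index_five : (1 : ZMod 5) ^ 12 * (1 + 1 + 1 ^ 3 + 2 * 1 ^ 4 + 1 ^ 5 + 1 ^ 7 + 2 * 1 ^ 8 +
    1 ^ 9 + 1 ^ 11 + 1 ^ 12) ≠ 0 := by decide +kernel

theorem index_nine : ∀ x : ZMod 9, (ZMod.castHom (show 3 ∣ 9 by norm_num) (ZMod 3)) x = 1 →
    x ^ 12 * (1 + x + x ^ 3 + 2 * x ^ 4 + x ^ 5 + x ^ 7 + 2 * x ^ 8 + x ^ 9 + x ^ 11 + x ^ 12) ≠ 0 := by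
  decide +kernel

theorem nG_monomial : (nG : GL chevD4.Idx K) ∈ chevD4.monomialSubgroup K :=
  C.G.nw_mem_monomial wd3

theorem nG_nPerm : C.G.NPerm (nG : GL chevD4.Idx K) (C.G.pw wd3) := C.G.nPerm_nw wd3

theorem nG_not_mem : (nG : GL chevD4.Idx K) ∉ chevD4.diagonalSubgroup K := fun h => by
  have h1 : C.G.pw wd3 = 1 := Good.NPerm.unique C.G nG_nPerm (C.G.nPerm_H h)
  exact absurd h1 (by decide +kernel)

theorem nG_conj {x : GL chevD4.Idx K} (hx : x ∈ chevD4.diagonalSubgroup K) :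
    nG * x * nG⁻¹ ∈ chevD4.diagonalSubgroup K :=
  (Subgroup.mem_normalizer_iff.1 (C.G.monomial_le_normalizer nG_monomial) x).1 hx

theorem nG_pow_four : (nG : GL chevD4.Idx K) ^ 4 = nG := by
  rw [pow_succ, nG_cube, one_mul]

/-- the extension of the diagonal subgroup by `n` -/
noncomputable def ext3 (K : Type*) [Field K] : Subgroup (GL chevD4.Idx K) where
  carrier := {x | ∃ i : ℤ, x * nG ^ i ∈ chevD4.diagonalSubgroup K}
  one_mem' := ⟨0, by simp⟩
  mul_mem' := by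
    rintro x y ⟨i, hi⟩ ⟨j, hj⟩
    refine ⟨j + i, ?_⟩
    have hn : (nG : GL chevD4.Idx K) ^ i ∈ Subgroup.normalizer
        (chevD4.diagonalSubgroup K : Set (GL chevD4.Idx K)) :=
      zpow_mem (C.G.monomial_le_normalizer nG_monomial) i
    have h := mul_mem hi ((Subgroup.mem_normalizer_iff''.1 hn _).1 hj)
    have e : x * y * nG ^ (j + i) = x * nG ^ i * ((nG ^ i)⁻¹ * (y * nG ^ j) * nG ^ i) := by
      rw [zpow_add]; group
    rw [e]; exact h
  inv_mem' := by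
    rintro x ⟨i, hi⟩
    refine ⟨-i, ?_⟩
    have hn : (nG : GL chevD4.Idx K) ^ i ∈ Subgroup.normalizer
        (chevD4.diagonalSubgroup K : Set (GL chevD4.Idx K)) :=
      zpow_mem (C.G.monomial_le_normalizer nG_monomial) i
    have h := (Subgroup.mem_normalizer_iff.1 hn _).1 (inv_mem hi)
    have e : x⁻¹ * nG ^ (-i) = nG ^ i * (x * nG ^ i)⁻¹ * (nG ^ i)⁻¹ := by group
    rw [e]; exact h

theorem mem_ext3 {x : GL chevD4.Idx K} (hx : x ∈ ext3 K) :
    x ∈ chevD4.diagonalSubgroup K ∨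
      ∃ i : ℕ, (i = 1 ∨ i = 2) ∧ x * (nG ^ i)⁻¹ ∈ chevD4.diagonalSubgroup K := by
  obtain ⟨i, hi⟩ := hx
  have e : (nG : GL chevD4.Idx K) ^ i = nG ^ (i % 3) := by
    conv_lhs => rw [← Int.emod_add_mul_ediv i 3, zpow_add, zpow_mul,
      show ((3 : ℤ)) = ((3 : ℕ) : ℤ) from rfl, zpow_natCast, nG_cube, one_zpow, mul_one]
    rfl
  rw [e] at hi
  have h0 := Int.emod_nonneg i (by norm_num : (3 : ℤ) ≠ 0)
  have h3 := Int.emod_lt_of_pos i (by norm_num : (0 : ℤ) < 3)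
  rcases (show i % 3 = 0 ∨ i % 3 = 1 ∨ i % 3 = 2 by omega) with h | h | h <;> rw [h] at hi
  · left; simpa using hi
  · refine Or.inr ⟨2, Or.inr rfl, ?_⟩
    rw [← show (nG : GL chevD4.Idx K) = (nG ^ 2)⁻¹ from eq_inv_of_mul_eq_one_left (by
      rw [← pow_succ', nG_cube])]
    simpa using hi
  · refine Or.inr ⟨1, Or.inl rfl, ?_⟩
    rw [pow_one, show (nG : GL chevD4.Idx K)⁻¹ = nG ^ (2 : ℤ) from
      inv_eq_of_mul_eq_one_right (by
        rw [show (2 : ℤ) = ((2 : ℕ) : ℤ) from rfl, zpow_natCast, ← pow_succ', nG_cube])]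
    exact hi

theorem ext3_normalizes {x : GL chevD4.Idx K} (hx : x ∈ ext3 K) :
    x ∈ Subgroup.normalizer (chevD4.diagonalSubgroup K : Set (GL chevD4.Idx K)) := by
  obtain ⟨i, hi⟩ := hx
  have := mul_mem (C.G.monomial_le_normalizer (C.G.H_le_monomial hi))
    (inv_mem (zpow_mem (C.G.monomial_le_normalizer nG_monomial) i))
  simpa using this

theorem ext3_cube {x : GL chevD4.Idx K} (hx : x ∈ ext3 K) :
    x ^ 3 ∈ chevD4.diagonalSubgroup K := by
  rcases mem_ext3 hx with h | ⟨i, -, h⟩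
  · exact pow_mem h 3
  set t := x * (nG ^ i)⁻¹
  have ht : x = t * nG ^ i := by simp [t]
  have hn : ∀ y ∈ chevD4.diagonalSubgroup K,
      nG ^ i * y * (nG ^ i)⁻¹ ∈ chevD4.diagonalSubgroup K := fun y hy =>
    (Subgroup.mem_normalizer_iff.1 (pow_mem (C.G.monomial_le_normalizer nG_monomial) i) y).1 hy
  have hcube : ((nG : GL chevD4.Idx K) ^ i) ^ 3 = 1 := by
    rw [← pow_mul, mul_comm, pow_mul, nG_cube, one_pow]
  rw [ht, show (t * nG ^ i) ^ 3 = t * (nG ^ i * (t * (nG ^ i * t * (nG ^ i)⁻¹)) * (nG ^ i)⁻¹) *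
    (nG ^ i) ^ 3 by simp only [pow_succ, pow_zero, one_mul]; group, hcube, mul_one]
  exact mul_mem h (hn _ (mul_mem h (hn _ h)))

theorem commute_of_outside {x b : GL chevD4.Idx K} (hx : x ∈ ext3 K)
    (hd : x ∉ chevD4.diagonalSubgroup K) (hb : b ∈ chevD4.diagonalSubgroup K)
    (h : x * b = b * x) : nG * b = b * nG := by
  obtain ⟨i, hi, ht⟩ := (mem_ext3 hx).resolve_left hd
  set t := x * (nG ^ i)⁻¹
  have hxe : x = t * nG ^ i := by simp [t]
  clear_value t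
  have h2 : Commute (nG ^ i) b := mul_left_cancel (a := t) (by
    rw [← mul_assoc, ← hxe, h, hxe, ← mul_assoc, ← mul_assoc, C.G.diagonal_comm hb ht])
  rcases hi with rfl | rfl
  · simpa using h2.eq
  · have h4 := h2.pow_left 2
    rw [← pow_mul, show 2 * 2 = 4 from rfl, nG_pow_four] at h4
    exact h4.eq

/-- the parameters of the fixed diagonal elements of order three -/
noncomputable def cst (v : Kˣ) : Fin chevD4.rank → Kˣ := fun l => if l = nl 1 then 1 else v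

theorem nl_ne : nl 0 ≠ nl 1 ∧ nl 2 ≠ nl 1 ∧ nl 3 ≠ nl 1 := by decide +kernel

theorem cst_values (v : Kˣ) :
    cst v (nl 0) = v ∧ cst v (nl 1) = 1 ∧ cst v (nl 2) = v ∧ cst v (nl 3) = v := by
  obtain ⟨a, b, c⟩ := nl_ne
  exact ⟨if_neg a, if_pos rfl, if_neg b, if_neg c⟩

variable (θ : K ≃+* K) {q : ℕ}

theorem nG_mem (hθ : ∀ x, θ x = x ^ q) : (nG : GL chevD4.Idx K) ∈ twistedD4 K q := by
  obtain ⟨n1, n2, n3, n4⟩ := negr_rt
  obtain ⟨o1, o2, o3⟩ := orth_135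
  obtain ⟨s0, s1, s2, s3⟩ := simp_rt
  have hone : C.G.nE (rt 14) (1 : K) ∈ twistedD4 K q := by
    simp only [Good.nE, n4]
    exact mul_mem (mul_mem (single_mem θ hθ (map_one θ)).1
      (single_mem θ hθ (by rw [map_neg, map_inv₀, map_one])).2) (single_mem θ hθ (map_one θ)).1
  have hthree : ∀ b : K, θ b = b → C.G.nE (rt 18) b * C.G.nE (rt 13) b * C.G.nE (rt 12) b ∈
      twistedD4 K q := by
    intro b hb
    rw [C.nE_triple o1 o2 o3, n1, n2, n3]
    have h1 := (triple_mem θ hθ).1 b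
    have h2 := (triple_mem θ hθ).2 (-b⁻¹)
    simp only [x3, map_neg, map_inv₀, hb] at h1 h2
    exact mul_mem (mul_mem h1 h2) h1
  have e : (nG : GL chevD4.Idx K) = C.G.nE (rt 14) 1 *
      (C.G.nE (rt 18) 1 * C.G.nE (rt 13) 1 * C.G.nE (rt 12) 1) * C.G.nE (rt 14) 1 *
      (C.G.nE (rt 18) (-1) * C.G.nE (rt 13) (-1) * C.G.nE (rt 12) (-1))⁻¹ := by
    have hi : ∀ r : Fin chevD4.nroots, (C.G.nE r (-1 : K))⁻¹ = C.G.nE r 1 := fun r => by
      simp [Good.nE, C.G.xu_inv, mul_assoc]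
    rw [mul_inv_rev, mul_inv_rev, hi, hi, hi, ← s0, ← s1, ← s2, ← s3]
    simp only [nG, Good.nw, wd3, w3, nl, List.map_cons, List.map_nil, List.prod_cons, List.prod_nil,
      C.G.nE_simp_one, mul_one, mul_assoc]
    rfl
  rw [e]
  exact mul_mem (mul_mem (mul_mem hone (hthree 1 (map_one θ))) hone)
    (inv_mem (hthree (-1) (by rw [map_neg, map_one])))

/-- parameters of a diagonal element of the twisted group -/
theorem exists_params (hθ : ∀ x, θ x = x ^ q) (h3 : ∀ t : K, θ (θ (θ t)) = t)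
    {t : GL chevD4.Idx K} (ht : t ∈ chevD4.diagonalSubgroup K) (htw : t ∈ twistedD4 K q) :
    ∃ c, t = C.G.torθ c ∧ θ (c (nl 1) : K) = (c (nl 1) : K) ∧
      (c (nl 2) : K) = θ (c (nl 0) : K) ∧ (c (nl 3) : K) = θ (θ (c (nl 0) : K)) := by
  obtain ⟨c, rfl, hc⟩ := (twist θ).exists_fixed_tor_three
    (Subgroup.mem_inf.2 ⟨le_Fix θ hθ h3 htw, ht⟩) (σT_three θ h3) fun z hz => ker_sq hz
  exact ⟨c, rfl, fixed_params θ hc⟩

/-- an element outside the diagonal subgroup has a lift of the shape needed -/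
theorem exists_outer (hθ : ∀ x, θ x = x ^ q) (h3 : ∀ t : K, θ (θ (θ t)) = t)
    {x : GL chevD4.Idx K} (hx : x ∈ ext3 K) (hd : x ∉ chevD4.diagonalSubgroup K)
    (htw : x ∈ twistedD4 K q) :
    ∃ (xt : chevD4.SteinbergCover K) (lam : K), lam ≠ 0 ∧ C.theta xt = x ∧
      Outer (rho xt : Matrix J J K) lam := by
  obtain ⟨i, hi, ht⟩ := (mem_ext3 hx).resolve_left hd
  obtain ⟨c, hc, -⟩ := exists_params θ hθ h3 ht (mul_mem htw (inv_mem (pow_mem (nG_mem θ hθ) i)))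
  obtain ⟨lam, hl, hM⟩ := outer_of c hi
  refine ⟨_, lam, hl, ?_, hM⟩
  rw [map_mul, map_pow, theta_lift, theta_nT, ← hc, inv_mul_cancel_right]

theorem gcd_pow_bound {n k : ℕ} (h2 : ¬ 2 ∣ n) (h9 : ¬ 9 ∣ n) : Nat.gcd n (2 * 3 ^ k) ∣ 3 := by
  have hc : Nat.Coprime (Nat.gcd n (2 * 3 ^ k)) 2 :=
    Nat.Coprime.coprime_dvd_left (Nat.gcd_dvd_left _ _)
      ((Nat.Prime.coprime_iff_not_dvd Nat.prime_two).2 h2).symm
  obtain ⟨j, -, hj⟩ := (Nat.dvd_prime_pow Nat.prime_three).1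
    (hc.dvd_of_dvd_mul_left (Nat.gcd_dvd_right n (2 * 3 ^ k)))
  rw [hj]
  rcases Nat.lt_or_ge j 2 with h | h
  · exact (pow_dvd_pow 3 (show j ≤ 1 by omega)).trans (by norm_num)
  · exact absurd ((pow_dvd_pow 3 h).trans (hj ▸ Nat.gcd_dvd_left _ _)) h9

/-- the fixed diagonal elements of three-power order -/
theorem fixed_three (hθ : ∀ x, θ x = x ^ q) (h3 : ∀ t : K, θ (θ (θ t)) = t)
    (hq : (q : ZMod 3) = 1) {t : GL chevD4.Idx K} (ht : t ∈ chevD4.diagonalSubgroup K)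
    (htw : t ∈ twistedD4 K q) (hn : nG * t = t * nG) {k : ℕ} (hk : t ^ 3 ^ k = 1) :
    ∃ v : Kˣ, v ^ 3 = 1 ∧ t = C.G.torθ (cst v) := by
  obtain ⟨c, rfl, -, f2, f3⟩ := exists_params θ hθ h3 ht htw
  obtain ⟨h1, hN⟩ := fixed_values hn
  set v := c (nl 0)
  have e2 : c (nl 2) = v ^ q := Units.ext (by rw [f2, hθ, Units.val_pow_eq_pow_val])
  have e3 : c (nl 3) = v ^ (q * q) := Units.ext (by
    rw [f3, hθ, hθ, ← pow_mul, Units.val_pow_eq_pow_val])
  have hn1 : v ^ (1 + q + q * q) = 1 := by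
    rw [pow_add, pow_add, pow_one, ← e2, ← e3]; exact hN
  have hn2 : v ^ (2 * 3 ^ k) = 1 := by
    have := congrFun (ker_sq (z := c ^ 3 ^ k) (by rw [map_pow, hk])) (nl 0)
    simp only [Pi.mul_apply, Pi.pow_apply, Pi.one_apply] at this
    rwa [two_mul, pow_add]
  have h9 : ¬ 9 ∣ 1 + q + q * q := by
    intro hd
    have key : ∀ x : ZMod 9, (ZMod.castHom (show 3 ∣ 9 by norm_num) (ZMod 3)) x = 1 →
        1 + x + x * x ≠ 0 := by decide +kernel
    refine key q (by rw [map_natCast]; exact hq) ?_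
    exact_mod_cast (ZMod.natCast_eq_zero_iff _ 9).2 hd
  have h2 : ¬ 2 ∣ 1 + q + q * q := by
    rw [← even_iff_two_dvd, Nat.not_even_iff_odd, show 1 + q + q * q = q * (q + 1) + 1 by ring]
    exact (Nat.even_mul_succ_self q).add_one
  have hv : v ^ 3 = 1 := by
    obtain ⟨m, hm⟩ := gcd_pow_bound (k := k) h2 h9
    rw [hm, pow_mul, pow_gcd_eq_one.2 ⟨hn1, hn2⟩, one_pow]
  have hvq : v ^ q = v := by
    have hm : q % 3 = 1 := by
      have := (ZMod.natCast_eq_natCast_iff' q 1 3).1 (by rw [hq, Nat.cast_one])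
      simpa using this
    conv_lhs => rw [← Nat.mod_add_div q 3, pow_add, pow_mul, hv, one_pow, mul_one, hm, pow_one]
  refine ⟨v, hv, ?_⟩
  congr 1
  funext l
  obtain ⟨a, b, cc, d⟩ := cst_values v
  obtain ⟨l, rfl⟩ := nl_surjective l
  fin_cases l
  · exact a.symm
  · exact h1.trans b.symm
  · exact e2.trans (hvq.trans cc.symm)
  · exact e3.trans (by rw [pow_mul, hvq, hvq]; exact d.symm)

theorem fixed_unique {v w : Kˣ} (hv : v ^ 3 = 1) (hv1 : v ≠ 1) (hw : w ^ 3 = 1) :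
    ∃ k : ℕ, C.G.torθ (cst w) = C.G.torθ (cst v) ^ k := by
  classical
  haveI : Fact (Nat.Prime 3) := ⟨Nat.prime_three⟩
  haveI : NeZero (3 : ℕ) := ⟨by norm_num⟩
  have hprim : IsPrimitiveRoot (v : K) 3 := by
    rw [IsPrimitiveRoot.iff_orderOf]
    exact orderOf_eq_prime (by rw [← Units.val_pow_eq_pow_val, hv, Units.val_one])
      fun e => hv1 (Units.ext e)
  obtain ⟨k, -, hk⟩ := hprim.eq_pow_of_pow_eq_one
    (show (w : K) ^ 3 = 1 by rw [← Units.val_pow_eq_pow_val, hw, Units.val_one])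
  refine ⟨k, ?_⟩
  rw [← map_pow]
  congr 1
  funext l
  simp only [cst, Pi.pow_apply]
  split_ifs with h
  · rw [one_pow]
  · exact Units.ext (by rw [Units.val_pow_eq_pow_val]; exact hk.symm)

variable [Fintype K]

/-- the Weyl group of the twist has exponent six -/
theorem wp_pow_six {π : Equiv.Perm (Fin chevD4.nroots)} (hπ : π ∈ Wp C.G (twist θ).p) :
    π ^ 6 = 1 := by
  have hne : Nat.card (CoxeterMatrix.G₂).Group = 12 := by
    obtain ⟨ψ, -⟩ := exists_equivG2 goodG2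
    rw [Nat.card_congr ψ.toEquiv, cardWgG2]
  have hrel : ∀ (i j : Fin 2), ∀ r < chevD4.nroots,
      tabPow (orbGraphD4.tab.get i.val) (orbGraphD4.tab.get j.val) (CoxeterMatrix.G₂ i j) r = r := by
    decide +kernel
  obtain ⟨e⟩ := (orbits θ).exists_coxeter_equiv CoxeterMatrix.G₂
    (fun i : Fin 2 => (⟨i.val, i.isLt⟩ : Fin orbGraphD4.no)) (fun o => ⟨⟨o.val, o.isLt⟩, rfl⟩)
    (fun i j => (orbits θ).pow_eq_one_of_tab (fun o => orbGraphD4.tab.get o.val) (wO_val θ) _ _ _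
      (hrel i j))
    (by rw [hne]; norm_num) (by
      rw [(orbits θ).card_Wp (wO_val θ) chkEnum_graphD4, hne]
      rfl)
  obtain ⟨ψ, -⟩ := exists_equivG2 cG2.G
  have h : (⟨π, hπ⟩ : ↥(Wp C.G (twist θ).p)) ^ 6 = 1 := by
    apply (e.trans ψ).injective
    rw [map_pow, map_one]
    exact Subtype.ext (pow_six_G2 (e.trans ψ ⟨π, hπ⟩).2)
  exact congrArg Subtype.val h

omit θ

/-- the index of the diagonal subgroup -/
theorem index_diag (hq : IsPrimePow q) (hK : Fintype.card K = q ^ 3) :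
    ((chevD4.diagonalSubgroup K).subgroupOf (twistedD4 K q)).index =
      q ^ 12 * (1 + q + q ^ 3 + 2 * q ^ 4 + q ^ 5 + q ^ 7 + 2 * q ^ 8 + q ^ 9 + q ^ 11 + q ^ 12) := by
  obtain ⟨-, -, hH, hG, -⟩ := TD4.summary (K := K) hq hK
  rw [← Subgroup.index_mul_card ((chevD4.diagonalSubgroup K).subgroupOf (twistedD4 K q))] at hG
  have hc : Nat.card ↥((chevD4.diagonalSubgroup K).subgroupOf (twistedD4 K q)) =
      (q - 1) * (q ^ 3 - 1) := by
    rw [← hH, ← Subgroup.inf_subgroupOf_right]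
    exact Nat.card_congr (Subgroup.subgroupOfEquivOfLe inf_le_right).toEquiv
  have hpos : 0 < (q - 1) * (q ^ 3 - 1) := hc ▸ Nat.card_pos
  rw [hc] at hG
  exact Nat.eq_of_mul_eq_mul_right hpos (by rw [hG]; ring)

/-- five-subgroups are conjugate into the diagonal subgroup -/
theorem exists_conj_five (hq : IsPrimePow q) (hK : Fintype.card K = q ^ 3) (h5 : (q : ZMod 5) = 1)
    {H : Type*} [Group H] (hH : IsPGroup 5 H) (φ : H →* ↥(twistedD4 K q)) :
    ∃ c ∈ twistedD4 K q, ∀ x, c⁻¹ * (φ x : GL chevD4.Idx K) * c ∈ chevD4.diagonalSubgroup K := by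
  haveI : Fact (Nat.Prime 5) := ⟨by norm_num⟩
  obtain ⟨c, hc⟩ := exists_conj_of_index _ (by
    rw [index_diag hq hK, ← ZMod.natCast_eq_zero_iff]
    push_cast
    rw [h5]; exact index_five) hH φ
  exact ⟨c.1, c.2, fun x => hc x⟩

/-- three-subgroups are conjugate into the extension by `n` -/
theorem exists_conj_ext3 (hq : IsPrimePow q) (hK : Fintype.card K = q ^ 3) (h3q : (q : ZMod 3) = 1)
    {H : Type*} [Group H] (hH : IsPGroup 3 H) (φ : H →* ↥(twistedD4 K q)) :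
    ∃ c ∈ twistedD4 K q, ∀ x, c⁻¹ * (φ x : GL chevD4.Idx K) * c ∈ ext3 K := by
  classical
  haveI : Fact (Nat.Prime 3) := ⟨Nat.prime_three⟩
  obtain ⟨θ, hθ⟩ := Frob.exists_powEquiv (K := K) hq hK
  set T' := (chevD4.diagonalSubgroup K).subgroupOf (twistedD4 K q)
  set X' := (ext3 K).subgroupOf (twistedD4 K q)
  have hTX : T' ≤ X' := fun x hx => by
    refine ⟨0, ?_⟩
    rw [zpow_zero, mul_one]
    exact hx
  have h9 : ¬ 9 ∣ T'.index := by
    rw [index_diag hq hK, ← ZMod.natCast_eq_zero_iff]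
    push_cast
    exact index_nine q (by rw [map_natCast]; exact h3q)
  obtain ⟨c, hc⟩ := exists_conj_of_index X' (fun hd => by
    rw [← Subgroup.relIndex_mul_index hTX] at h9
    have hr : ¬ 3 ∣ T'.relIndex X' := fun h => h9 (by
      rw [show 9 = 3 * 3 by norm_num]; exact Nat.mul_dvd_mul h hd)
    haveI : (T'.subgroupOf X').Normal := by
      refine ⟨fun t ht g => ?_⟩
      exact (Subgroup.mem_normalizer_iff.1 (ext3_normalizes g.2) _).1 ht
    set n' : X' := ⟨⟨nG, nG_mem θ hθ⟩, ⟨-1, by simp⟩⟩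
    have h1 : n' ^ (T'.subgroupOf X').index ∈ T'.subgroupOf X' := Subgroup.pow_index_mem _ _
    have h2 : n' ^ 3 ∈ T'.subgroupOf X' := by
      show (nG : GL chevD4.Idx K) ^ 3 ∈ chevD4.diagonalSubgroup K
      rw [nG_cube]; exact one_mem _
    have hcop : Nat.Coprime 3 (T'.subgroupOf X').index :=
      (Nat.Prime.coprime_iff_not_dvd Nat.prime_three).2 hr
    have h3 : n' ∈ T'.subgroupOf X' := by
      have e : n' = (n' ^ 3) ^ Nat.gcdA 3 (T'.subgroupOf X').index *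
          (n' ^ (T'.subgroupOf X').index) ^ Nat.gcdB 3 (T'.subgroupOf X').index := by
        rw [← zpow_natCast n' 3, ← zpow_natCast n' (T'.subgroupOf X').index, ← zpow_mul, ← zpow_mul,
          ← zpow_add, ← Nat.gcd_eq_gcd_ab, hcop.gcd_eq_one, Nat.cast_one, zpow_one]
      rw [e]
      exact mul_mem (zpow_mem h2 _) (zpow_mem h1 _)
    exact nG_not_mem (K := K) h3) hH φ
  exact ⟨c.1, c.2, fun x => hc x⟩

omit [Fintype K]

/-- the twisted group over `q` maps into the one over `q⁴` -/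
theorem fmap_twisted {L : Type*} [Field L] (ι : K →+* L) (hq : ∀ t : K, t ^ q ^ 4 = t ^ q)
    {g : GL chevD4.Idx K} (hg : g ∈ twistedD4 K q) : fmap chevD4 ι g ∈ twistedD4 L (q ^ 4) := by
  suffices h : twistedD4 K q ≤ (twistedD4 L (q ^ 4)).comap (fmap chevD4 ι) from h hg
  refine C.G.gen_le fun w hw => ?_
  rcases hw with ⟨t, ht, r, hr, rfl⟩ | ⟨t, rs, hrs, rfl⟩
  · have hd : ∀ r ∈ [d4p2, d4m2], r < chevD4.nroots := by decide +kernel
    refine ⟨[(⟨r, hd r hr⟩, t)], rfl, ?_⟩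
    have h := C.G.mem_gen (S := d4Words L (q ^ 4)) [(⟨r, hd r hr⟩, ι t)]
      (Or.inl ⟨ι t, by rw [← map_pow, hq, ht], r, hr, rfl⟩)
    simpa [Subgroup.mem_comap, C.G.fmap_xu, twistedD4] using h
  · have hd : ∀ rs ∈ [(d4p1, d4p3, d4p4), (d4m1, d4m3, d4m4)],
        rs.1 < chevD4.nroots ∧ rs.2.1 < chevD4.nroots ∧ rs.2.2 < chevD4.nroots := by decide +kernel
    obtain ⟨h1, h2, h3⟩ := hd rs hrs
    refine ⟨[(⟨rs.1, h1⟩, t), (⟨rs.2.1, h2⟩, t ^ q), (⟨rs.2.2, h3⟩, t ^ q ^ 2)], rfl, ?_⟩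
    have h := C.G.mem_gen (S := d4Words L (q ^ 4))
      [(⟨rs.1, h1⟩, ι t), (⟨rs.2.1, h2⟩, ι (t ^ q)), (⟨rs.2.2, h3⟩, ι (t ^ q ^ 2))]
      (Or.inr ⟨ι t, rs, hrs, by
        have e2 : t ^ (q ^ 4) ^ 2 = t ^ q ^ 2 := by rw [pow_two, pow_mul, hq, ← pow_mul, mul_comm, pow_mul, hq, ← pow_mul, ← pow_two]
        simp [← map_pow, hq, e2]⟩)
    simpa [Subgroup.mem_comap, C.G.fmap_xu, twistedD4] using h

/-- enlargement making `q` congruent to one -/
theorem exists_enlarged [Fintype K] {p a : ℕ} [Fact p.Prime] [CharP K p]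
    (hK : Fintype.card K = (p ^ a) ^ 3) {r : ℕ} (hr : (((p ^ a : ℕ) : ZMod r)) ^ 4 = 1) :
    ∃ (L : Type) (_ : Field L) (_ : Fintype L) (_ : CharP L p),
      Fintype.card L = (p ^ (a * 4)) ^ 3 ∧ ((p ^ (a * 4) : ℕ) : ZMod r) = 1 ∧
      ∃ f : ↥(twistedD4 K (p ^ a)) →* ↥(twistedD4 L (p ^ (a * 4))), Function.Injective f := by
  let L := FiniteField.Extension K p 4
  letI : Fintype L := Fintype.ofFinite L
  have hL : Fintype.card L = (p ^ (a * 4)) ^ 3 := by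
    rw [Fintype.card_eq_nat_card, FiniteField.natCard_extension, ← Fintype.card_eq_nat_card, hK,
      ← pow_mul, ← pow_mul, ← pow_mul]
    ring_nf
  haveI : CharP L p := charP_of_injective_ringHom (algebraMap K L).injective p
  refine ⟨L, inferInstance, inferInstance, inferInstance, hL, ?_, ?_⟩
  · rw [pow_mul, Nat.cast_pow]; exact hr
  · have hq : ∀ t : K, t ^ (p ^ a) ^ 4 = t ^ p ^ a := fun t => by
      rw [show (p ^ a) ^ 4 = (p ^ a) ^ 3 * p ^ a by ring, pow_mul, ← hK, FiniteField.pow_card]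
    refine ⟨((fmap chevD4 (algebraMap K L)).comp (twistedD4 K (p ^ a)).subtype).codRestrict _
      fun g => ?_, fun x y h => Subtype.ext (fmap_injective _ (congrArg Subtype.val h :))⟩
    rw [show p ^ (a * 4) = (p ^ a) ^ 4 from pow_mul p a 4]
    exact fmap_twisted _ hq g.2

end CfsgLib.Lie.AltSection.D4Nat
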