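import Cfsg.Agent.Lib.Lie.AltSection.Torus

/-!
# Automizers of subgroups of prime power order over the field of definition
-/

set_option autoImplicit false

namespace CfsgLib.Lie.AltSection

open Cfsg.Lie CfsgLib.Lie.Chev CfsgLib.Lie.CoxTorus CfsgLib.Lie.Homocyclic
open scoped MatrixGroups

variable {D : ChevalleyDatum} (C : Full D) {T : KerData D.rank} (hT : T.Ok (cmat D))
  {dg : Fin D.rank → ℕ} (hdg : HasDegrees C dg) {F : Type*} [Field F] [Fintype F]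
  {H : Type*} [Group H] (φ : H →* ↥(D.group F)) (hφ : Function.Injective φ)

include hT hdg hφ

/-- the image over a larger field, conjugated into the diagonal subgroup -/
theorem exists_diagonalisation {r s : ℕ} [hr : Fact r.Prime] [hs : Fact s.Prime] (hrd : ¬ r ∣ T.d)
    (hrdg : ∀ i, ¬ r ∣ dg i) (hsdg : ∀ i, ¬ s ∣ dg i) (hrq : ¬ r ∣ Fintype.card F)
    (hsq : ¬ s ∣ Fintype.card F) {P Q : Subgroup H} (hP : IsPGroup r P) (hQ : IsPGroup s Q)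
    (hPQ : ∀ x ∈ P, ∀ y ∈ Q, x * y = y * x) :
    ∃ (K : Type) (_ : Field K) (_ : Fintype K) (χ : H →* GL D.Idx K), Function.Injective χ ∧
      (∀ h, χ h ∈ D.group K) ∧ (P ⊔ Q).map χ ≤ D.diagonalSubgroup K := by
  have hcop : (Fintype.card F).Coprime (r * s) :=
    Nat.Coprime.mul_right ((Nat.Prime.coprime_iff_not_dvd hr.out).2 hrq).symm
      ((Nat.Prime.coprime_iff_not_dvd hs.out).2 hsq).symm
  obtain ⟨K, iK, iKF, ι, hK⟩ := exists_field (Nat.mul_pos hr.out.pos hs.out.pos) hcop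
  have hK' : ∀ t, t ∣ r * s → (Fintype.card K : ZMod t) = 1 := fun t ht => by
    have h1 : Fintype.card K ≡ 1 [MOD r * s] := by
      rwa [← ZMod.natCast_eq_natCast_iff, Nat.cast_one]
    rw [← Nat.cast_one, ZMod.natCast_eq_natCast_iff]
    exact h1.of_dvd ht
  let φ' : H →* GL D.Idx K := (fmap D ι).comp ((D.group F).subtype.comp φ)
  have hφ' : ∀ h, φ' h ∈ D.group K := fun h => C.G.fmap_mem_group ι (φ h).2
  have hφi : Function.Injective φ' := fun a b h => hφ (Subtype.ext (fmap_injective ι h))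
  have hle : ∀ S : Subgroup H, S.map φ' ≤ D.group K := fun S => by
    rintro _ ⟨x, -, rfl⟩
    exact hφ' x
  obtain ⟨c, hc, hdiag⟩ := exists_conj_diag_pair C hT hdg hrd hrdg hsdg (hK' r (dvd_mul_right r s))
    (hK' s (dvd_mul_left s r)) (hle P) (hle Q) (hP.map φ') (hQ.map φ') (by
      rintro _ ⟨x, hx, rfl⟩ _ ⟨y, hy, rfl⟩
      rw [← map_mul, hPQ x hx y hy, map_mul])
  refine ⟨K, iK, iKF, (MulAut.conj c⁻¹).toMonoidHom.comp φ', ?_, fun h => ?_, ?_⟩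
  · exact (MulAut.conj c⁻¹).injective.comp hφi
  · simpa using mul_mem (mul_mem (inv_mem hc) (hφ' h)) hc
  · rintro _ ⟨x, hx, rfl⟩
    have := hdiag (φ' x) (by rw [← Subgroup.map_sup]; exact ⟨x, hx, rfl⟩)
    simpa [mul_assoc] using this

/-- a power trivial on the Weyl group centralises every `r`-subgroup that `g` normalises -/
theorem pow_mul_inv {r : ℕ} [hr : Fact r.Prime] (hrd : ¬ r ∣ T.d) (hrdg : ∀ i, ¬ r ∣ dg i)
    (hrq : ¬ r ∣ Fintype.card F) {P : Subgroup H} (hP : IsPGroup r P) {g : H}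
    (hg : g ∈ Subgroup.normalizer (P : Set H)) {m : ℕ} (hm : ∀ π ∈ C.G.Wg, π ^ m = 1)
    {x : H} (hx : x ∈ P) : g ^ m * x * (g ^ m)⁻¹ = x := by
  obtain ⟨K, _, _, χ, hχ, hχG, hdiag⟩ := exists_diagonalisation C hT hdg φ hφ (s := r) hrd hrdg hrdg
    hrq hrq hP (IsPGroup.of_bot : IsPGroup r (⊥ : Subgroup H))
    (fun a _ b hb => by rw [Subgroup.mem_bot.1 hb, mul_one, one_mul])
  rw [sup_bot_eq] at hdiag
  apply hχ
  rw [map_mul, map_mul, map_inv, map_pow]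
  refine pow_centralizes C (hχG g) hdiag ?_ hm ⟨x, hx, rfl⟩
  rintro _ ⟨y, hy, rfl⟩
  exact ⟨g * y * g⁻¹, (Subgroup.mem_normalizer_iff.1 hg y).1 hy, by simp⟩

/-- an element whose order is prime to the Weyl group centralises -/
theorem centralizes_of_coprime [Finite H] {r : ℕ} [hr : Fact r.Prime] (hrd : ¬ r ∣ T.d)
    (hrdg : ∀ i, ¬ r ∣ dg i) (hrq : ¬ r ∣ Fintype.card F) {P : Subgroup H} (hP : IsPGroup r P)
    {g : H} (hg : g ∈ Subgroup.normalizer (P : Set H)) {s : ℕ} (hs : s.Prime)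
    (hsdg : ∀ i, ¬ s ∣ dg i) {k : ℕ} (hgk : g ^ s ^ k = 1) {x : H} (hx : x ∈ P) :
    g * x * g⁻¹ = x := by
  classical
  set m := Fintype.card C.G.Wg
  have hm : ∀ π ∈ C.G.Wg, π ^ m = 1 := fun π hπ => by
    have h := congrArg Subtype.val (pow_card_eq_one (x := (⟨π, hπ⟩ : C.G.Wg)))
    rwa [SubmonoidClass.coe_pow, OneMemClass.coe_one] at h
  have hcop : Nat.Coprime m (s ^ k) :=
    Nat.Coprime.pow_right k ((Nat.Prime.coprime_iff_not_dvd hs).2 (cast_dvd_prime C hs hsdg hdg)).symm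
  obtain ⟨u, hu⟩ : ∃ u, (g ^ m) ^ u = g :=
    exists_pow_eq_self_of_coprime (hcop.coprime_dvd_right (orderOf_dvd_of_pow_eq_one hgk))
  have h1 : Commute (g ^ m) x :=
    mul_inv_eq_iff_eq_mul.1 (pow_mul_inv C hT hdg φ hφ hrd hrdg hrq hP hg hm hx)
  have h2 : Commute g x := hu ▸ h1.pow_left u
  rw [h2.eq, mul_inv_cancel_right]

/-- the three cases for two commuting subgroups normalised by `g` -/
theorem pair_cases {r s : ℕ} [hr : Fact r.Prime] [hs : Fact s.Prime] (hrd : ¬ r ∣ T.d)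
    (hrdg : ∀ i, ¬ r ∣ dg i) (hsdg : ∀ i, ¬ s ∣ dg i) (hrq : ¬ r ∣ Fintype.card F)
    (hsq : ¬ s ∣ Fintype.card F) {P Q : Subgroup H} (hP : IsPGroup r P) (hQ : IsPGroup s Q)
    (hPQ : ∀ x ∈ P, ∀ y ∈ Q, x * y = y * x) {g : H} (hgP : g ∈ Subgroup.normalizer (P : Set H))
    (hgQ : g ∈ Subgroup.normalizer (Q : Set H))
    (hW : ∀ π ∈ C.G.Wg, π ^ 8 = 1 ∨ π ^ 6 = 1 ∨
      ∀ t, C.G.rho ((π ^ 4) t) + C.G.rho t = C.G.rho ((π ^ 2) t)) :
    (∀ x ∈ P ⊔ Q, g ^ 8 * x * (g ^ 8)⁻¹ = x) ∨ (∀ x ∈ P ⊔ Q, g ^ 6 * x * (g ^ 6)⁻¹ = x) ∨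
      ∀ x ∈ P ⊔ Q, g ^ 4 * x * (g ^ 4)⁻¹ * x = g ^ 2 * x * (g ^ 2)⁻¹ := by
  obtain ⟨K, _, _, χ, hχ, hχG, hdiag⟩ :=
    exists_diagonalisation C hT hdg φ hφ hrd hrdg hsdg hrq hsq hP hQ hPQ
  have hn : ∀ z ∈ (P ⊔ Q).map χ, χ g * z * (χ g)⁻¹ ∈ (P ⊔ Q).map χ := by
    rintro _ ⟨y, hy, rfl⟩
    refine ⟨g * y * g⁻¹, ?_, by simp⟩
    have hle : P ⊔ Q ≤ (P ⊔ Q).comap (MulAut.conj g).toMonoidHom := sup_le
      (fun a ha => Subgroup.mem_sup_left ((Subgroup.mem_normalizer_iff.1 hgP a).1 ha))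
      (fun a ha => Subgroup.mem_sup_right ((Subgroup.mem_normalizer_iff.1 hgQ a).1 ha))
    exact hle hy
  rcases action_cases C (hχG g) hdiag hn hW with h | h | h
  · exact Or.inl fun x hx => hχ (by simpa using h _ ⟨x, hx, rfl⟩)
  · exact Or.inr (Or.inl fun x hx => hχ (by simpa using h _ ⟨x, hx, rfl⟩))
  · exact Or.inr (Or.inr fun x hx => hχ (by simpa using h _ ⟨x, hx, rfl⟩))

end CfsgLib.Lie.AltSection
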