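import Cfsg.Agent.Lib.Lie.AltSection.TypeG2

/-!
# Three-subgroups above the elementary group of order nine in `Alt 8`

The group-theoretic part of the exclusion of `Alt 8`: a Sylow subgroup `P` of the preimage with an
abelian subgroup `A` of index at most three whose self-maps have exponent six.
-/

set_option autoImplicit false

namespace CfsgLib.Lie.AltSection

theorem refl_exists : ∀ v : Multiplicative (ZMod 3 × ZMod 3), v ≠ 1 → ∃ i : Fin 4,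
    (sr ^ i.val * s4 ^ 2) * eHom v * (sr ^ i.val * s4 ^ 2)⁻¹ = eHom v ∧
    (sr ^ i.val * s4 ^ 2) * eHom (turn v) * (sr ^ i.val * s4 ^ 2)⁻¹ = (eHom (turn v))⁻¹ := by
  decide +kernel

theorem refl_range : ∀ (i : Fin 4) (v : Multiplicative (ZMod 3 × ZMod 3)),
    ∃ w, (sr ^ i.val * s4 ^ 2) * eHom v * (sr ^ i.val * s4 ^ 2)⁻¹ = eHom w := by
  decide +kernel

variable {H : Type*} [Group H]

/-- reduction of exponents modulo the cube -/
theorem pow_split {Z : Subgroup H} {c : H} (hc : c ^ 3 ∈ Z) (i : ℕ) :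
    ∃ z ∈ Z, ∃ j : Fin 3, c ^ i = z * c ^ j.val := by
  refine ⟨(c ^ 3) ^ (i / 3), pow_mem hc _, ⟨i % 3, Nat.mod_lt _ (by norm_num)⟩, ?_⟩
  rw [← pow_mul, ← pow_add, Nat.div_add_mod]

variable [Finite H]

/-- the preimage of the elementary group -/
abbrev preE (ψ : H →* ↥(alternatingGroup (Fin 8))) : Subgroup H := eHom.range.comap ψ

/-- a Sylow subgroup of the preimage, as a subgroup -/
abbrev preS (ψ : H →* ↥(alternatingGroup (Fin 8))) (P : Sylow 3 ↥(preE ψ)) : Subgroup H :=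
  (P : Subgroup ↥(preE ψ)).map (preE ψ).subtype

/-- no `Alt 8` over such a configuration -/
theorem eight_three (ψ : H →* ↥(alternatingGroup (Fin 8))) (hψ : Function.Surjective ψ)
    (P : Sylow 3 ↥(preE ψ)) (A : Subgroup H)
    (hAP : A ≤ (preS ψ P))
    (hAc : ∀ x ∈ A, ∀ y ∈ A, Commute x y)
    (hidx : ∀ x ∈ (preS ψ P),
      ∀ y ∈ (preS ψ P),
        y ∉ A → ∃ a ∈ A, ∃ j : ℕ, x = a * y ^ j)
    (hcube : ∀ x ∈ (preS ψ P), x ^ 3 ∈ A)
    (hinv : ∀ g : H, (∀ y ∈ A, g * y * g⁻¹ ∈ A) → ∀ y ∈ A, g ^ 6 * y * (g ^ 6)⁻¹ = y)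
    (hfix : ∀ z ∈ A, ∀ b ∈ (preS ψ P),
      b ∉ A → Commute b z → z ≠ 1 →
        z ^ 3 = 1 ∧ ∀ y ∈ A, Commute b y → y ∈ Subgroup.zpowers z)
    (hkey : ∀ z ∈ A, ∀ b ∈ (preS ψ P),
      b ∉ A → Commute b z → z ≠ 1 →
        ∀ x ∈ (preS ψ P),
          x ∉ A → x ^ 3 = 1 → ∀ g h : H, g * z * g⁻¹ = x → h * z * h⁻¹ = z →
            h * x * h⁻¹ = x⁻¹ → False) : False := by
  classical
  haveI : Fact (Nat.Prime 3) := ⟨Nat.prime_three⟩
  have hPp : IsPGroup 3 (preS ψ P) := P.2.map _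
  have hPM : (preS ψ P) ≤ (preE ψ) := Subgroup.map_subtype_le _
  let f : (preE ψ) →* eHom.range := (ψ.comp (preE ψ).subtype).codRestrict _ fun m => m.2
  have hf : Function.Surjective f := by
    rintro ⟨e, he⟩
    obtain ⟨x, rfl⟩ := hψ e
    exact ⟨⟨x, he⟩, rfl⟩
  have hE : IsPGroup 3 eHom.range := by
    have h3 : IsPGroup 3 (Multiplicative (ZMod 3 × ZMod 3)) := fun v => ⟨1, e_cube' v⟩
    exact h3.of_surjective eHom.rangeRestrict eHom.rangeRestrict_surjective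
  have htop : ((P.mapSurjective hf : Sylow 3 eHom.range) : Subgroup eHom.range) = ⊤ := by
    apply Subgroup.eq_top_of_card_eq
    obtain ⟨j, hj⟩ := IsPGroup.iff_card.1 hE
    rw [(P.mapSurjective hf).card_eq_multiplicity, hj, Nat.Prime.factorization_pow Fact.out]
    simp
  have hsurj : ∀ v, ∃ x ∈ (preS ψ P), ψ x = eHom v := fun v => by
    have h1 : (⟨eHom v, v, rfl⟩ : eHom.range) ∈
        ((P.mapSurjective hf : Sylow 3 eHom.range) : Subgroup eHom.range) := by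
      rw [htop]; trivial
    obtain ⟨a, ha, hax⟩ := h1
    exact ⟨_, ⟨a, ha, rfl⟩, congrArg Subtype.val hax⟩
  have hrange : ∀ x ∈ (preS ψ P), ∃ v, ψ x = eHom v := fun x hx => by
    obtain ⟨v, hv⟩ := hPM hx
    exact ⟨v, hv.symm⟩
  -- the normalizer covers the normalizer of the elementary group
  have hlift : ∀ s : ↥(alternatingGroup (Fin 8)), (∀ v, ∃ w, s * eHom v * s⁻¹ = eHom w) →
      ∃ g : H, g ∈ Subgroup.normalizer ((preS ψ P) : Set H) ∧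
        ∀ x ∈ (preS ψ P), ψ (g * x * g⁻¹) = s * ψ x * s⁻¹ := by
    intro s hs
    obtain ⟨g₀, hg₀⟩ := hψ s
    obtain ⟨m, hm, hgn⟩ := exists_mul_normalizing 3 (preE ψ) P g₀ fun x hx => by
      obtain ⟨v, hv⟩ := hx
      obtain ⟨w, hw⟩ := hs v
      exact ⟨w, by rw [map_mul, map_mul, map_inv, ← hv, hg₀, hw]⟩
    refine ⟨m * g₀, Subgroup.mem_normalizer_fintype hgn, fun x hx => ?_⟩
    obtain ⟨v, hv⟩ := hrange x hx
    obtain ⟨u, hu⟩ := hm
    obtain ⟨w, hw⟩ := hs v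
    simp only [map_mul, map_inv, hv, hg₀, ← hu]
    rw [show eHom u * s * eHom v * (eHom u * s)⁻¹ =
      eHom u * (s * eHom v * s⁻¹) * (eHom u)⁻¹ by group, hw, ← map_inv, ← map_mul, ← map_mul,
      mul_inv_cancel_comm]
  obtain ⟨g, hgN, hgψ⟩ := hlift sr fun v => ⟨turn v, sr_conj v⟩
  have hgn : ∀ x ∈ (preS ψ P), g * x * g⁻¹ ∈ (preS ψ P) := fun x hx => (Subgroup.mem_normalizer_iff.1 hgN x).1 hx
  have hgv : ∀ {x v}, x ∈ (preS ψ P) → ψ x = eHom v → ψ (g * x * g⁻¹) = eHom (turn v) := fun {x v} hx h => by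
    rw [hgψ x hx, h, sr_conj]
  -- some element of `A` is moved out
  obtain ⟨a, haA, hbA⟩ : ∃ a ∈ A, g * a * g⁻¹ ∉ A := by
    by_contra hno
    push Not at hno
    have hker : ∀ y ∈ A, ψ y = 1 := fun y hy => by
      obtain ⟨v, hv⟩ := hrange y (hAP hy)
      have h2 : ψ (g ^ 6 * y * (g ^ 6)⁻¹) =
          eHom (turn (turn (turn (turn (turn (turn v)))))) := by
        rw [show g ^ 6 * y * (g ^ 6)⁻¹ =
          g * (g * (g * (g * (g * (g * y * g⁻¹) * g⁻¹) * g⁻¹) * g⁻¹) * g⁻¹) * g⁻¹ by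
            simp only [pow_succ, pow_zero, one_mul]; group]
        have h0 := hAP hy
        have h1 := hgn _ h0
        have h2 := hgn _ h1
        have h3 := hgn _ h2
        have h4 := hgn _ h3
        exact hgv (hgn _ h4) (hgv h4 (hgv h3 (hgv h2 (hgv h1 (hgv h0 hv)))))
      rw [hinv g hno y hy, hv] at h2
      rw [hv, turn_six v (eHom_injective h2.symm), map_one]
    by_cases hall : ∀ x ∈ (preS ψ P), x ∈ A
    · obtain ⟨x, hx, hxe⟩ := hsurj (Multiplicative.ofAdd (1, 0))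
      have := hker x (hall x hx)
      rw [hxe, ← map_one eHom] at this
      exact e_ten (eHom_injective this)
    · push Not at hall
      obtain ⟨y, hy, hyA⟩ := hall
      obtain ⟨w, hw⟩ := hrange y hy
      obtain ⟨v, hv1, hv2, hv3⟩ := not_cyclic w
      obtain ⟨x, hx, hxe⟩ := hsurj v
      obtain ⟨a, ha, j, rfl⟩ := hidx x hx y hy hyA
      rw [map_mul, hker a ha, one_mul, map_pow, hw, ← map_pow] at hxe
      have e := (eHom_injective hxe).symm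
      rw [pow_mod_three (e_cube w) j] at e
      generalize (⟨j % 3, Nat.mod_lt _ (by norm_num)⟩ : Fin 3) = k at e
      have : k.val = 0 ∨ k.val = 1 ∨ k.val = 2 := by omega
      rcases this with h | h | h <;> rw [h] at e
      · exact hv1 (by simpa using e)
      · exact hv2 (by simpa using e)
      · exact hv3 (e.trans (e_sq w))
  set b := g * a * g⁻¹ with hb
  have haP : a ∈ (preS ψ P) := hAP haA
  have hbP : b ∈ (preS ψ P) := hgn a haP
  -- elements of `A` staying in `A` commute with `b`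
  have hstay : ∀ y ∈ A, g⁻¹ * y * g ∈ A → Commute b y := fun y hy hy' => by
    have h : Commute a (g⁻¹ * y * g) := hAc a haA _ hy'
    show b * y = y * b
    calc b * y = g * (a * (g⁻¹ * y * g)) * g⁻¹ := by rw [hb]; group
      _ = y * b := by rw [h.eq, hb]; group
  by_cases hall : ∀ y ∈ A, Commute b y
  · -- the group has order nine
    have ha1 : a ≠ 1 := fun h => hbA (by rw [hb, h, mul_one, mul_inv_cancel]; exact one_mem _)
    obtain ⟨ha3, huniq⟩ := hfix a haA b hbP hbA (hall a haA) ha1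
    have hb3 : b ^ 3 = 1 := by rw [hb, conj_pow, ha3, mul_one, mul_inv_cancel]
    obtain ⟨v, hv⟩ := hrange a haP
    have hvb : ψ b = eHom (turn v) := hgv haP hv
    have hgen : ∀ x ∈ (preS ψ P), ∃ i j : Fin 3, x = a ^ i.val * b ^ j.val := fun x hx => by
      obtain ⟨y, hy, j, rfl⟩ := hidx x hx b hbP hbA
      obtain ⟨i, rfl⟩ := zpow_three ha3 (huniq y hy (hall y hy))
      exact ⟨i, ⟨j % 3, Nat.mod_lt _ (by norm_num)⟩, by rw [← pow_mod_three hb3]⟩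
    have hspan : ∀ w, ∃ i j : Fin 3, w = v ^ i.val * turn v ^ j.val := fun w => by
      obtain ⟨x, hx, hxe⟩ := hsurj w
      obtain ⟨i, j, rfl⟩ := hgen x hx
      exact ⟨i, j, eHom_injective (by rw [← hxe, map_mul, map_mul, map_pow, map_pow, hv, hvb,
        map_pow, map_pow])⟩
    have hinj : ∀ x ∈ (preS ψ P), ∀ y ∈ (preS ψ P), ψ x = ψ y → x = y := fun x hx y hy e => by
      obtain ⟨i, j, hij⟩ := hgen (x * y⁻¹) (mul_mem hx (inv_mem hy))
      have h1 : ψ (x * y⁻¹) = 1 := by rw [map_mul, map_inv, e, mul_inv_cancel]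
      rw [hij, map_mul, map_pow, map_pow, hv, hvb, ← map_pow, ← map_pow, ← map_mul,
        ← map_one eHom] at h1
      obtain ⟨hi, hj⟩ := span_two v (turn v) hspan i j (eHom_injective h1)
      rw [hi, hj] at hij
      exact mul_inv_eq_one.1 (by simpa using hij)
    have hv1 : v ≠ 1 := fun h => ha1 (hinj a haP 1 (one_mem _) (by rw [hv, h, map_one, map_one]))
    obtain ⟨i, hi1, hi2⟩ := refl_exists v hv1
    obtain ⟨h, hhN, hhψ⟩ := hlift _ (refl_range i)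
    refine hkey a haA b hbP hbA (hall a haA) ha1 b hbP hbA hb3 g h hb.symm ?_ ?_
    · exact hinj _ ((Subgroup.mem_normalizer_iff.1 hhN a).1 haP) a haP (by rw [hhψ a haP, hv, hi1])
    · exact hinj _ ((Subgroup.mem_normalizer_iff.1 hhN b).1 hbP) _ (inv_mem hbP) (by
        rw [hhψ b hbP, map_inv, hvb, hi2])
  push Not at hall
  obtain ⟨y₀, hy₀, hy₀b⟩ := hall
  have hcentA : ∀ w ∈ (preS ψ P), (∀ x ∈ (preS ψ P), Commute x w) → w ∈ A := by
    intro w hw hwc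
    by_contra hwA
    obtain ⟨a', ha', j, hj⟩ := hidx b hbP w hw hwA
    exact hy₀b (by rw [hj]; exact (hAc a' ha' y₀ hy₀).mul_left ((hwc y₀ (hAP hy₀)).symm.pow_left j))
  -- a central element
  obtain ⟨z, hzP, hz1, hzc⟩ : ∃ z ∈ (preS ψ P), z ≠ 1 ∧ ∀ x ∈ (preS ψ P), Commute x z := by
    haveI : Nontrivial (preS ψ P) := ⟨⟨⟨b, hbP⟩, 1, fun h => hbA (by
      rw [show b = 1 from congrArg Subtype.val h]; exact one_mem _)⟩⟩
    haveI := hPp.center_nontrivial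
    obtain ⟨z, hz⟩ := exists_ne (1 : Subgroup.center (preS ψ P))
    exact ⟨z.1.1, z.1.2, fun h => hz (Subtype.ext (Subtype.ext h)), fun x hx =>
      congrArg Subtype.val (Subgroup.mem_center_iff.1 z.2 ⟨x, hx⟩)⟩
  have hzA : z ∈ A := hcentA z hzP hzc
  obtain ⟨hz3, huniq⟩ := hfix z hzA b hbP hbA (hzc b hbP) hz1
  have hzN : ∀ h ∈ Subgroup.normalizer ((preS ψ P) : Set H), h * z * h⁻¹ ∈ Subgroup.zpowers z := by
    intro h hh
    have hzP' : h * z * h⁻¹ ∈ (preS ψ P) := (Subgroup.mem_normalizer_iff.1 hh z).1 hzP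
    have hcen : ∀ x ∈ (preS ψ P), Commute x (h * z * h⁻¹) := fun x hx => by
      have := (hzc _ ((Subgroup.mem_normalizer_iff''.1 hh x).1 hx)).eq
      show x * (h * z * h⁻¹) = h * z * h⁻¹ * x
      calc x * (h * z * h⁻¹) = h * ((h⁻¹ * x * h) * z) * h⁻¹ := by group
        _ = _ := by rw [this]; group
    exact huniq _ (hcentA _ hzP' hcen) (hcen b hbP)
  have hzker : ψ z = 1 := by
    obtain ⟨v, hv⟩ := hrange z hzP
    obtain ⟨k, hk⟩ := zpow_three hz3 (hzN g hgN)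
    have h2 := hgv hzP hv
    rw [hk, map_pow, hv, ← map_pow] at h2
    rw [hv, turn_line v k (eHom_injective h2).symm, map_one]
  have hgA : ∀ y ∈ A, g⁻¹ * y * g ∈ (preS ψ P) := fun y hy =>
    (Subgroup.mem_normalizer_iff''.1 hgN y).1 (hAP hy)
  obtain ⟨c, hcA, hcA'⟩ : ∃ c ∈ A, g⁻¹ * c * g ∉ A := by
    by_contra hno
    push Not at hno
    exact hy₀b (hstay y₀ hy₀ (hno y₀ hy₀))
  set c' := g⁻¹ * c * g with hc'
  have hc'P : c' ∈ (preS ψ P) := hgA c hcA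
  have hinter : ∀ y ∈ A, g⁻¹ * y * g ∈ A → y ∈ Subgroup.zpowers z := fun y hy hy' =>
    huniq y hy (hstay y hy hy')
  have hconjpow : ∀ (y : H) (i : ℕ), (g⁻¹ * y * g) ^ i = g⁻¹ * y ^ i * g := fun y i => by
    simpa using conj_pow (a := g⁻¹) (b := y) (i := i)
  have hb3 : b ^ 3 ∈ Subgroup.zpowers z := by
    refine hinter _ (hcube b hbP) ?_
    rw [← hconjpow, show g⁻¹ * b * g = a by rw [hb]; group]
    exact pow_mem haA 3
  have hc3 : c ^ 3 ∈ Subgroup.zpowers z := by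
    refine hinter _ (pow_mem hcA 3) ?_
    rw [← hconjpow]
    exact hcube c' hc'P
  have hcd : ∀ {y}, y ∈ Subgroup.zpowers z → ∀ x ∈ (preS ψ P), Commute x y := fun {y} hy x hx => by
    obtain ⟨i, rfl⟩ := Subgroup.mem_zpowers_iff.1 hy
    exact (hzc x hx).zpow_right i
  have hgen : ∀ x ∈ (preS ψ P), ∃ y ∈ Subgroup.zpowers z, ∃ i j : Fin 3,
      x = y * c ^ i.val * b ^ j.val := fun x hx => by
    obtain ⟨u, hu, j, rfl⟩ := hidx x hx b hbP hbA
    obtain ⟨u', hu', i, hi⟩ := hidx _ (hgA u hu) c' hc'P hcA'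
    have e : u = g * u' * g⁻¹ * c ^ i := by
      calc u = g * (g⁻¹ * u * g) * g⁻¹ := by group
        _ = g * u' * g⁻¹ * c ^ i := by rw [hi, hc', hconjpow]; group
    have h1 : g * u' * g⁻¹ ∈ A := by
      rw [eq_mul_inv_of_mul_eq e.symm]
      exact mul_mem hu (inv_mem (pow_mem hcA i))
    have h2 : g * u' * g⁻¹ ∈ Subgroup.zpowers z :=
      hinter _ h1 (by rw [show g⁻¹ * (g * u' * g⁻¹) * g = u' by group]; exact hu')
    obtain ⟨w₁, hw₁, i', hi'⟩ := pow_split hc3 i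
    obtain ⟨w₂, hw₂, j', hj'⟩ := pow_split hb3 j
    refine ⟨g * u' * g⁻¹ * w₁ * w₂, mul_mem (mul_mem h2 hw₁) hw₂, i', j', ?_⟩
    have hcom : Commute (c ^ i'.val) w₂ := (hcd hw₂ c (hAP hcA)).pow_left _
    rw [e, hi', hj']
    calc g * u' * g⁻¹ * (w₁ * c ^ i'.val) * (w₂ * b ^ j'.val)
        = g * u' * g⁻¹ * w₁ * (c ^ i'.val * w₂) * b ^ j'.val := by group
      _ = _ := by rw [hcom.eq]; group
  obtain ⟨v₁, hv₁⟩ := hrange c (hAP hcA)
  obtain ⟨v₂, hv₂⟩ := hrange b hbP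
  have hzp : ∀ y ∈ Subgroup.zpowers z, ψ y = 1 := fun y hy => by
    obtain ⟨i, rfl⟩ := Subgroup.mem_zpowers_iff.1 hy
    rw [map_zpow, hzker, one_zpow]
  have hspan : ∀ w, ∃ i j : Fin 3, w = v₁ ^ i.val * v₂ ^ j.val := fun w => by
    obtain ⟨x, hx, hxe⟩ := hsurj w
    obtain ⟨y, hy, i, j, rfl⟩ := hgen x hx
    exact ⟨i, j, eHom_injective (by rw [← hxe, map_mul, map_mul, map_mul, map_pow, map_pow,
      hzp y hy, one_mul, hv₁, hv₂, map_pow, map_pow])⟩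
  have hkerP : ∀ x ∈ (preS ψ P), ψ x = 1 → x ∈ Subgroup.zpowers z := fun x hx hx1 => by
    obtain ⟨y, hy, i, j, rfl⟩ := hgen x hx
    rw [map_mul, map_mul, map_pow, map_pow, hzp y hy, one_mul, hv₁, hv₂, ← map_pow, ← map_pow,
      ← map_mul, ← map_one eHom] at hx1
    obtain ⟨hi, hj⟩ := span_two v₁ v₂ hspan i j (eHom_injective hx1)
    rw [hi, hj]
    simpa using hy
  -- a Sylow subgroup of the kernel
  have hkM : ψ.ker ≤ (preE ψ) := fun x hx => ⟨1, by rw [map_one]; exact hx.symm⟩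
  have hzp3 : IsPGroup 3 ((Subgroup.zpowers z).subgroupOf ψ.ker) := fun x => ⟨1, Subtype.ext
    (Subtype.ext (by
      show ((x : ψ.ker) : H) ^ 3 ^ 1 = 1
      obtain ⟨i, hi⟩ := Subgroup.mem_zpowers_iff.1 (show ((x : ψ.ker) : H) ∈ Subgroup.zpowers z from x.2)
      rw [← hi, pow_one, ← zpow_natCast, ← zpow_mul, mul_comm, zpow_mul, zpow_natCast, hz3, one_zpow]))⟩
  obtain ⟨R, hR⟩ := hzp3.exists_le_sylow
  have hRz : (R : Subgroup ψ.ker).map ψ.ker.subtype = Subgroup.zpowers z := by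
    set Rm := (R : Subgroup ψ.ker).map ψ.ker.subtype
    have hle : Subgroup.zpowers z ≤ Rm := Subgroup.zpowers_le.2
      ⟨⟨z, hzker⟩, hR (Subgroup.mem_zpowers z), rfl⟩
    have hRk : Rm ≤ ψ.ker := Subgroup.map_subtype_le _
    obtain ⟨S, hS⟩ := ((R.2.map ψ.ker.subtype).of_equiv
      (Subgroup.subgroupOfEquivOfLe (hRk.trans hkM)).symm).exists_le_sylow
    obtain ⟨m, hm⟩ := MulAction.exists_smul_eq (preE ψ) S P
    refine (Subgroup.eq_of_le_of_card_ge hle ?_).symm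
    have hmem : ∀ r : Rm, (m : H) * r * (m : H)⁻¹ ∈ Subgroup.zpowers z := fun r => by
      refine hkerP _ ?_ (by
        rw [map_mul, map_mul, map_inv, MonoidHom.mem_ker.1 (hRk r.2), mul_one, mul_inv_cancel])
      refine ⟨m * ⟨r, hkM (hRk r.2)⟩ * m⁻¹, ?_, rfl⟩
      rw [← hm]
      exact ⟨_, hS r.2, rfl⟩
    exact Nat.card_le_card_of_injective (fun r => (⟨_, hmem r⟩ : Subgroup.zpowers z))
      fun r r' e => Subtype.ext (mul_left_cancel (mul_right_cancel (congrArg Subtype.val e :)))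
  obtain ⟨l₀, hl₀⟩ := hψ s4
  obtain ⟨l, hl, k, hk, hlk⟩ := Subgroup.mem_sup_of_normal_right.1
    (show l₀ ∈ Subgroup.normalizer (((R : Subgroup ψ.ker).map ψ.ker.subtype : Subgroup H) : Set H) ⊔
      ψ.ker by rw [Sylow.normalizer_sup_eq_top R]; trivial)
  rw [hRz] at hl
  have hψl : ψ l = s4 := by rw [← hl₀, ← hlk, map_mul, MonoidHom.mem_ker.1 hk, mul_one]
  have hl2 : l ^ 2 * z * (l ^ 2)⁻¹ = z := by
    obtain ⟨k, hk⟩ := zpow_three hz3 ((Subgroup.mem_normalizer_iff.1 hl z).1 (Subgroup.mem_zpowers z))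
    have e : l ^ 2 * z * (l ^ 2)⁻¹ = z ^ (k.val * k.val) := by
      rw [pow_mul, ← hk, conj_pow, ← hk, pow_two]; group
    have hk0 : k.val ≠ 0 := fun h => hz1 (by
      rw [h, pow_zero, mul_inv_eq_one, mul_eq_left] at hk; exact hk)
    rcases (show k.val = 1 ∨ k.val = 2 by omega) with h | h <;> rw [e, h]
    · simp
    · rw [show 2 * 2 = 3 + 1 from rfl, pow_succ, hz3, one_mul]
  set M' : Subgroup H := (preE ψ) ⊓ Subgroup.centralizer {z}
  have hPM' : (preS ψ P) ≤ M' := le_inf hPM fun x hx => Subgroup.mem_centralizer_iff.2 fun y hy => by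
    rw [Set.mem_singleton_iff.1 hy]; exact (hzc x hx).symm.eq
  obtain ⟨Q, hQ⟩ := (hPp.of_equiv (Subgroup.subgroupOfEquivOfLe hPM').symm).exists_le_sylow
  have hQeq : (Q : Subgroup M').map M'.subtype = (preS ψ P) := by
    set Qm := (Q : Subgroup M').map M'.subtype
    have hQM : Qm ≤ (preE ψ) := (Subgroup.map_subtype_le _).trans inf_le_left
    have hle : (preS ψ P) ≤ Qm := fun x hx => ⟨⟨x, hPM' hx⟩, hQ hx, rfl⟩
    have h1 : Qm.subgroupOf (preE ψ) = P := P.is_maximal'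
      ((Q.2.map M'.subtype).of_equiv (Subgroup.subgroupOfEquivOfLe hQM).symm)
      fun x hx => hle ⟨x, hx, rfl⟩
    refine le_antisymm (fun x hx => ?_) hle
    exact ⟨⟨x, hQM hx⟩, h1 ▸ hx, rfl⟩
  have hs4 := s4_range
  obtain ⟨m', hm', hhn⟩ := exists_mul_normalizing 3 M' Q (l ^ 2) fun x hx => by
    refine ⟨?_, Subgroup.mem_centralizer_iff.2 fun y hy => ?_⟩
    · obtain ⟨v, hv⟩ := hx.1
      obtain ⟨w, hw⟩ := hs4 v
      exact ⟨w, by rw [map_mul, map_mul, map_inv, map_pow, hψl, ← hv, hw]⟩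
    · rw [Set.mem_singleton_iff.1 hy]
      have h := (Subgroup.mem_centralizer_iff.1 hx.2 z rfl)
      conv_lhs => rw [← hl2]
      conv_rhs => rw [← hl2]
      calc l ^ 2 * z * (l ^ 2)⁻¹ * (l ^ 2 * x * (l ^ 2)⁻¹) = l ^ 2 * (z * x) * (l ^ 2)⁻¹ := by group
        _ = _ := by rw [h]; group
  rw [hQeq] at hhn
  set h := m' * l ^ 2 with hh
  have hhz : h * z * h⁻¹ = z := by
    rw [hh, show m' * l ^ 2 * z * (m' * l ^ 2)⁻¹ = m' * (l ^ 2 * z * (l ^ 2)⁻¹) * m'⁻¹ by group, hl2,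
      ← Subgroup.mem_centralizer_iff.1 hm'.2 z rfl, mul_inv_cancel_right]
  have hψh : ∀ e ∈ eHom.range, ∀ x, ψ x = e → s4 ^ 2 * e * (s4 ^ 2)⁻¹ ∈ eHom.range →
      ψ (h * x * h⁻¹) = s4 ^ 2 * e * (s4 ^ 2)⁻¹ := by
    intro e _ x hx he
    obtain ⟨w, hw⟩ := hm'.1
    obtain ⟨u, hu⟩ := he
    simp only [hh, map_mul, map_inv, map_pow, hψl, hx, ← hw]
    rw [show eHom w * s4 ^ 2 * e * (eHom w * s4 ^ 2)⁻¹ =
      eHom w * (s4 ^ 2 * e * (s4 ^ 2)⁻¹) * (eHom w)⁻¹ by group, ← hu, ← map_inv, ← map_mul,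
      ← map_mul, mul_inv_cancel_comm]
  obtain ⟨v₁', hv₁'⟩ := eb_mem
  obtain ⟨x₁, hx₁, hx₁'⟩ := hsurj v₁'
  rw [hv₁'] at hx₁'
  obtain ⟨v₂', hv₂'⟩ := ea_mem
  obtain ⟨x₂, hx₂, hx₂'⟩ := hsurj v₂'
  rw [hv₂'] at hx₂'
  set d := x₁ * x₂ * x₁⁻¹ * x₂⁻¹ with hd
  have hdz : d ∈ Subgroup.zpowers z :=
    hkerP d (mul_mem (mul_mem (mul_mem hx₁ hx₂) (inv_mem hx₁)) (inv_mem hx₂)) (by
      rw [hd, map_mul, map_mul, map_mul, map_inv, map_inv, hx₁', hx₂', ab_comm])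
  obtain ⟨e₁, he₁, hy₁⟩ : ∃ e ∈ Subgroup.zpowers z, h * x₁ * h⁻¹ = x₁ * e :=
    ⟨x₁⁻¹ * (h * x₁ * h⁻¹), hkerP _ (mul_mem (inv_mem hx₁) (hhn x₁ hx₁)) (by
      rw [map_mul, map_inv, hψh eb eb_mem x₁ hx₁' (by rw [s4_sq.2]; exact eb_mem), hx₁', s4_sq.2,
        inv_mul_cancel]), by group⟩
  obtain ⟨e₂, he₂, hy₂⟩ : ∃ e ∈ Subgroup.zpowers z, h * x₂ * h⁻¹ = x₂⁻¹ * e :=
    ⟨x₂ * (h * x₂ * h⁻¹), hkerP _ (mul_mem hx₂ (hhn x₂ hx₂)) (by
      rw [map_mul, hψh ea ea_mem x₂ hx₂' (by rw [s4_sq.1]; exact inv_mem ea_mem), hx₂', s4_sq.1,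
        mul_inv_cancel]), by group⟩
  have hfix' : h * d * h⁻¹ = d := by
    obtain ⟨i, hi⟩ := Subgroup.mem_zpowers_iff.1 hdz
    rw [← hi, ← conj_zpow, hhz]
  have hzP' : ∀ y ∈ Subgroup.zpowers z, y ∈ (preS ψ P) := fun y hy => Subgroup.zpowers_le.2 hzP hy
  have hinv' : h * d * h⁻¹ = d⁻¹ := by
    have c1 : Commute e₁ (x₂⁻¹ * e₂) :=
      ((hcd he₁ x₂⁻¹ (inv_mem hx₂)).symm).mul_right (hcd he₁ e₂ (hzP' _ he₂)).symm
    have c2 : Commute e₂ x₁⁻¹ := (hcd he₂ x₁⁻¹ (inv_mem hx₁)).symm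
    calc h * d * h⁻¹ = (h * x₁ * h⁻¹) * (h * x₂ * h⁻¹) * (h * x₁ * h⁻¹)⁻¹ * (h * x₂ * h⁻¹)⁻¹ := by
          rw [hd]; group
      _ = x₁ * (e₁ * (x₂⁻¹ * e₂) * e₁⁻¹) * x₁⁻¹ * (e₂⁻¹ * x₂) := by rw [hy₁, hy₂]; group
      _ = x₁ * x₂⁻¹ * (e₂ * x₁⁻¹) * e₂⁻¹ * x₂ := by rw [c1.eq, mul_inv_cancel_right]; group
      _ = x₁ * x₂⁻¹ * x₁⁻¹ * x₂ := by rw [c2.eq]; group
      _ = x₂⁻¹ * d⁻¹ * x₂ := by rw [hd]; group
      _ = d⁻¹ := by
          rw [mul_assoc, ← (hcd (inv_mem hdz) x₂ hx₂).eq, inv_mul_cancel_left]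
  have hd1 : d = 1 := by
    obtain ⟨k, hk⟩ := zpow_three hz3 hdz
    have h3 : d ^ 3 = 1 := by rw [hk, ← pow_mul, mul_comm, pow_mul, hz3, one_pow]
    have h2 : d ^ 2 = 1 := by
      rw [pow_two]
      nth_rewrite 1 [← hfix']
      rw [hinv', inv_mul_cancel]
    calc d = d ^ 3 * (d ^ 2)⁻¹ := by group
      _ = 1 := by rw [h3, h2, inv_one, mul_one]
  have h12 : Commute x₁ x₂ := mul_inv_eq_iff_eq_mul.1 (mul_inv_eq_one.1 hd1)
  have hform : ∀ x ∈ (preS ψ P), ∃ (y : H) (i j : ℕ), y ∈ Subgroup.zpowers z ∧ x = y * x₁ ^ i * x₂ ^ j := by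
    intro x hx
    obtain ⟨v, hv⟩ := hrange x hx
    obtain ⟨i, j, hij⟩ := ab_span v
    refine ⟨x * (x₁ ^ i.val * x₂ ^ j.val)⁻¹, i, j, hkerP _
      (mul_mem hx (inv_mem (mul_mem (pow_mem hx₁ _) (pow_mem hx₂ _)))) ?_, by group⟩
    rw [map_mul, map_inv, map_mul, map_pow, map_pow, hx₁', hx₂', hv, hij, mul_inv_cancel]
  refine hy₀b ?_
  obtain ⟨y, i, j, hy, hbe⟩ := hform b hbP
  obtain ⟨y', i', j', hy', hce⟩ := hform y₀ (hAP hy₀)
  rw [hbe, hce]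
  have k : ∀ x ∈ (preS ψ P), Commute x x₁ → Commute x x₂ → Commute x (y' * x₁ ^ i' * x₂ ^ j') :=
    fun x hx h₁ h₂ => ((hcd hy' x hx).mul_right (h₁.pow_right _)).mul_right (h₂.pow_right _)
  exact ((k y (hzP' y hy) (hcd hy x₁ hx₁).symm (hcd hy x₂ hx₂).symm).mul_left
    ((k x₁ hx₁ (Commute.refl _) h12).pow_left _)).mul_left
    ((k x₂ hx₂ h12.symm (Commute.refl _)).pow_left _)

end CfsgLib.Lie.AltSection
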