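import Mathlib.FieldTheory.Finite.Extension
import Mathlib.FieldTheory.Finite.Basic
import Cfsg.Agent.Lib.Lie.Chev.Homocyclic.Main

/-!
# Automorphisms of diagonalisable subgroups induced by the group

An element normalising a group of diagonal elements acts on it as one element of the Weyl group, so
its powers centralise it as soon as those of all Weyl group elements are trivial.  Subgroups of
order a power of a prime away from the degrees become diagonal over a larger field.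
-/

set_option autoImplicit false

namespace CfsgLib.Lie.AltSection

open Cfsg.Lie CfsgLib.Lie.Chev CfsgLib.Lie.CoxTorus CfsgLib.Lie.Homocyclic
open scoped MatrixGroups

variable {D : ChevalleyDatum} (C : Full D)

/-- an element normalising a diagonal subgroup acts on it as a Weyl group element, powers included -/
theorem exists_action {K : Type*} [Field K] {g : GL D.Idx K} (hg : g ∈ D.group K)
    {A : Subgroup (GL D.Idx K)} (hA : A ≤ D.diagonalSubgroup K) (hn : ∀ x ∈ A, g * x * g⁻¹ ∈ A) :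
    ∃ π ∈ C.G.Wg, ∀ (n : ℕ) (a : Fin D.rank → Kˣ), C.G.tor a ∈ A → ∃ b, C.G.tor b ∈ A ∧
      g ^ n * C.G.tor a * (g ^ n)⁻¹ = C.G.tor b ∧
      ∀ s, C.G.chi b (C.G.rho ((π ^ n) s)) = C.G.chi a (C.G.rho s) := by
  obtain ⟨π, hπ, hπc⟩ := twist_common C hg
  refine ⟨π, hπ, fun n => ?_⟩
  induction n with
  | zero => exact fun a ha => ⟨a, ha, by simp, fun s => rfl⟩
  | succ n ih =>
    intro a ha
    obtain ⟨b, hb, hgb, hchi⟩ := ih a ha
    obtain ⟨b', hb'⟩ := C.G.exists_tor (hA (hn _ hb))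
    refine ⟨b', hb' ▸ hn _ hb, ?_, fun s => ?_⟩
    · rw [← hb', ← hgb, pow_succ']; group
    · rw [pow_succ', Equiv.Perm.mul_apply,
        hπc b b' (hA hb) (hb' ▸ hA (hn _ hb)) (by rw [← hb']; group), hchi]

/-- equal characters on the fundamental roots -/
theorem eq_of_chi {K : Type*} [Field K] {a b : Fin D.rank → Kˣ}
    (h : ∀ s, C.G.chi b (C.G.rho s) = C.G.chi a (C.G.rho s)) : b = a := funext fun j => by
  have := h (C.G.simp' j)
  rwa [C.G.rho_simp, C.G.chi_single, C.G.chi_single] at this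

/-- a power trivial in the Weyl group centralises -/
theorem pow_centralizes {K : Type*} [Field K] {g : GL D.Idx K} (hg : g ∈ D.group K)
    {A : Subgroup (GL D.Idx K)} (hA : A ≤ D.diagonalSubgroup K) (hn : ∀ x ∈ A, g * x * g⁻¹ ∈ A)
    {m : ℕ} (hm : ∀ π ∈ C.G.Wg, π ^ m = 1) {x : GL D.Idx K} (hx : x ∈ A) :
    g ^ m * x * (g ^ m)⁻¹ = x := by
  obtain ⟨π, hπ, hc⟩ := exists_action C hg hA hn
  obtain ⟨a, rfl⟩ := C.G.exists_tor (hA hx)
  obtain ⟨b, -, hb, hchi⟩ := hc m a hx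
  rw [hb, eq_of_chi C (a := a) (b := b) fun s => by simpa [hm π hπ] using hchi s]

/-- the three cases for the group of type F₄ -/
theorem action_cases {K : Type*} [Field K] {g : GL D.Idx K} (hg : g ∈ D.group K)
    {A : Subgroup (GL D.Idx K)} (hA : A ≤ D.diagonalSubgroup K) (hn : ∀ x ∈ A, g * x * g⁻¹ ∈ A)
    (hW : ∀ π ∈ C.G.Wg, π ^ 8 = 1 ∨ π ^ 6 = 1 ∨
      ∀ r, C.G.rho ((π ^ 4) r) + C.G.rho r = C.G.rho ((π ^ 2) r)) :
    (∀ x ∈ A, g ^ 8 * x * (g ^ 8)⁻¹ = x) ∨ (∀ x ∈ A, g ^ 6 * x * (g ^ 6)⁻¹ = x) ∨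
      ∀ x ∈ A, g ^ 4 * x * (g ^ 4)⁻¹ * x = g ^ 2 * x * (g ^ 2)⁻¹ := by
  obtain ⟨π, hπ, hc⟩ := exists_action C hg hA hn
  have key : ∀ m, π ^ m = 1 → ∀ x ∈ A, g ^ m * x * (g ^ m)⁻¹ = x := fun m hm x hx => by
    obtain ⟨a, rfl⟩ := C.G.exists_tor (hA hx)
    obtain ⟨b, -, hb, hchi⟩ := hc m a hx
    rw [hb, eq_of_chi C (a := a) (b := b) fun s => by simpa [hm] using hchi s]
  rcases hW π hπ with h | h | h
  · exact Or.inl (key 8 h)
  · exact Or.inr (Or.inl (key 6 h))
  refine Or.inr (Or.inr fun x hx => ?_)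
  obtain ⟨a, rfl⟩ := C.G.exists_tor (hA hx)
  obtain ⟨b₄, -, hb₄, h₄⟩ := hc 4 a hx
  obtain ⟨b₂, -, hb₂, h₂⟩ := hc 2 a hx
  rw [hb₄, hb₂, ← map_mul]
  congr 1
  refine eq_of_chi C fun u => ?_
  obtain ⟨s, rfl⟩ : ∃ s, (π ^ 4) s = u := (π ^ 4).surjective u
  have e : (π ^ 4) s = (π ^ 2) ((π ^ 2) s) := by
    rw [← Equiv.Perm.mul_apply, ← pow_add]
  rw [C.G.chi_mul, h₄ s, e, h₂, ← e, ← h s, C.G.chi_add, mul_comm]

section

variable {T : KerData D.rank} (hT : T.Ok (cmat D)) {dg : Fin D.rank → ℕ} (hdg : HasDegrees C dg)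

include hT hdg

/-- commuting subgroups for two primes away from the degrees are diagonal together -/
theorem exists_conj_diag_pair {K : Type*} [Field K] [Fintype K] {r s : ℕ} [Fact r.Prime]
    [hs : Fact s.Prime] (hrd : ¬ r ∣ T.d) (hrdg : ∀ i, ¬ r ∣ dg i) (hsdg : ∀ i, ¬ s ∣ dg i)
    (hr1 : (Fintype.card K : ZMod r) = 1) (hs1 : (Fintype.card K : ZMod s) = 1)
    {P Q : Subgroup (GL D.Idx K)} (hP : P ≤ D.group K) (hQ : Q ≤ D.group K) (hPr : IsPGroup r P)
    (hQs : IsPGroup s Q) (hPQ : ∀ x ∈ P, ∀ y ∈ Q, x * y = y * x) :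
    ∃ c ∈ D.group K, ∀ x ∈ P ⊔ Q, c⁻¹ * x * c ∈ D.diagonalSubgroup K := by
  classical
  obtain ⟨c, hc, hcP⟩ := exists_conj_diag_subgroup C hT hdg hrd hrdg hr1 hPr (Subgroup.inclusion hP)
  -- the centraliser of the conjugate of `P` contains the diagonal subgroup with index prime to `s`
  set G := D.group K with hG
  set Z : Subgroup G := Subgroup.centralizer {z : G | ∃ x ∈ P, (z : GL D.Idx K) = c⁻¹ * x * c}
    with hZ
  set T' := (D.diagonalSubgroup K).subgroupOf G
  have hTZ : T' ≤ Z := by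
    intro t ht
    rw [hZ, Subgroup.mem_centralizer_iff]
    rintro z ⟨x, hx, hz⟩
    exact Subtype.ext (by
      simpa [hz] using (C.G.diagonal_comm (hcP ⟨x, hx⟩) ht))
  have hidx : ¬ s ∣ Nat.card (G ⧸ T') := by
    intro hd
    have hcard : Nat.card T' = Nat.card ↥(D.diagonalSubgroup K) :=
      Nat.card_congr (Subgroup.subgroupOfEquivOfLe C.G.diagonal_le_group).toEquiv
    have h1 := C.order_formula (K := K) T hT
    rw [Psum_eq_prod C hdg, Subgroup.card_eq_card_quotient_mul_card_subgroup T', hcard,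
      mul_left_comm, C.G.card_diagonal T hT, Nat.cast_mul, Nat.cast_pow,
      Nat.cast_sub Fintype.card_pos, Nat.cast_one, ← mul_assoc] at h1
    have hne : ((Fintype.card K : ℤ) - 1) ^ D.rank ≠ 0 := by
      have := Fintype.one_lt_card (α := K)
      exact pow_ne_zero _ (by omega)
    have h4 : ((Nat.card (G ⧸ T') : ℤ) : ZMod s) = 0 := by
      rw [Int.cast_natCast]
      exact (ZMod.natCast_eq_zero_iff _ _).2 hd
    rw [mul_right_cancel₀ hne h1] at h4
    push_cast at h4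
    simp only [hs1, one_pow, one_mul, Finset.sum_const, Finset.card_range, nsmul_eq_mul, mul_one,
      Finset.prod_eq_zero_iff, Finset.mem_univ, true_and] at h4
    obtain ⟨i, hi⟩ := h4
    exact hsdg i ((ZMod.natCast_eq_zero_iff _ _).1 hi)
  have hidxZ : ¬ s ∣ Nat.card (↥Z ⧸ T'.subgroupOf Z) := fun h =>
    hidx (h.trans (by
      rw [← Subgroup.index_eq_card, ← Subgroup.index_eq_card, ← Subgroup.relIndex]
      exact Subgroup.relIndex_dvd_index_of_le hTZ))
  let φ₀ : Q →* GL D.Idx K := (MulAut.conj c⁻¹).toMonoidHom.comp Q.subtype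
  have hφ₀G : ∀ y, φ₀ y ∈ G := fun y => by
    simpa [φ₀] using mul_mem (mul_mem (inv_mem hc) (hQ y.2)) hc
  let φ : Q →* Z := (φ₀.codRestrict G hφ₀G).codRestrict Z fun y => by
    rw [hZ, Subgroup.mem_centralizer_iff]
    rintro z ⟨x, hx, hz⟩
    refine Subtype.ext ?_
    show (z : GL D.Idx K) * φ₀ y = φ₀ y * (z : GL D.Idx K)
    rw [hz]
    simp only [φ₀, MonoidHom.coe_comp, Function.comp_apply, Subgroup.coe_subtype,
      MulEquiv.coe_toMonoidHom, MulAut.conj_apply, inv_inv]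
    calc c⁻¹ * x * c * (c⁻¹ * (y : GL D.Idx K) * c) = c⁻¹ * (x * y) * c := by group
      _ = _ := by rw [hPQ x hx y y.2]; group
  obtain ⟨v, hv⟩ := (hQs.of_surjective φ.rangeRestrict
    φ.rangeRestrict_surjective).nonempty_fixed_point_of_prime_not_dvd_card
    (↥Z ⧸ T'.subgroupOf Z) hidxZ
  induction v using QuotientGroup.induction_on with
  | H d =>
    refine ⟨c * (d.1.1), mul_mem hc d.1.2, fun x hx => ?_⟩
    let S : Subgroup (GL D.Idx K) :=
      (D.diagonalSubgroup K).comap (MulAut.conj (c * d.1.1)⁻¹).toMonoidHom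
    suffices P ⊔ Q ≤ S by simpa [S, mul_assoc] using this hx
    refine sup_le (fun x hx => ?_) fun y hy => ?_
    · have h1 := hcP ⟨x, hx⟩
      have h2 : (d.1.1) * (c⁻¹ * x * c) = (c⁻¹ * x * c) * d.1.1 := by
        have hd : d.1 ∈ Subgroup.centralizer {z : G | ∃ x ∈ P, (z : GL D.Idx K) = c⁻¹ * x * c} := d.2
        have h3 := congrArg Subtype.val (Subgroup.mem_centralizer_iff.1 hd
          (⟨c⁻¹ * x * c, mul_mem (mul_mem (inv_mem hc) (hP hx)) hc⟩ : G) ⟨x, hx, rfl⟩)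
        exact h3.symm
      show MulAut.conj (c * d.1.1)⁻¹ x ∈ D.diagonalSubgroup K
      have e : MulAut.conj (c * d.1.1)⁻¹ x = d.1.1⁻¹ * (c⁻¹ * x * c * d.1.1) := by
        simp [mul_assoc]
      rw [e, ← h2, inv_mul_cancel_left]
      exact h1
    · have h5 := hv ⟨φ ⟨y, hy⟩, _, rfl⟩
      have h6 : d⁻¹ * (φ ⟨y, hy⟩ * d) ∈ T'.subgroupOf Z := (QuotientGroup.eq).1 h5.symm
      show MulAut.conj (c * d.1.1)⁻¹ y ∈ D.diagonalSubgroup K
      simpa [T', Subgroup.mem_subgroupOf, φ, φ₀, mul_assoc] using h6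

end

/-- a finite field has an extension with `1` modulo `N` elements -/
theorem exists_field {F : Type*} [Field F] [Fintype F] {N : ℕ} (hN : 0 < N)
    (hq : (Fintype.card F).Coprime N) :
    ∃ (K : Type) (_ : Field K) (_ : Fintype K) (_ : F →+* K), (Fintype.card K : ZMod N) = 1 := by
  obtain ⟨p, hp⟩ := CharP.exists F
  haveI : Fact p.Prime := ⟨CharP.char_is_prime F p⟩
  haveI : NeZero N := ⟨hN.ne'⟩
  haveI : NeZero N.totient := ⟨(Nat.totient_pos.2 hN).ne'⟩
  let K := FiniteField.Extension F p N.totient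
  letI : Fintype K := Fintype.ofFinite K
  refine ⟨K, inferInstance, inferInstance, algebraMap F K, ?_⟩
  rw [Fintype.card_eq_nat_card, FiniteField.natCard_extension, ← Fintype.card_eq_nat_card,
    Nat.cast_pow]
  have := congrArg Units.val (ZMod.pow_totient (ZMod.unitOfCoprime _ hq))
  rwa [Units.val_pow_eq_pow_val, ZMod.coe_unitOfCoprime, Units.val_one] at this

end CfsgLib.Lie.AltSection
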