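import Cfsg.Agent.Lib.Lie.AltSection.WeylFacts
import Cfsg.Agent.Lib.Lie.AltSection.Torus

/-!
# Three-subgroups of the groups of type G₂ for `q ≡ 1 (mod 3)`

Up to conjugation they lie in the extension of the diagonal subgroup by a monomial element `n` of
order `3`; the elements outside the diagonal subgroup have order `3` and trace `-1`, while the
diagonal elements fixed by `n` form a group of order `3` whose other elements have trace `5`.
-/

set_option autoImplicit false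
set_option maxRecDepth 100000
set_option maxHeartbeats 1000000

namespace CfsgLib.Lie.AltSection

open Cfsg.Lie CfsgLib.Lie.Chev CfsgLib.Lie.CoxTorus CfsgLib.Lie.Homocyclic
open scoped MatrixGroups

namespace G2Three

/-- the first fundamental root -/
def i₀ : Fin chevG2.rank := ⟨0, by decide +kernel⟩

/-- the second fundamental root -/
def i₁ : Fin chevG2.rank := ⟨1, by decide +kernel⟩

/-- the word -/
def wd : List (Fin chevG2.rank) := [i₀, i₁, i₀, i₁]

/-- the permutation of the roots -/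
noncomputable def pi3 : Equiv.Perm (Fin chevG2.nroots) := cG2.G.pw wd

/-- the integral matrix -/
noncomputable def nI : Matrix chevG2.Idx chevG2.Idx ℤ := (wd.map cG2.G.nZ).prod

theorem nI_cube : nI * nI * nI = 1 := by decide +kernel

theorem nI_trace : Matrix.trace nI = -1 ∧ Matrix.trace (nI * nI) = -1 := by decide +kernel

theorem nI_diag : ∀ b, weight chevG2 cG2.G.rho b ≠ 0 → nI b b = 0 ∧ (nI * nI) b b = 0 := by
  decide +kernel

theorem pi3_sum : ∀ s, cG2.G.rho s + cG2.G.rho (pi3 s) + cG2.G.rho (pi3 (pi3 s)) = 0 := by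
  decide +kernel

theorem pi3_simp :
    cG2.G.rho (pi3 (cG2.G.simp' i₀)) = Pi.single i₀ 1 + Pi.single i₁ 1 ∧
    cG2.G.rho (pi3 (cG2.G.simp' i₁)) = Pi.single i₁ 1 + (-3 : ℤ) • (Pi.single i₀ 1 + Pi.single i₁ 1) := by
  decide +kernel

theorem rho_single : ∀ (v : Fin chevG2.rank → ℤ), v = v i₀ • Pi.single i₀ 1 + v i₁ • Pi.single i₁ 1 := by
  intro v
  funext j
  rcases (show ∀ j : Fin chevG2.rank, j = i₀ ∨ j = i₁ by decide +kernel) j with rfl | rfl <;>
    simp [i₀, i₁]

theorem fiber_counts :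
    (Finset.univ.filter fun b => weight chevG2 cG2.G.rho b i₀ % 3 = 0).card = 8 ∧
    (Finset.univ.filter fun b => weight chevG2 cG2.G.rho b i₀ % 3 = 1).card = 3 ∧
    (Finset.univ.filter fun b => weight chevG2 cG2.G.rho b i₀ % 3 = 2).card = 3 := by decide +kernel

theorem index_ne_zero : ∀ x : ZMod 9, (ZMod.castHom (show 3 ∣ 9 by norm_num) (ZMod 3)) x = 1 →
    x ^ 6 * ∏ i : Fin chevG2.rank, ∑ j ∈ Finset.range (vecOfList [2, 6] i), x ^ j ≠ 0 := by
  decide +kernel

variable {K : Type*} [Field K]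

/-- the monomial element -/
noncomputable def nG : GL chevG2.Idx K := cG2.G.nw wd

theorem coe_nG : ((nG : GL chevG2.Idx K) : Matrix chevG2.Idx chevG2.Idx K) =
    (Int.castRingHom K).mapMatrix nI := by
  simp only [nG, nI, Good.nw, wd, List.map_cons, List.map_nil, List.prod_cons, List.prod_nil,
    Units.val_mul, Units.val_one, mul_one, map_mul, cG2.G.coe_nU]
  rfl

theorem nG_cube : (nG : GL chevG2.Idx K) ^ 3 = 1 := by
  apply Units.ext
  rw [Units.val_pow_eq_pow_val, coe_nG, ← map_pow, pow_three', nI_cube, map_one, Units.val_one]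

theorem nG_nPerm : cG2.G.NPerm (nG : GL chevG2.Idx K) pi3 := cG2.G.nPerm_nw wd

theorem nG_monomial : (nG : GL chevG2.Idx K) ∈ chevG2.monomialSubgroup K :=
  cG2.G.nw_mem_monomial wd

theorem nG_group : (nG : GL chevG2.Idx K) ∈ chevG2.group K :=
  cG2.G.monomial_le_group nG_monomial

theorem nG_conj {x : GL chevG2.Idx K} (hx : x ∈ chevG2.diagonalSubgroup K) :
    nG * x * nG⁻¹ ∈ chevG2.diagonalSubgroup K :=
  (Subgroup.mem_normalizer_iff.1 (cG2.G.monomial_le_normalizer nG_monomial) x).1 hx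

theorem nG_not_mem : (nG : GL chevG2.Idx K) ∉ chevG2.diagonalSubgroup K := fun h => by
  have h1 : pi3 = 1 := Good.NPerm.unique cG2.G nG_nPerm (cG2.G.nPerm_H h)
  exact absurd h1 (by decide +kernel)

/-- the product over an orbit is trivial -/
theorem orbit_prod {x : GL chevG2.Idx K} (hx : x ∈ chevG2.diagonalSubgroup K) :
    x * (nG * x * nG⁻¹) * (nG * (nG * x * nG⁻¹) * nG⁻¹) = 1 := by
  obtain ⟨a, rfl⟩ := cG2.G.exists_tor hx
  obtain ⟨b, hb⟩ := cG2.G.exists_tor (nG_conj hx)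
  obtain ⟨c, hc⟩ := cG2.G.exists_tor (nG_conj (nG_conj hx))
  have h1 := chi_of_conj cG2 nG_nPerm (show nG * cG2.G.tor a = cG2.G.tor b * nG by rw [← hb]; group)
  have h2 := chi_of_conj cG2 nG_nPerm (show nG * cG2.G.tor b = cG2.G.tor c * nG by rw [← hb, ← hc]; group)
  rw [hc, hb, ← map_mul, ← map_mul]
  have e : a * b * c = 1 := eq_of_chi cG2 fun s => by
    obtain ⟨t, rfl⟩ : ∃ t, pi3 (pi3 t) = s := (pi3 * pi3).surjective s
    rw [cG2.G.chi_mul, cG2.G.chi_mul, h2, h1]
    rw [h1, ← cG2.G.chi_add, ← cG2.G.chi_add, show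
      cG2.G.rho (pi3 (pi3 t)) + cG2.G.rho (pi3 t) + cG2.G.rho t = 0 by
        rw [← pi3_sum t]; abel, cG2.G.chi_zero]
    simp [Good.chi]
  rw [e, map_one]

theorem outside_cube {x : GL chevG2.Idx K} (hx : x ∈ chevG2.diagonalSubgroup K) :
    (x * nG) ^ 3 = 1 := by
  have h := orbit_prod hx
  calc (x * nG) ^ 3 = x * (nG * x * nG⁻¹) * (nG * (nG * x * nG⁻¹) * nG⁻¹) * nG ^ 3 := by
        rw [pow_succ, pow_two]; group
    _ = 1 := by rw [h, nG_cube, one_mul]

theorem outside_cube_sq {x : GL chevG2.Idx K} (hx : x ∈ chevG2.diagonalSubgroup K) :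
    (x * nG ^ 2) ^ 3 = 1 := by
  have e : x * nG ^ 2 = ((nG * x⁻¹ * nG⁻¹) * nG)⁻¹ * nG ^ 3 := by group
  rw [e, nG_cube, mul_one, inv_pow, outside_cube (nG_conj (inv_mem hx)), inv_one]

theorem trace_of_diag_zero {x : GL chevG2.Idx K} (hx : x ∈ chevG2.diagonalSubgroup K)
    (M : Matrix chevG2.Idx chevG2.Idx ℤ) (hM : ∀ b, weight chevG2 cG2.G.rho b ≠ 0 → M b b = 0) :
    Matrix.trace ((x : Matrix chevG2.Idx chevG2.Idx K) * (Int.castRingHom K).mapMatrix M) =
      ((Matrix.trace M : ℤ) : K) := by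
  obtain ⟨a, rfl⟩ := cG2.G.exists_tor hx
  simp only [Matrix.trace, Matrix.diag, cG2.G.coe_tor, Matrix.diagonal_mul, RingHom.mapMatrix_apply,
    Matrix.map_apply, Int.cast_sum]
  refine Finset.sum_congr rfl fun b _ => ?_
  by_cases hb : weight chevG2 cG2.G.rho b = 0
  · rw [hb, cG2.G.chi_zero, Units.val_one, one_mul]; rfl
  · rw [hM b hb]; simp

theorem outside_trace {x : GL chevG2.Idx K} (hx : x ∈ chevG2.diagonalSubgroup K) :
    Matrix.trace (((x * nG : GL chevG2.Idx K)) : Matrix chevG2.Idx chevG2.Idx K) = -1 ∧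
    Matrix.trace (((x * nG ^ 2 : GL chevG2.Idx K)) : Matrix chevG2.Idx chevG2.Idx K) = -1 := by
  rw [Units.val_mul, Units.val_mul, Units.val_pow_eq_pow_val, coe_nG, ← map_pow, pow_two,
    trace_of_diag_zero hx _ fun b hb => (nI_diag b hb).1,
    trace_of_diag_zero hx _ fun b hb => (nI_diag b hb).2, nI_trace.1, nI_trace.2]
  simp

/-- the diagonal elements fixed by `n` -/
theorem fixed_eq {x : GL chevG2.Idx K} (hx : x ∈ chevG2.diagonalSubgroup K)
    (h : nG * x = x * nG) :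
    ∃ a : Fin chevG2.rank → Kˣ, x = cG2.G.tor a ∧ a i₀ ^ 3 = 1 ∧ a i₁ = 1 := by
  obtain ⟨a, rfl⟩ := cG2.G.exists_tor hx
  refine ⟨a, rfl, ?_, ?_⟩
  · have h1 := chi_of_conj cG2 nG_nPerm h (cG2.G.simp' i₁)
    rw [pi3_simp.2, cG2.G.rho_simp, cG2.G.chi_add, cG2.G.chi_zsmul, cG2.G.chi_add,
      cG2.G.chi_single, cG2.G.chi_single, mul_eq_left, zpow_neg, inv_eq_one] at h1
    have h0 := chi_of_conj cG2 nG_nPerm h (cG2.G.simp' i₀)
    rw [pi3_simp.1, cG2.G.rho_simp, cG2.G.chi_add, cG2.G.chi_single, cG2.G.chi_single,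
      mul_eq_left] at h0
    rw [h0, mul_one] at h1
    exact_mod_cast h1
  · have h0 := chi_of_conj cG2 nG_nPerm h (cG2.G.simp' i₀)
    rwa [pi3_simp.1, cG2.G.rho_simp, cG2.G.chi_add, cG2.G.chi_single, cG2.G.chi_single,
      mul_eq_left] at h0

theorem fixed_cube {x : GL chevG2.Idx K} (hx : x ∈ chevG2.diagonalSubgroup K)
    (h : nG * x = x * nG) : x ^ 3 = 1 := by
  obtain ⟨a, rfl, h0, h1⟩ := fixed_eq hx h
  rw [← map_pow, show a ^ 3 = 1 from funext fun j => by
    rcases (show ∀ j : Fin chevG2.rank, j = i₀ ∨ j = i₁ by decide +kernel) j with rfl | rfl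
    · simpa using h0
    · simp [h1], map_one]

theorem fixed_trace {x : GL chevG2.Idx K} (hx : x ∈ chevG2.diagonalSubgroup K)
    (h : nG * x = x * nG) (hne : x ≠ 1) :
    Matrix.trace (x : Matrix chevG2.Idx chevG2.Idx K) = 5 := by
  classical
  obtain ⟨a, rfl, h0, h1⟩ := fixed_eq hx h
  set ω : K := (a i₀ : K) with hω
  have hω3 : ω ^ 3 = 1 := by rw [hω, ← Units.val_pow_eq_pow_val, h0, Units.val_one]
  have hω1 : ω ≠ 1 := fun e => hne (by
    rw [show a = 1 from funext fun j => by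
      rcases (show ∀ j : Fin chevG2.rank, j = i₀ ∨ j = i₁ by decide +kernel) j with rfl | rfl
      · exact Units.ext e
      · exact h1, map_one])
  have hsum : 1 + ω + ω ^ 2 = 0 :=
    (mul_eq_zero.1 (show (ω - 1) * (1 + ω + ω ^ 2) = 0 by linear_combination hω3)).resolve_left
      (sub_ne_zero.2 hω1)
  have hval : ∀ v : Fin chevG2.rank → ℤ,
      (cG2.G.chi a v : K) = ω ^ (v i₀ % 3).toNat := fun v => by
    have e : a i₀ ^ v i₀ = a i₀ ^ (v i₀ % 3).toNat := by
      have he : (((v i₀ % 3).toNat : ℕ) : ℤ) = v i₀ % 3 :=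
        Int.toNat_of_nonneg (Int.emod_nonneg (v i₀) (by norm_num))
      rw [← zpow_natCast (a i₀) (v i₀ % 3).toNat, he]
      conv_lhs => rw [← Int.emod_add_mul_ediv (v i₀) 3, zpow_add, zpow_mul,
        show (a i₀) ^ (3 : ℤ) = 1 from by exact_mod_cast h0, one_zpow, mul_one]
    conv_lhs => rw [rho_single v, cG2.G.chi_add, cG2.G.chi_zsmul, cG2.G.chi_zsmul, cG2.G.chi_single,
      cG2.G.chi_single, h1, one_zpow, mul_one, e]
    rw [hω, ← Units.val_pow_eq_pow_val]
  obtain ⟨c0, c1, c2⟩ := fiber_counts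
  rw [cG2.G.coe_tor, Matrix.trace_diagonal]
  simp only [hval]
  rw [← Finset.sum_fiberwise_of_maps_to (t := ({0, 1, 2} : Finset ℤ))
    (g := fun b => weight chevG2 cG2.G.rho b i₀ % 3) (fun b _ => by
      have h1 := Int.emod_nonneg (weight chevG2 cG2.G.rho b i₀) (by norm_num : (3 : ℤ) ≠ 0)
      have h2 := Int.emod_lt_of_pos (weight chevG2 cG2.G.rho b i₀) (by norm_num : (0 : ℤ) < 3)
      simp only [Finset.mem_insert, Finset.mem_singleton]
      omega)]
  have hf : ∀ j : ℤ, (∑ b ∈ Finset.univ.filter (fun b => weight chevG2 cG2.G.rho b i₀ % 3 = j),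
      ω ^ (weight chevG2 cG2.G.rho b i₀ % 3).toNat) =
      (Finset.univ.filter (fun b => weight chevG2 cG2.G.rho b i₀ % 3 = j)).card * ω ^ j.toNat := by
    intro j
    rw [← nsmul_eq_mul, ← Finset.sum_const]
    exact Finset.sum_congr rfl fun b hb => by rw [(Finset.mem_filter.1 hb).2]
  simp only [hf]
  rw [Finset.sum_insert (by decide), Finset.sum_insert (by decide), Finset.sum_singleton, c0, c1, c2]
  push_cast
  norm_num
  linear_combination 3 * hsum

theorem fixed_unique {x y : GL chevG2.Idx K} (hx : x ∈ chevG2.diagonalSubgroup K)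
    (hxn : nG * x = x * nG) (hne : x ≠ 1) (hy : y ∈ chevG2.diagonalSubgroup K)
    (hyn : nG * y = y * nG) : ∃ k : ℕ, y = x ^ k := by
  classical
  obtain ⟨a, rfl, ha0, ha1⟩ := fixed_eq hx hxn
  obtain ⟨b, rfl, hb0, hb1⟩ := fixed_eq hy hyn
  haveI : NeZero (3 : ℕ) := ⟨by norm_num⟩
  have hprim : IsPrimitiveRoot (a i₀ : K) 3 := by
    haveI : Fact (Nat.Prime 3) := ⟨by norm_num⟩
    rw [IsPrimitiveRoot.iff_orderOf]
    refine orderOf_eq_prime (by rw [← Units.val_pow_eq_pow_val, ha0, Units.val_one]) fun e => hne ?_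
    rw [show a = 1 from funext fun j => by
      rcases (show ∀ j : Fin chevG2.rank, j = i₀ ∨ j = i₁ by decide +kernel) j with rfl | rfl
      · exact Units.ext e
      · exact ha1, map_one]
  obtain ⟨k, -, hk⟩ := hprim.eq_pow_of_pow_eq_one
    (show (b i₀ : K) ^ 3 = 1 by rw [← Units.val_pow_eq_pow_val, hb0, Units.val_one])
  refine ⟨k, ?_⟩
  rw [← map_pow]
  congr 1
  funext j
  rcases (show ∀ j : Fin chevG2.rank, j = i₀ ∨ j = i₁ by decide +kernel) j with rfl | rfl
  · exact Units.ext (by simpa using hk.symm)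
  · simp [ha1, hb1]

/-- the extension of the diagonal subgroup by `n` -/
noncomputable def ext3 (K : Type*) [Field K] : Subgroup (GL chevG2.Idx K) where
  carrier := {x | ∃ i : ℤ, x * nG ^ i ∈ chevG2.diagonalSubgroup K}
  one_mem' := ⟨0, by simp⟩
  mul_mem' := by
    rintro x y ⟨i, hi⟩ ⟨j, hj⟩
    refine ⟨j + i, ?_⟩
    have hn : (nG : GL chevG2.Idx K) ^ i ∈ Subgroup.normalizer
        (chevG2.diagonalSubgroup K : Set (GL chevG2.Idx K)) :=
      zpow_mem (cG2.G.monomial_le_normalizer nG_monomial) i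
    have h := mul_mem hi ((Subgroup.mem_normalizer_iff''.1 hn _).1 hj)
    have e : x * y * nG ^ (j + i) = x * nG ^ i * ((nG ^ i)⁻¹ * (y * nG ^ j) * nG ^ i) := by
      rw [zpow_add]; group
    rw [e]; exact h
  inv_mem' := by
    rintro x ⟨i, hi⟩
    refine ⟨-i, ?_⟩
    have hn : (nG : GL chevG2.Idx K) ^ i ∈ Subgroup.normalizer
        (chevG2.diagonalSubgroup K : Set (GL chevG2.Idx K)) :=
      zpow_mem (cG2.G.monomial_le_normalizer nG_monomial) i
    have h := (Subgroup.mem_normalizer_iff.1 hn _).1 (inv_mem hi)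
    have e : x⁻¹ * nG ^ (-i) = nG ^ i * (x * nG ^ i)⁻¹ * (nG ^ i)⁻¹ := by group
    rw [e]; exact h

theorem mem_ext3 {x : GL chevG2.Idx K} (hx : x ∈ ext3 K) :
    x ∈ chevG2.diagonalSubgroup K ∨ ∃ t ∈ chevG2.diagonalSubgroup K, x = t * nG ∨ x = t * nG ^ 2 := by
  obtain ⟨i, hi⟩ := hx
  have e : (nG : GL chevG2.Idx K) ^ i = nG ^ (i % 3) := by
    conv_lhs => rw [← Int.emod_add_mul_ediv i 3, zpow_add, zpow_mul,
      show ((3 : ℤ)) = ((3 : ℕ) : ℤ) from rfl, zpow_natCast, nG_cube, one_zpow, mul_one]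
    rfl
  rw [e] at hi
  have h0 := Int.emod_nonneg i (by norm_num : (3 : ℤ) ≠ 0)
  have h3 := Int.emod_lt_of_pos i (by norm_num : (0 : ℤ) < 3)
  rcases (show i % 3 = 0 ∨ i % 3 = 1 ∨ i % 3 = 2 by omega) with h | h | h <;> rw [h] at hi
  · left; simpa using hi
  · refine Or.inr ⟨_, hi, Or.inr ?_⟩
    rw [zpow_one, mul_assoc, ← pow_succ', nG_cube, mul_one]
  · refine Or.inr ⟨_, hi, Or.inl ?_⟩
    rw [show (2 : ℤ) = ((2 : ℕ) : ℤ) from rfl, zpow_natCast, mul_assoc, ← pow_succ, nG_cube, mul_one]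

/-- every subgroup of order a power of `3` is conjugate into `ext3` -/
theorem exists_conj_ext3 [Fintype K] (hK : (Fintype.card K : ZMod 3) = 1) {H : Type*} [Group H]
    (hH : IsPGroup 3 H) (φ : H →* ↥(chevG2.group K)) :
    ∃ c ∈ chevG2.group K, ∀ x, c⁻¹ * (φ x : GL chevG2.Idx K) * c ∈ ext3 K := by
  classical
  haveI : Fact (Nat.Prime 3) := ⟨by norm_num⟩
  set T' := (chevG2.diagonalSubgroup K).subgroupOf (chevG2.group K)
  set X' := (ext3 K).subgroupOf (chevG2.group K)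
  have hTX : T' ≤ X' := fun x hx => by
    refine ⟨0, ?_⟩
    rw [zpow_zero, mul_one]
    exact hx
  have hTc : (Nat.card (↥(chevG2.group K) ⧸ T') : ℤ) = (Fintype.card K : ℤ) ^ (chevG2.nroots / 2) *
      ∏ i : Fin chevG2.rank, ∑ j ∈ Finset.range (vecOfList [2, 6] i), (Fintype.card K : ℤ) ^ j := by
    have hcard : Nat.card T' = Nat.card ↥(chevG2.diagonalSubgroup K) :=
      Nat.card_congr (Subgroup.subgroupOfEquivOfLe cG2.G.diagonal_le_group).toEquiv
    have h1 := cG2.order_formula (K := K) kerG2 kerG2_ok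
    rw [Psum_eq_prod cG2 degG2, Subgroup.card_eq_card_quotient_mul_card_subgroup T', hcard,
      mul_left_comm, cG2.G.card_diagonal kerG2 kerG2_ok, Nat.cast_mul, Nat.cast_pow,
      Nat.cast_sub Fintype.card_pos, Nat.cast_one, ← mul_assoc] at h1
    have hne : ((Fintype.card K : ℤ) - 1) ^ chevG2.rank ≠ 0 := by
      have := Fintype.one_lt_card (α := K)
      exact pow_ne_zero _ (by omega)
    exact mul_right_cancel₀ hne h1
  -- the index of the diagonal subgroup is not divisible by nine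
  have h9 : ¬ 9 ∣ Nat.card (↥(chevG2.group K) ⧸ T') := by
    intro hd
    have h4 : ((Nat.card (↥(chevG2.group K) ⧸ T') : ℤ) : ZMod 9) = 0 := by
      rw [Int.cast_natCast]
      exact (ZMod.natCast_eq_zero_iff _ _).2 hd
    have h5 : (ZMod.castHom (show 3 ∣ 9 by norm_num) (ZMod 3))
        ((Fintype.card K : ℕ) : ZMod 9) = 1 := by
      rw [map_natCast]; exact hK
    rw [hTc, show chevG2.nroots / 2 = 6 from by decide +kernel] at h4
    push_cast at h4
    exact index_ne_zero _ h5 h4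
  have hidx : ¬ 3 ∣ Nat.card (↥(chevG2.group K) ⧸ X') := by
    intro hd
    rw [← Subgroup.index_eq_card] at hd h9
    rw [← Subgroup.relIndex_mul_index hTX] at h9
    have hr : ¬ 3 ∣ T'.relIndex X' := fun h => h9 (by
      rw [show 9 = 3 * 3 by norm_num]; exact Nat.mul_dvd_mul h hd)
    haveI : (T'.subgroupOf X').Normal := by
      refine ⟨fun t ht g => ?_⟩
      have hg : (g : ↥(chevG2.group K)).1 ∈ Subgroup.normalizer
          (chevG2.diagonalSubgroup K : Set (GL chevG2.Idx K)) := by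
        obtain ⟨i, hi⟩ := g.2
        have e := mul_mem (cG2.G.monomial_le_normalizer (cG2.G.H_le_monomial hi))
          (inv_mem (zpow_mem (cG2.G.monomial_le_normalizer nG_monomial) i))
        simpa using e
      exact (Subgroup.mem_normalizer_iff.1 hg _).1 ht
    set n' : X' := ⟨⟨nG, nG_group⟩, ⟨-1, by simp⟩⟩
    have h1 : n' ^ (T'.subgroupOf X').index ∈ T'.subgroupOf X' := Subgroup.pow_index_mem _ _
    have h2 : n' ^ 3 ∈ T'.subgroupOf X' := by
      show (nG : GL chevG2.Idx K) ^ 3 ∈ chevG2.diagonalSubgroup K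
      rw [nG_cube]; exact one_mem _
    have hcop : Nat.Coprime 3 (T'.subgroupOf X').index :=
      (Nat.Prime.coprime_iff_not_dvd (by norm_num)).2 hr
    have h3 : n' ∈ T'.subgroupOf X' := by
      have e : n' = (n' ^ 3) ^ Nat.gcdA 3 (T'.subgroupOf X').index *
          (n' ^ (T'.subgroupOf X').index) ^ Nat.gcdB 3 (T'.subgroupOf X').index := by
        rw [← zpow_natCast n' 3, ← zpow_natCast n' (T'.subgroupOf X').index, ← zpow_mul, ← zpow_mul,
          ← zpow_add, ← Nat.gcd_eq_gcd_ab, hcop.gcd_eq_one, Nat.cast_one, zpow_one]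
      rw [e]
      exact mul_mem (zpow_mem h2 _) (zpow_mem h1 _)
    exact nG_not_mem (K := K) h3
  obtain ⟨v, hv⟩ := (hH.of_surjective φ.rangeRestrict
    φ.rangeRestrict_surjective).nonempty_fixed_point_of_prime_not_dvd_card
    (↥(chevG2.group K) ⧸ X') hidx
  induction v using QuotientGroup.induction_on with
  | H c =>
    refine ⟨c.1, c.2, fun x => ?_⟩
    have h5 := hv ⟨φ x, x, rfl⟩
    have h6 : c⁻¹ * (φ x * c) ∈ X' := (QuotientGroup.eq).1 h5.symm
    rw [mul_assoc]
    exact h6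

end G2Three

end CfsgLib.Lie.AltSection
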