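import Mathlib.GroupTheory.Sylow

/-!
# Lifting an element of prime power order together with its normalizer

For a homomorphism `ψ` and an element `x` of `ℓ`-power order in its range, a Sylow `ℓ`-subgroup of
the preimage of `⟨x⟩` maps onto `⟨x⟩`, and its normalizer covers the normalizer of `⟨x⟩`.
-/

set_option autoImplicit false

namespace CfsgLib.Lie.AltSection

variable {H : Type*} [Group H] [Finite H]

/-- the Frattini argument for a subgroup normalised by `g` -/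
theorem exists_mul_normalizing (ℓ : ℕ) [Fact ℓ.Prime] (M : Subgroup H) (P : Sylow ℓ M) (g : H)
    (hg : ∀ m ∈ M, g * m * g⁻¹ ∈ M) :
    ∃ m ∈ M, ∀ x ∈ (P : Subgroup M).map M.subtype,
      m * g * x * (m * g)⁻¹ ∈ (P : Subgroup M).map M.subtype := by
  set Pm := (P : Subgroup M).map M.subtype with hPm
  let P' := Pm.map (MulAut.conj g).toMonoidHom
  have hP'M : P' ≤ M := by
    rintro _ ⟨x, ⟨y, -, rfl⟩, rfl⟩
    exact hg _ y.2
  have hcard : Nat.card (P'.subgroupOf M) = Nat.card (P : Subgroup M) := by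
    rw [Nat.card_congr (Subgroup.subgroupOfEquivOfLe hP'M).toEquiv,
      Subgroup.card_map_of_injective (MulAut.conj g).injective,
      Subgroup.card_map_of_injective M.subtype_injective]
  let Q : Sylow ℓ M := Sylow.ofCard (P'.subgroupOf M) (by rw [hcard, P.card_eq_multiplicity])
  obtain ⟨m, hm⟩ := MulAction.exists_smul_eq M Q P
  refine ⟨m.1, m.2, fun x hx => ?_⟩
  have h1 : g * x * g⁻¹ ∈ P' := ⟨x, hx, rfl⟩
  have h2 : (⟨g * x * g⁻¹, hP'M h1⟩ : M) ∈ (Q : Subgroup M) := h1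
  have h3 : m * ⟨g * x * g⁻¹, hP'M h1⟩ * m⁻¹ ∈ (P : Subgroup M) := by
    rw [← hm]
    exact ⟨_, h2, rfl⟩
  refine ⟨_, h3, ?_⟩
  simp [mul_assoc]

/-- a Sylow subgroup of the preimage of a cyclic `ℓ`-group and its normalizer -/
theorem exists_lift {A : Type*} [Group A] (ψ : H →* A) (ℓ : ℕ) [Fact ℓ.Prime] {x : A} {k : ℕ}
    (hx : x ∈ ψ.range) (hord : x ^ ℓ ^ k = 1) :
    ∃ P : Subgroup H, IsPGroup ℓ P ∧ (∀ c ∈ P, ψ c ∈ Subgroup.zpowers x) ∧ (∃ a ∈ P, ψ a = x) ∧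
      ∀ g₀ : H, ψ g₀ * x * (ψ g₀)⁻¹ ∈ Subgroup.zpowers x →
        ∃ g : H, g ∈ Subgroup.normalizer (P : Set H) ∧ ψ g * (ψ g₀)⁻¹ ∈ Subgroup.zpowers x := by
  classical
  set Z := Subgroup.zpowers x
  set M := Z.comap ψ
  let f : M →* Z := (ψ.comp M.subtype).codRestrict Z fun m => m.2
  have hf : Function.Surjective f := by
    rintro ⟨z, hz⟩
    obtain ⟨n, rfl⟩ := Subgroup.mem_zpowers_iff.1 hz
    obtain ⟨a, rfl⟩ := hx
    exact ⟨⟨a ^ n, by simp [M, Z]⟩, Subtype.ext (by show ψ (a ^ n) = _; rw [map_zpow])⟩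
  obtain ⟨P⟩ : Nonempty (Sylow ℓ M) := inferInstance
  haveI : Finite Z := Finite.of_surjective f hf
  have hZ : IsPGroup ℓ Z := by
    intro z
    obtain ⟨n, hn⟩ := Subgroup.mem_zpowers_iff.1 z.2
    refine ⟨k, Subtype.ext ?_⟩
    rw [SubmonoidClass.coe_pow, ← hn, ← zpow_natCast, ← zpow_mul, mul_comm, zpow_mul, zpow_natCast,
      hord, one_zpow, OneMemClass.coe_one]
  have htop : ((P.mapSurjective hf : Sylow ℓ Z) : Subgroup Z) = ⊤ := by
    apply Subgroup.eq_top_of_card_eq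
    obtain ⟨j, hj⟩ := IsPGroup.iff_card.1 hZ
    rw [(P.mapSurjective hf).card_eq_multiplicity, hj, Nat.Prime.factorization_pow Fact.out]
    simp
  refine ⟨(P : Subgroup M).map M.subtype, P.2.map _, ?_, ?_, fun g₀ hg₀ => ?_⟩
  · rintro _ ⟨c, -, rfl⟩
    exact c.2
  · have h1 : (⟨x, Subgroup.mem_zpowers x⟩ : Z) ∈ ((P.mapSurjective hf : Sylow ℓ Z) : Subgroup Z) := by
      rw [htop]; trivial
    obtain ⟨a, ha, hax⟩ := h1
    exact ⟨_, ⟨a, ha, rfl⟩, congrArg Subtype.val hax⟩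
  · have hgM : ∀ m ∈ M, g₀ * m * g₀⁻¹ ∈ M := by
      intro m hm
      obtain ⟨n, hn⟩ := Subgroup.mem_zpowers_iff.1 (show ψ m ∈ Z from hm)
      show ψ (g₀ * m * g₀⁻¹) ∈ Z
      rw [map_mul, map_mul, map_inv, ← hn, ← conj_zpow]
      exact zpow_mem hg₀ n
    obtain ⟨m, hm, hmP⟩ := exists_mul_normalizing ℓ M P g₀ hgM
    refine ⟨m * g₀, ?_, by rw [map_mul, mul_inv_cancel_right]; exact hm⟩
    exact Subgroup.mem_normalizer_fintype hmP

end CfsgLib.Lie.AltSection
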