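import Cfsg.Agent.Lib.Lie.AltSection.Lift
import Cfsg.Agent.Lib.Lie.AltSection.Descend
import Cfsg.Agent.Lib.Lie.AltSection.Alternating
import Cfsg.Agent.Lib.Lie.AltSection.WeylFacts

/-!
# No alternating sections of degree 12, and of degree 11 away from characteristic 11, in type F₄
-/

set_option autoImplicit false
set_option maxRecDepth 100000

namespace CfsgLib.Lie.AltSection

open Cfsg.Lie CfsgLib.Lie.Chev CfsgLib.Lie.CoxTorus CfsgLib.Lie.Homocyclic
open scoped MatrixGroups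

/-- conjugation by powers -/
theorem conj_pow_of_conj {G : Type*} [Group G] {h x : G} {e : ℕ} (he : h * x * h⁻¹ = x ^ e)
    (n : ℕ) : h ^ n * x * (h ^ n)⁻¹ = x ^ e ^ n := by
  induction n with
  | zero => simp
  | succ n ih =>
    rw [pow_succ', show h * h ^ n * x * (h * h ^ n)⁻¹ = h * (h ^ n * x * (h ^ n)⁻¹) * h⁻¹ by group,
      ih, ← conj_pow, he, ← pow_mul, pow_succ, mul_comm]

/-- changing an element by a power of `z` does not change its action on what commutes with `z` -/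
theorem conj_of_mem_zpowers {G : Type*} [Group G] {h y z x w : G}
    (hz : h * y⁻¹ ∈ Subgroup.zpowers z) (hy : y * x * y⁻¹ = w) (hw : Commute z w) :
    h * x * h⁻¹ = w := by
  obtain ⟨i, hi⟩ := Subgroup.mem_zpowers_iff.1 hz
  have e : h = z ^ i * y := by rw [hi, inv_mul_cancel_right]
  rw [e, show z ^ i * y * x * (z ^ i * y)⁻¹ = z ^ i * (y * x * y⁻¹) * (z ^ i)⁻¹ by group, hy,
    (hw.zpow_left i).eq, mul_inv_cancel_right]

section perms

/-- an even permutation given by a function and its inverse -/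
def evenOf {n : ℕ} (f g : Fin n → Fin n) (h₁ : ∀ i, g (f i) = i) (h₂ : ∀ i, f (g i) = i)
    (hs : Equiv.Perm.sign (⟨f, g, h₁, h₂⟩ : Equiv.Perm (Fin n)) = 1) : alternatingGroup (Fin n) :=
  ⟨⟨f, g, h₁, h₂⟩, hs⟩

/-- the cycle of length 11 -/
def x11 : alternatingGroup (Fin 11) :=
  evenOf (fun i => i + 1) (fun i => i + 10) (by decide) (by decide) (by decide +kernel)

/-- multiplication by 3 -/
def y11 : alternatingGroup (Fin 11) :=
  evenOf (fun i => 3 * i) (fun i => 4 * i) (by decide) (by decide) (by decide +kernel)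

/-- the cycle of length 7 among 12 points -/
def x7 : alternatingGroup (Fin 12) :=
  evenOf (fun i => ![1, 2, 3, 4, 5, 6, 0, 7, 8, 9, 10, 11] i)
    (fun i => ![6, 0, 1, 2, 3, 4, 5, 7, 8, 9, 10, 11] i) (by decide) (by decide) (by decide +kernel)

/-- the cycle of length 5 among 12 points -/
def x5 : alternatingGroup (Fin 12) :=
  evenOf (fun i => ![0, 1, 2, 3, 4, 5, 6, 8, 9, 10, 11, 7] i)
    (fun i => ![0, 1, 2, 3, 4, 5, 6, 11, 7, 8, 9, 10] i) (by decide) (by decide) (by decide +kernel)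

/-- multiplication by 3 modulo 7 and by 2 modulo 5 -/
def y35 : alternatingGroup (Fin 12) :=
  evenOf (fun i => ![0, 3, 6, 2, 5, 1, 4, 7, 9, 11, 8, 10] i)
    (fun i => ![0, 5, 3, 1, 6, 4, 2, 7, 10, 8, 11, 9] i) (by decide) (by decide) (by decide +kernel)

theorem x11_ord : x11 ^ 11 ^ 1 = 1 := by decide +kernel

theorem y11_conj : y11 * x11 * y11⁻¹ = x11 ^ 3 := by decide +kernel

theorem x7_ord : x7 ^ 7 ^ 1 = 1 := by decide +kernel

theorem x5_ord : x5 ^ 5 ^ 1 = 1 := by decide +kernel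

theorem x5_pow : x5 ^ 21 = x5 := by decide +kernel

theorem x7_x5 : Commute x7 x5 := by unfold Commute SemiconjBy; decide +kernel

theorem y35_seven : y35 * x7 * y35⁻¹ = x7 ^ 3 := by decide +kernel

theorem y35_five : y35 * x5 * y35⁻¹ = x5 ^ 2 := by decide +kernel

theorem x7_ne : x7 ^ 3 ^ 8 ≠ x7 ∧ x7 ^ 3 ^ 4 * x7 ≠ x7 ^ 3 ^ 2 := by
  have e : (3 : ℕ) ^ 8 = 7 ^ 1 * 937 + 2 := by norm_num
  have e4 : (3 : ℕ) ^ 4 = 7 ^ 1 * 11 + 4 := by norm_num
  rw [e, e4, pow_add, pow_mul, x7_ord, one_pow, one_mul, pow_add, pow_mul, x7_ord, one_pow, one_mul]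
  decide +kernel

theorem x5_ne : x5 ^ 2 ^ 6 ≠ x5 := by
  have e : (2 : ℕ) ^ 6 = 5 ^ 1 * 12 + 4 := by norm_num
  rw [e, pow_add, pow_mul, x5_ord, one_pow, one_mul]
  decide +kernel

theorem x11_ne {m : ℕ} (hm : ¬ 5 ∣ m) : x11 ^ 3 ^ m ≠ x11 := by
  have h1 : (3 : ℕ) ^ m ≡ 3 ^ (m % 5) [MOD 11] := by
    conv_lhs => rw [← Nat.div_add_mod m 5, pow_add, pow_mul]
    calc ((3 : ℕ) ^ 5) ^ (m / 5) * 3 ^ (m % 5) ≡ 1 ^ (m / 5) * 3 ^ (m % 5) [MOD 11] :=
          (Nat.ModEq.pow _ (by decide)).mul_right _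
      _ = _ := by rw [one_pow, one_mul]
  have h2 : x11 ^ 3 ^ m = x11 ^ 3 ^ (m % 5) := by
    rw [pow_eq_pow_mod (3 ^ m) x11_ord, pow_eq_pow_mod (3 ^ (m % 5)) x11_ord]
    exact congrArg _ h1
  rw [h2]
  have h3 : m % 5 ≠ 0 := fun h => hm (Nat.dvd_of_mod_eq_zero h)
  have h4 : m % 5 < 5 := Nat.mod_lt _ (by norm_num)
  generalize m % 5 = j at *
  interval_cases j <;> first | omega | decide +kernel

end perms

theorem degF4_not_dvd {r : ℕ} (hr : r.Prime) (h : r ≠ 2) (h3 : r ≠ 3) (i : Fin chevF4.rank) :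
    ¬ r ∣ vecOfList [2, 6, 8, 12] i := by
  have hmem : ∀ i : Fin chevF4.rank,
      vecOfList [2, 6, 8, 12] i = 2 ∨ vecOfList [2, 6, 8, 12] i = 6 ∨
        vecOfList [2, 6, 8, 12] i = 8 ∨ vecOfList [2, 6, 8, 12] i = 12 := by decide +kernel
  intro hd
  have h24 : r ∣ 24 := by
    refine hd.trans ?_
    rcases hmem i with e | e | e | e <;> rw [e] <;> norm_num
  have := Nat.le_of_dvd (by norm_num) h24
  have := hr.two_le
  interval_cases r <;> norm_num at *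

variable {F : Type*} [Field F] [Fintype F] {p : ℕ} [Fact p.Prime] [CharP F p]

omit [Fact p.Prime] in
theorem not_dvd_card {r : ℕ} (hr : r.Prime) (hrp : r ≠ p) : ¬ r ∣ Fintype.card F := by
  intro hd
  obtain ⟨n, hp, hn⟩ := FiniteField.card F p
  rw [hn] at hd
  exact hrp ((Nat.prime_dvd_prime_iff_eq hr hp).1 (hr.dvd_of_dvd_pow hd))

/-- no section `Alt 11` away from characteristic 11 -/
theorem f4_eleven (hp : p ≠ 11) (H : Subgroup ↥(chevF4.group F))
    (ψ : ↥H →* ↥(alternatingGroup (Fin 11))) (hψ : Function.Surjective ψ) : False := by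
  classical
  haveI : Fact (Nat.Prime 11) := ⟨by norm_num⟩
  haveI : Finite (GL chevF4.Idx F) := inferInstance
  obtain ⟨P, hP, -, ⟨a, ha, hax⟩, hN⟩ := exists_lift ψ 11 (hψ x11) x11_ord
  obtain ⟨g₀, hg₀⟩ := hψ y11
  obtain ⟨g, hgN, hg⟩ := hN g₀ (by rw [hg₀, y11_conj]; exact pow_mem (Subgroup.mem_zpowers _) 3)
  rw [hg₀] at hg
  set m := Fintype.card cF4.G.Wg
  have hm : ∀ π ∈ cF4.G.Wg, π ^ m = 1 := fun π hπ => by
    have h := congrArg Subtype.val (pow_card_eq_one (x := (⟨π, hπ⟩ : cF4.G.Wg)))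
    rwa [SubmonoidClass.coe_pow, OneMemClass.coe_one] at h
  have h1 := congrArg ψ (pow_mul_inv cF4 kerF4_ok degF4 H.subtype H.subtype_injective (r := 11)
    (show ¬ 11 ∣ kerF4.d by decide) (degF4_not_dvd Fact.out (by norm_num) (by norm_num))
    (not_dvd_card (p := p) Fact.out (Ne.symm hp)) hP hgN hm ha)
  rw [map_mul, map_mul, map_inv, map_pow, hax, conj_pow_of_conj
    (conj_of_mem_zpowers hg y11_conj ((Commute.refl x11).pow_right 3)) m] at h1
  exact x11_ne (cast_dvd_prime cF4 (by norm_num : (5 : ℕ).Prime)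
    (degF4_not_dvd (by norm_num) (by norm_num) (by norm_num)) degF4) h1

/-- no section `Alt 12` in characteristic 11 -/
theorem f4_twelve (hp5 : p ≠ 5) (hp7 : p ≠ 7) (H : Subgroup ↥(chevF4.group F))
    (ψ : ↥H →* ↥(alternatingGroup (Fin 12))) (hψ : Function.Surjective ψ) : False := by
  classical
  haveI : Fact (Nat.Prime 7) := ⟨by norm_num⟩
  haveI : Fact (Nat.Prime 5) := ⟨by norm_num⟩
  haveI : Finite (GL chevF4.Idx F) := inferInstance
  have d7 := degF4_not_dvd (r := 7) Fact.out (by norm_num) (by norm_num)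
  have d5 := degF4_not_dvd (r := 5) Fact.out (by norm_num) (by norm_num)
  have q7 := not_dvd_card (F := F) (p := p) (r := 7) Fact.out (Ne.symm hp7)
  have q5 := not_dvd_card (F := F) (p := p) (r := 5) Fact.out (Ne.symm hp5)
  obtain ⟨P, hP, -, ⟨a, ha, hax⟩, hN⟩ := exists_lift ψ 7 (hψ x7) x7_ord
  set N : Subgroup ↥H := Subgroup.normalizer (P : Set ↥H)
  -- a preimage of the five-cycle in the normalizer
  obtain ⟨b₀, hb₀⟩ := hψ x5
  obtain ⟨b, hbN, hb⟩ := hN b₀ (by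
    rw [hb₀, ← x7_x5.eq, mul_inv_cancel_right]; exact Subgroup.mem_zpowers _)
  rw [hb₀] at hb
  have hb21 : ψ (b ^ 21) = x5 := by
    obtain ⟨i, hi⟩ := Subgroup.mem_zpowers_iff.1 hb
    rw [map_pow, show ψ b = x7 ^ i * x5 by rw [hi, inv_mul_cancel_right],
      (x7_x5.zpow_left i).mul_pow, x5_pow, show (21 : ℕ) = 7 ^ 1 * 3 by norm_num, pow_mul,
      ← zpow_natCast (x7 ^ i), zpow_comm, zpow_natCast, x7_ord, one_zpow, one_pow, one_mul]
  -- a preimage of the element acting on both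
  obtain ⟨c₀, hc₀⟩ := hψ y35
  obtain ⟨c, hcN, hc⟩ := hN c₀ (by
    rw [hc₀, y35_seven]; exact pow_mem (Subgroup.mem_zpowers _) 3)
  rw [hc₀] at hc
  have hc5 : ψ c * x5 * (ψ c)⁻¹ = x5 ^ 2 :=
    conj_of_mem_zpowers hc y35_five (x7_x5.pow_right 2)
  have hc7 : ψ c * x7 * (ψ c)⁻¹ = x7 ^ 3 :=
    conj_of_mem_zpowers hc y35_seven ((Commute.refl x7).pow_right 3)
  obtain ⟨Q, hQ, -, ⟨e, he, hex⟩, hQN⟩ := exists_lift (ψ.comp N.subtype) 5 (x := x5)
    ⟨⟨b ^ 21, pow_mem hbN 21⟩, hb21⟩ x5_ord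
  obtain ⟨g, hgQ, hg⟩ := hQN ⟨c, hcN⟩ (by
    show ψ c * x5 * (ψ c)⁻¹ ∈ _
    rw [hc5]; exact pow_mem (Subgroup.mem_zpowers _) 2)
  have hg' : ψ g.1 * (ψ c)⁻¹ ∈ Subgroup.zpowers x5 := hg
  have hg5 : ψ g.1 * x5 * (ψ g.1)⁻¹ = x5 ^ 2 :=
    conj_of_mem_zpowers hg' hc5 ((Commute.refl x5).pow_right 2)
  have hg7 : ψ g.1 * x7 * (ψ g.1)⁻¹ = x7 ^ 3 :=
    conj_of_mem_zpowers hg' hc7 (x7_x5.symm.pow_right 3)
  -- the five-elements centralise
  have hPQ : ∀ x ∈ P, ∀ y ∈ Q.map N.subtype, x * y = y * x := by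
    rintro x hx _ ⟨y, hy, rfl⟩
    obtain ⟨k, hk⟩ := hQ ⟨y, hy⟩
    have hk' : (y : ↥H) ^ 5 ^ k = 1 := by
      simpa using congrArg (fun z : Q => ((z : N) : ↥H)) hk
    exact (mul_inv_eq_iff_eq_mul.1 (centralizes_of_coprime cF4 kerF4_ok degF4 H.subtype
      H.subtype_injective (show ¬ 7 ∣ kerF4.d by decide) d7 q7 hP y.2
      (Fact.out : (5 : ℕ).Prime) d5 hk' hx)).symm
  have hgQ' : g.1 ∈ Subgroup.normalizer ((Q.map N.subtype : Subgroup ↥H) : Set ↥H) := by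
    refine Subgroup.mem_normalizer_fintype ?_
    rintro _ ⟨y, hy, rfl⟩
    exact ⟨g * y * g⁻¹, (Subgroup.mem_normalizer_iff.1 hgQ y).1 hy, rfl⟩
  have heQ : (e : ↥H) ∈ P ⊔ Q.map N.subtype := Subgroup.mem_sup_right ⟨e, he, rfl⟩
  have hex' : ψ (e : ↥H) = x5 := hex
  rcases pair_cases cF4 kerF4_ok degF4 H.subtype H.subtype_injective
    (show ¬ 7 ∣ kerF4.d by decide) d7 d5 q7 q5 hP (hQ.map N.subtype) hPQ g.2 hgQ'
    (fun π hπ => orders_F4 hπ) with h | h | h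
  · have h1 := congrArg ψ (h a (Subgroup.mem_sup_left ha))
    rw [map_mul, map_mul, map_inv, map_pow, hax, conj_pow_of_conj hg7] at h1
    exact x7_ne.1 h1
  · have h1 := congrArg ψ (h e heQ)
    rw [map_mul, map_mul, map_inv, map_pow, hex', conj_pow_of_conj hg5] at h1
    exact x5_ne h1
  · have h1 := congrArg ψ (h a (Subgroup.mem_sup_left ha))
    simp only [map_mul, map_inv, map_pow, hax, conj_pow_of_conj hg7] at h1
    exact x7_ne.2 h1

/-- the degree of an alternating section -/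
theorem f4_bound (r : ℕ) (H : Subgroup ↥(chevF4.group F)) (K : Subgroup ↥H) [K.Normal]
    (h : Nonempty (↥H ⧸ K ≃* ↥(alternatingGroup (Fin r)))) :
    r ≤ 10 + (if p = 11 then 1 else 0) := by
  by_contra hr
  split_ifs at hr with hp
  · obtain ⟨H', ψ, hψ⟩ := exists_section (k := 12) (by omega) H K h
    exact f4_twelve (p := p) (by omega) (by omega) H' ψ hψ
  · obtain ⟨H', ψ, hψ⟩ := exists_section (k := 11) (by omega) H K h
    exact f4_eleven (p := p) hp H' ψ hψ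

end CfsgLib.Lie.AltSection
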