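import Cfsg.Agent.Lib.Lie.AltSection.Twisted
import Cfsg.Agent.Lib.Lie.AltSection.Lift
import Cfsg.Agent.Lib.Lie.AltSection.Alternating
import Cfsg.Agent.Lib.Lie.AltSection.TypeF4
import Cfsg.Agent.Lib.Lie.Chev.Tw.F4Gp

/-!
# No alternating section of degree 7 in the large Ree groups

A Sylow 7-subgroup lies in the maximally split torus and the relative Weyl group is dihedral of
order 16.
-/

set_option autoImplicit false
set_option maxRecDepth 100000

namespace CfsgLib.Lie.AltSection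

open Cfsg.Lie CfsgLib.Lie.Chev CfsgLib.Lie.CoxTorus
open scoped MatrixGroups

/-- the cycle of length 7 -/
def x77 : alternatingGroup (Fin 7) :=
  evenOf (fun i => i + 1) (fun i => i + 6) (by decide) (by decide) (by decide +kernel)

/-- multiplication by 2 -/
def y77 : alternatingGroup (Fin 7) :=
  evenOf (fun i => 2 * i) (fun i => 4 * i) (by decide) (by decide) (by decide +kernel)

theorem x77_ord : x77 ^ 7 ^ 1 = 1 := by decide +kernel

theorem x77_order : orderOf x77 = 7 :=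
  haveI : Fact (Nat.Prime 7) := ⟨by norm_num⟩
  orderOf_eq_prime (by simpa using x77_ord) (by decide +kernel)

theorem y77_conj : y77 * x77 * y77⁻¹ = x77 ^ 2 := by decide +kernel

theorem x77_ne : x77 ^ 2 ^ 8 ≠ x77 := by
  have e : (2 : ℕ) ^ 8 = 7 ^ 1 * 36 + 4 := by norm_num
  rw [e, pow_add, pow_mul, x77_ord, one_pow, one_mul]
  decide +kernel

theorem dihedral_pow_eight : ∀ x : DihedralGroup 8, x ^ 8 = 1 := by decide +kernel

theorem two_cube : ((2 : ℕ) : ZMod 7) ^ 3 = 1 := by decide +kernel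

theorem seven_table : ∀ x : ZMod 7, x ^ 3 = 1 →
    (x ≠ 1 → x ^ 12 * (x - 1) * (x ^ 3 + 1) * (x ^ 4 - 1) * (x ^ 6 + 1) ≠ 0) ∧
    (x = 1 → x ^ 12 * (x ^ 3 + 1) * (x ^ 6 + 1) * ((x + 1) * (x ^ 2 + 1)) ≠ 0) := by decide +kernel

variable {K : Type*} [Field K] [Fintype K] {m : ℕ}

/-- no section `Alt 7` in the large Ree groups -/
theorem large_ree_seven (hK : Fintype.card K = 2 ^ (2 * m + 1)) (H : Subgroup ↥(twistedF4 K (2 ^ m)))
    (ψ : ↥H →* ↥(alternatingGroup (Fin 7))) (hψ : Function.Surjective ψ) : False := by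
  classical
  haveI : Fact (Nat.Prime 7) := ⟨by norm_num⟩
  haveI : Finite (GL chevF4.Idx K) := inferInstance
  obtain ⟨-, -, hH, hG, φ, -, hφker⟩ := TF4.summary (m := m) hK
  obtain ⟨_, θ, hsq, hθ⟩ := TF4.exists_theta (m := m) hK
  have P := TF4.twGp θ hsq hθ
  set q := 2 ^ (2 * m + 1) with hq
  have h1q : 1 ≤ q := Nat.one_le_two_pow
  -- the seventh part
  have h7 : 7 ∣ Nat.card ↥(twistedF4 K (2 ^ m)) := by
    obtain ⟨x, hx⟩ := hψ x77
    have h1 : orderOf x77 ∣ orderOf x := hx ▸ orderOf_map_dvd ψ x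
    rw [x77_order] at h1
    exact h1.trans ((orderOf_dvd_natCard x).trans (Subgroup.card_subgroup_dvd_card H))
  have hq3 : ((q : ℕ) : ZMod 7) ^ 3 = 1 := by
    rw [hq, Nat.cast_pow, ← pow_mul, mul_comm, pow_mul,
      two_cube, one_pow]
  have hq1 : ((q : ℕ) : ZMod 7) = 1 := by
    by_contra hne
    have h := (ZMod.natCast_eq_zero_iff _ _).2 (hG ▸ h7)
    push_cast [Nat.cast_sub h1q, Nat.cast_sub (Nat.one_le_pow 4 q h1q)] at h
    exact (seven_table _ hq3).1 hne h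
  -- the torus
  set T' := (chevF4.diagonalSubgroup K ⊓ twistedF4 K (2 ^ m)).subgroupOf (twistedF4 K (2 ^ m))
  have hidx : ¬ 7 ∣ T'.index := by
    intro hd
    have h1 : Nat.card T' * T'.index = Nat.card ↥(twistedF4 K (2 ^ m)) := T'.card_mul_index
    rw [Nat.card_congr (Subgroup.subgroupOfEquivOfLe inf_le_right).toEquiv, hH, hG] at h1
    have h2 : ((q : ℤ) - 1) ^ 2 * T'.index = ((q : ℤ) - 1) ^ 2 *
        ((q : ℤ) ^ 12 * ((q : ℤ) ^ 3 + 1) * ((q : ℤ) ^ 6 + 1) * (((q : ℤ) + 1) * ((q : ℤ) ^ 2 + 1))) := by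
      have h := congrArg (Nat.cast : ℕ → ℤ) h1
      push_cast [Nat.cast_sub h1q, Nat.cast_sub (Nat.one_le_pow 4 q h1q)] at h
      linear_combination h
    have hne : ((q : ℤ) - 1) ^ 2 ≠ 0 := by
      have : (2 : ℤ) ≤ q := by
        rw [hq]; exact_mod_cast (Nat.one_lt_two_pow (show 2 * m + 1 ≠ 0 by omega))
      exact pow_ne_zero _ (by omega)
    have h3 := congrArg (Int.cast : ℤ → ZMod 7) (mul_left_cancel₀ hne h2)
    push_cast at h3
    rw [(ZMod.natCast_eq_zero_iff _ _).2 hd] at h3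
    exact (seven_table _ hq3).2 hq1 h3.symm
  obtain ⟨Q, hQ, -, ⟨a, ha, hax⟩, hN⟩ := exists_lift ψ 7 (hψ x77) x77_ord
  obtain ⟨g₀, hg₀⟩ := hψ y77
  obtain ⟨g, hgN, hg⟩ := hN g₀ (by rw [hg₀, y77_conj]; exact pow_mem (Subgroup.mem_zpowers _) 2)
  rw [hg₀] at hg
  obtain ⟨c, hc⟩ := exists_conj_of_index T' hidx hQ (H.subtype.comp Q.subtype)
  let χ : ↥H →* GL chevF4.Idx K :=
    (twistedF4 K (2 ^ m)).subtype.comp ((MulAut.conj c⁻¹).toMonoidHom.comp H.subtype)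
  have hχ : Function.Injective χ :=
    Subtype.val_injective.comp ((MulAut.conj c⁻¹).injective.comp Subtype.val_injective)
  have hχG : ∀ h, χ h ∈ (TF4.twist θ hsq).Fix := fun h => P.le (Subtype.prop _)
  have hdiag : Q.map χ ≤ chevF4.diagonalSubgroup K := by
    rintro _ ⟨y, hy, rfl⟩
    have h1 : ((c⁻¹ * (y : ↥(twistedF4 K (2 ^ m))) * c : ↥(twistedF4 K (2 ^ m))) : GL chevF4.Idx K) ∈
        chevF4.diagonalSubgroup K := (hc ⟨y, hy⟩).1
    simpa [χ, mul_assoc] using h1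
  have hn : ∀ z ∈ Q.map χ, χ g * z * (χ g)⁻¹ ∈ Q.map χ := by
    rintro _ ⟨y, hy, rfl⟩
    exact ⟨g * y * g⁻¹, (Subgroup.mem_normalizer_iff.1 hgN y).1 hy, by simp⟩
  have hexp : ∀ π ∈ Wp TF4.C.G (TF4.twist θ hsq).p, π ^ 8 = 1 := by
    intro π hπ
    obtain ⟨n, hn', hnπ⟩ := P.toPre.exists_n hπ
    obtain ⟨hnG, hnN⟩ := P.toPre.closure_nk_le hn'
    let n' : ↥(chevF4.monomialSubgroup K ⊓ twistedF4 K (2 ^ m)) := ⟨n, hnN, hnG⟩
    have h1 : n' ^ 8 ∈ φ.ker := by rw [MonoidHom.mem_ker, map_pow, dihedral_pow_eight]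
    rw [hφker] at h1
    have h2 : n ^ 8 ∈ chevF4.diagonalSubgroup K := h1.1
    have h3 : ∀ k : ℕ, TF4.C.G.NPerm (n ^ k) (π ^ k) := fun k => by
      induction k with
      | zero => exact Good.NPerm.one TF4.C.G
      | succ k ih => rw [pow_succ, pow_succ]; exact Good.NPerm.mul TF4.C.G ih hnπ
    exact Good.NPerm.unique TF4.C.G (h3 8) (TF4.C.G.nPerm_H h2)
  have h1 := congrArg ψ (hχ (a₁ := g ^ 8 * a * (g ^ 8)⁻¹) (a₂ := a) (by
    simpa using pow_centralizes_fix (TF4.twist θ hsq) (hχG g) hdiag hn hexp ⟨a, ha, rfl⟩))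
  rw [map_mul, map_mul, map_inv, map_pow, hax, conj_pow_of_conj
    (conj_of_mem_zpowers hg y77_conj ((Commute.refl x77).pow_right 2)) 8] at h1
  exact x77_ne h1

/-- the degree of an alternating section -/
theorem large_ree_bound (hK : Fintype.card K = 2 ^ (2 * m + 1)) (r : ℕ)
    (H : Subgroup ↥(twistedF4 K (2 ^ m))) (N : Subgroup ↥H) [N.Normal]
    (h : Nonempty (↥H ⧸ N ≃* ↥(alternatingGroup (Fin r)))) : r ≤ 6 := by
  by_contra hr
  obtain ⟨H', ψ, hψ⟩ := exists_section (k := 7) (by omega) H N h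
  exact large_ree_seven hK H' ψ hψ

end CfsgLib.Lie.AltSection
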