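import Cfsg.Agent.Lib.Lie.Chev.PoinCert

/-!
# Certificates for the elements of a Weyl group

A table of permutations of the roots that contains the identity and is closed under the fundamental
reflections contains the Weyl group; a property of the orders is then read off the table.
-/

set_option autoImplicit false

namespace CfsgLib.Lie.AltSection

open Cfsg.Lie CfsgLib.Lie.Chev

/-- a table of permutations with their products by the fundamental reflections -/
structure States where
  m : ℕ
  P : Chev.Tree ℕ
  nx : Chev.Tree (List ℕ)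

/-- closure of the table -/
noncomputable def chkClosed (D : ChevalleyDatum) (f : Fast) (S : States) : Bool :=
  Nat.blt 0 S.m && (allLt D.nroots fun r => Nat.beq (digit (S.P.get 0) r) r) &&
  (allLt S.m fun k => allLt D.rank fun i => Nat.blt ((S.nx.get k).getD i 0) S.m &&
    allLt D.nroots fun r =>
      Nat.beq (wF f i (digit (S.P.get k) r)) (digit (S.P.get ((S.nx.get k).getD i 0)) r))

/-- the iterate of a packed permutation -/
noncomputable def itD (row n r : ℕ) : ℕ := Nat.rec r (fun _ acc => digit row acc) n

/-- the `n`-th power of the permutation is the identity -/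
noncomputable def chkOne (D : ChevalleyDatum) (row n : ℕ) : Bool :=
  allLt D.nroots fun r => Nat.beq (itD row n r) r

/-- the permutation is a root of `X ^ 4 - X ^ 2 + 1` on the root lattice -/
noncomputable def chkTwelve (D : ChevalleyDatum) (f : Fast) (row : ℕ) : Bool :=
  allLt D.nroots fun r => allLt D.rank fun j =>
    intBeq (Int.add ((f.rho.get (itD row 4 r)).getD j 0) ((f.rho.get r).getD j 0))
      ((f.rho.get (itD row 2 r)).getD j 0)

variable {D : ChevalleyDatum} {f : Fast}

theorem exists_state (G : Good D) (c : Checks D f) {S : States} (hc : chkClosed D f S = true)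
    {π : Equiv.Perm (Fin D.nroots)} (hπ : π ∈ G.Wg) :
    ∃ k < S.m, ∀ r : Fin D.nroots, (π r).val = digit (S.P.get k) r.val := by
  simp only [chkClosed, Bool.and_eq_true, Nat.blt_eq] at hc
  obtain ⟨⟨hm, h0⟩, hnx⟩ := hc
  obtain ⟨l, rfl⟩ := G.exists_pw hπ
  clear hπ
  induction l with
  | nil =>
    exact ⟨0, hm, fun r => by
      rw [G.pw_nil, Equiv.Perm.one_apply]
      exact (Nat.eq_of_beq_eq_true (allLt_spec h0 r.val r.isLt)).symm⟩
  | cons i l ih =>
    obtain ⟨k, hk, hkr⟩ := ih
    have h1 := allLt_spec (allLt_spec hnx k hk) i.val i.isLt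
    simp only [Bool.and_eq_true, Nat.blt_eq] at h1
    refine ⟨_, h1.1, fun r => ?_⟩
    rw [G.pw_cons, Equiv.Perm.mul_apply, Good.sP_apply, G.w_eq_wF c, hkr]
    exact Nat.eq_of_beq_eq_true (allLt_spec h1.2 r.val r.isLt)

theorem itD_eq {π : Equiv.Perm (Fin D.nroots)} {row : ℕ}
    (h : ∀ r : Fin D.nroots, (π r).val = digit row r.val) (n : ℕ) (r : Fin D.nroots) :
    ((π ^ n) r).val = itD row n r.val := by
  induction n with
  | zero => rfl
  | succ n ih =>
    rw [pow_succ', Equiv.Perm.mul_apply, h, ih]
    rfl

theorem pow_eq_one_of_chk {π : Equiv.Perm (Fin D.nroots)} {row n : ℕ}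
    (h : ∀ r : Fin D.nroots, (π r).val = digit row r.val) (hc : chkOne D row n = true) : π ^ n = 1 :=
  Equiv.ext fun r => Fin.ext ((itD_eq h n r).trans (Nat.eq_of_beq_eq_true (allLt_spec hc r.val r.isLt)))

theorem twelve_of_chk {π : Equiv.Perm (Fin D.nroots)} {row : ℕ}
    (h : ∀ r : Fin D.nroots, (π r).val = digit row r.val) (hc : chkTwelve D f row = true)
    (r : Fin D.nroots) : rhoD D f ((π ^ 4) r) + rhoD D f r = rhoD D f ((π ^ 2) r) := by
  funext j
  simp only [Pi.add_apply, rhoD, itD_eq h]
  exact intBeq_spec (allLt_spec (allLt_spec hc r.val r.isLt) j.val j.isLt)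

end CfsgLib.Lie.AltSection
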