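import Cfsg.Agent.Lib.Lie.AltSection.States
import Cfsg.Agent.Lib.Lie.Chev.TblG2

/-!
The elements of the Weyl group of type G2 as packed permutations of the roots, with the products
by the fundamental reflections.
-/

set_option autoImplicit false
set_option maxRecDepth 100000
set_option maxHeartbeats 1000000

namespace CfsgLib.Lie.AltSection

open CfsgLib.Lie.Chev

/-- the Weyl group of type G2 -/
noncomputable def statesG2 : States where
  m := 12
  P := (.node 6 (.node 3 (.node 1 (.leaf 0xb000a0009000800070006000500040003000200010000) (.node 2 (.leaf 0xb0006000800090004000a000100070002000300050000) (.leaf 0xa000b0009000700080005000600030004000200000001))) (.node 4 (.leaf 0xa0005000700090003000b000000080002000400060001) (.node 5 (.leaf 0x6000b0008000400090001000a00020007000300000005) (.leaf 0x60001000400080002000b0000000900030007000a0005)))) (.node 9 (.node 7 (.leaf 0x5000a0007000300090000000b00020008000400010006) (.node 8 (.leaf 0x50000000300070002000a0001000900040008000b0006) (.leaf 0x100060004000200080000000b0003000900070005000a))) (.node 10 (.leaf 0x1000000020004000300060005000800070009000b000a) (.node 11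 (.leaf 0x50003000200070001000a0004000900080006000b) (.leaf 0x100020003000400050006000700080009000a000b)))))
  nx := (.node 6 (.node 3 (.node 1 (.leaf [1,2]) (.node 2 (.leaf [0,3]) (.leaf [4,0]))) (.node 4 (.leaf [5,1]) (.node 5 (.leaf [2,6]) (.leaf [3,7])))) (.node 9 (.node 7 (.leaf [8,4]) (.node 8 (.leaf [9,5]) (.leaf [6,10]))) (.node 10 (.leaf [7,11]) (.node 11 (.leaf [11,8]) (.leaf [10,9])))))

end CfsgLib.Lie.AltSection
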