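import Cfsg.Agent.Lib.Lie.AltSection.TypeF4
import Cfsg.Agent.Lib.Lie.AltSection.G2Three

/-!
# No alternating sections of degree 8, and of degree 7 away from characteristic 5, in type G₂
-/

set_option autoImplicit false
set_option maxRecDepth 100000

namespace CfsgLib.Lie.AltSection

open Cfsg.Lie CfsgLib.Lie.Chev CfsgLib.Lie.CoxTorus CfsgLib.Lie.Homocyclic
open scoped MatrixGroups

section perms

/-- the cycle of length 5 among 7 points -/
def x57 : alternatingGroup (Fin 7) :=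
  evenOf (fun i => ![1, 2, 3, 4, 0, 5, 6] i) (fun i => ![4, 0, 1, 2, 3, 5, 6] i)
    (by decide) (by decide) (by decide +kernel)

/-- multiplication by 2 modulo 5, made even -/
def y57 : alternatingGroup (Fin 7) :=
  evenOf (fun i => ![0, 2, 4, 1, 3, 6, 5] i) (fun i => ![0, 3, 1, 4, 2, 6, 5] i)
    (by decide) (by decide) (by decide +kernel)

theorem x57_ord : x57 ^ 5 ^ 1 = 1 := by decide +kernel

theorem y57_conj : y57 * x57 * y57⁻¹ = x57 ^ 2 := by decide +kernel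

theorem x57_ne : x57 ^ 2 ^ 6 ≠ x57 := by
  have e : (2 : ℕ) ^ 6 = 5 ^ 1 * 12 + 4 := by norm_num
  rw [e, pow_add, pow_mul, x57_ord, one_pow, one_mul]
  decide +kernel

/-- a generator of the elementary group of order 9 -/
def ea : alternatingGroup (Fin 8) :=
  evenOf (fun i => ![1, 2, 0, 3, 4, 5, 6, 7] i) (fun i => ![2, 0, 1, 3, 4, 5, 6, 7] i)
    (by decide) (by decide) (by decide +kernel)

/-- the other generator -/
def eb : alternatingGroup (Fin 8) :=
  evenOf (fun i => ![0, 1, 2, 4, 5, 3, 6, 7] i) (fun i => ![0, 1, 2, 5, 3, 4, 6, 7] i)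
    (by decide) (by decide) (by decide +kernel)

/-- an element acting as a quarter turn -/
def sr : alternatingGroup (Fin 8) :=
  evenOf (fun i => ![3, 4, 5, 0, 2, 1, 6, 7] i) (fun i => ![3, 5, 4, 0, 1, 2, 6, 7] i)
    (by decide) (by decide) (by decide +kernel)

/-- an element whose square acts as a reflection -/
def s4 : alternatingGroup (Fin 8) :=
  evenOf (fun i => ![0, 6, 7, 4, 3, 5, 2, 1] i) (fun i => ![0, 7, 6, 4, 3, 5, 1, 2] i)
    (by decide) (by decide) (by decide +kernel)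

/-- the elementary group of order 9, parametrised -/
def eHom : Multiplicative (ZMod 3 × ZMod 3) →* alternatingGroup (Fin 8) where
  toFun v := ea ^ (Multiplicative.toAdd v).1.val * eb ^ (Multiplicative.toAdd v).2.val
  map_one' := by decide +kernel
  map_mul' := by decide +kernel

/-- the quarter turn on coordinates -/
def turn (v : Multiplicative (ZMod 3 × ZMod 3)) : Multiplicative (ZMod 3 × ZMod 3) :=
  Multiplicative.ofAdd (-(Multiplicative.toAdd v).2, (Multiplicative.toAdd v).1)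

theorem eHom_injective : Function.Injective eHom := by
  rw [injective_iff_map_eq_one]
  decide +kernel

theorem sr_conj : ∀ v, sr * eHom v * sr⁻¹ = eHom (turn v) := by decide +kernel

theorem s4_sq : s4 ^ 2 * ea * (s4 ^ 2)⁻¹ = ea⁻¹ ∧ s4 ^ 2 * eb * (s4 ^ 2)⁻¹ = eb := by decide +kernel

theorem ea_mem : ea ∈ eHom.range := ⟨Multiplicative.ofAdd (1, 0), by decide +kernel⟩

theorem eb_mem : eb ∈ eHom.range := ⟨Multiplicative.ofAdd (0, 1), by decide +kernel⟩

theorem turn_six : ∀ v, turn (turn (turn (turn (turn (turn v))))) = v → v = 1 := by decide +kernel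

theorem turn_line : ∀ (v : Multiplicative (ZMod 3 × ZMod 3)) (k : Fin 3),
    turn v = v ^ k.val → v = 1 := by decide +kernel

theorem not_cyclic : ∀ w : Multiplicative (ZMod 3 × ZMod 3),
    ∃ v, v ≠ 1 ∧ v ≠ w ∧ v ≠ w⁻¹ := by decide +kernel

theorem e_cube : ∀ w : Multiplicative (ZMod 3 × ZMod 3), w ^ 3 = 1 := by decide +kernel

theorem e_cube' : ∀ w : Multiplicative (ZMod 3 × ZMod 3), w ^ 3 ^ 1 = 1 := by decide +kernel

theorem e_sq : ∀ w : Multiplicative (ZMod 3 × ZMod 3), w ^ 2 = w⁻¹ := by decide +kernel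

theorem e_ten : Multiplicative.ofAdd ((1 : ZMod 3), (0 : ZMod 3)) ≠ 1 := by decide +kernel

theorem s4_range : ∀ v, ∃ w, s4 ^ 2 * eHom v * (s4 ^ 2)⁻¹ = eHom w := by decide +kernel

theorem ab_span : ∀ v, ∃ i j : Fin 3, eHom v = eb ^ i.val * ea ^ j.val := by decide +kernel

theorem ab_comm : eb * ea * eb⁻¹ * ea⁻¹ = 1 := by decide +kernel

theorem span_two : ∀ v₁ v₂ : Multiplicative (ZMod 3 × ZMod 3),
    (∀ w, ∃ i j : Fin 3, w = v₁ ^ i.val * v₂ ^ j.val) →
      ∀ i j : Fin 3, v₁ ^ i.val * v₂ ^ j.val = 1 → i = 0 ∧ j = 0 := by decide +kernel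

end perms

theorem pow_mod_three {G : Type*} [Monoid G] {x : G} (h : x ^ 3 = 1) (k : ℕ) :
    x ^ k = x ^ (⟨k % 3, Nat.mod_lt _ (by norm_num)⟩ : Fin 3).val := pow_eq_pow_mod k h

theorem zpow_three {G : Type*} [Group G] {x : G} (h : x ^ 3 = 1) {y : G}
    (hy : y ∈ Subgroup.zpowers x) : ∃ k : Fin 3, y = x ^ k.val := by
  obtain ⟨i, rfl⟩ := Subgroup.mem_zpowers_iff.1 hy
  refine ⟨⟨(i % 3).toNat, by omega⟩, ?_⟩
  have he : (((i % 3).toNat : ℕ) : ℤ) = i % 3 := Int.toNat_of_nonneg (Int.emod_nonneg i (by norm_num))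
  show x ^ i = x ^ (i % 3).toNat
  rw [← zpow_natCast x (i % 3).toNat, he]
  conv_lhs => rw [← Int.emod_add_mul_ediv i 3, zpow_add, zpow_mul,
    show x ^ (3 : ℤ) = 1 from by exact_mod_cast h, one_zpow, mul_one]

namespace G2Three

variable {K : Type*} [Field K]

theorem conj_mem_diag {x t : GL chevG2.Idx K} (hx : x ∈ ext3 K)
    (ht : t ∈ chevG2.diagonalSubgroup K) : x * t * x⁻¹ ∈ chevG2.diagonalSubgroup K := by
  have hx' : x ∈ Subgroup.normalizer (chevG2.diagonalSubgroup K : Set (GL chevG2.Idx K)) := by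
    obtain ⟨i, hi⟩ := hx
    have := mul_mem (cG2.G.monomial_le_normalizer (cG2.G.H_le_monomial hi))
      (inv_mem (zpow_mem (cG2.G.monomial_le_normalizer nG_monomial) i))
    simpa using this
  exact (Subgroup.mem_normalizer_iff.1 hx' t).1 ht

theorem outside_props {x : GL chevG2.Idx K} (hx : x ∈ ext3 K)
    (hd : x ∉ chevG2.diagonalSubgroup K) :
    x ^ 3 = 1 ∧ Matrix.trace (x : Matrix chevG2.Idx chevG2.Idx K) = -1 ∧
      ∀ b ∈ chevG2.diagonalSubgroup K, x * b = b * x → nG * b = b * nG := by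
  obtain ⟨t, ht, h | h⟩ := (mem_ext3 hx).resolve_left hd <;> subst h
  · refine ⟨outside_cube ht, (outside_trace ht).1, fun b hb h => mul_left_cancel (a := t) ?_⟩
    rw [← mul_assoc, h, ← mul_assoc, ← mul_assoc, cG2.G.diagonal_comm hb ht]
  · refine ⟨outside_cube_sq ht, (outside_trace ht).2, fun b hb h => ?_⟩
    have h2 : Commute (nG ^ 2) b := mul_left_cancel (a := t) (by
      rw [← mul_assoc, h, ← mul_assoc, ← mul_assoc, cG2.G.diagonal_comm hb ht])
    have h4 := h2.pow_left 2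
    rwa [← pow_mul, show 2 * 2 = 3 + 1 from rfl, pow_succ, nG_cube, one_mul] at h4

theorem outside_prod {x y : GL chevG2.Idx K} (hx : x ∈ ext3 K) (hy : y ∈ ext3 K)
    (hy' : y ∉ chevG2.diagonalSubgroup K) :
    x ∈ chevG2.diagonalSubgroup K ∨ x * y⁻¹ ∈ chevG2.diagonalSubgroup K ∨
      x * y ∈ chevG2.diagonalSubgroup K := by
  rcases mem_ext3 hx with h | ⟨t, ht, hxe⟩
  · exact Or.inl h
  obtain ⟨s, hs, hye⟩ := (mem_ext3 hy).resolve_left hy'
  refine Or.inr ?_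
  rcases hxe with rfl | rfl <;> rcases hye with rfl | rfl
  · left
    rw [show t * nG * (s * nG)⁻¹ = t * s⁻¹ by group]
    exact mul_mem ht (inv_mem hs)
  · right
    rw [show t * nG * (s * nG ^ 2) = t * (nG * s * nG⁻¹) * nG ^ 3 by group, nG_cube, mul_one]
    exact mul_mem ht (nG_conj hs)
  · right
    rw [show t * nG ^ 2 * (s * nG) = t * (nG * (nG * s * nG⁻¹) * nG⁻¹) * nG ^ 3 by
      simp only [pow_succ, pow_zero, one_mul]; group, nG_cube, mul_one]
    exact mul_mem ht (nG_conj (nG_conj hs))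
  · left
    rw [show t * nG ^ 2 * (s * nG ^ 2)⁻¹ = t * s⁻¹ by group]
    exact mul_mem ht (inv_mem hs)

end G2Three

variable {F : Type*} [Field F] [Fintype F] {p : ℕ} [Fact p.Prime] [CharP F p]

theorem degG2_not_dvd {r : ℕ} (hr : r.Prime) (h : r ≠ 2) (h3 : r ≠ 3) (i : Fin chevG2.rank) :
    ¬ r ∣ vecOfList [2, 6] i := by
  have hmem : ∀ i : Fin chevG2.rank, vecOfList [2, 6] i = 2 ∨ vecOfList [2, 6] i = 6 := by
    decide +kernel
  intro hd
  have h6 : r ∣ 6 := hd.trans (by rcases hmem i with e | e <;> rw [e]; norm_num)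
  have := Nat.le_of_dvd (by norm_num) h6
  have := hr.two_le
  interval_cases r <;> norm_num at *

/-- no section `Alt 7` away from characteristic 5 -/
theorem g2_seven (hp : p ≠ 5) (H : Subgroup ↥(chevG2.group F))
    (ψ : ↥H →* ↥(alternatingGroup (Fin 7))) (hψ : Function.Surjective ψ) : False := by
  classical
  haveI : Fact (Nat.Prime 5) := ⟨by norm_num⟩
  haveI : Finite (GL chevG2.Idx F) := inferInstance
  obtain ⟨P, hP, -, ⟨a, ha, hax⟩, hN⟩ := exists_lift ψ 5 (hψ x57) x57_ord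
  obtain ⟨g₀, hg₀⟩ := hψ y57
  obtain ⟨g, hgN, hg⟩ := hN g₀ (by rw [hg₀, y57_conj]; exact pow_mem (Subgroup.mem_zpowers _) 2)
  rw [hg₀] at hg
  have h1 := congrArg ψ (pow_mul_inv cG2 kerG2_ok degG2 H.subtype H.subtype_injective (r := 5)
    (show ¬ 5 ∣ kerG2.d by decide) (degG2_not_dvd Fact.out (by norm_num) (by norm_num))
    (not_dvd_card (p := p) Fact.out (Ne.symm hp)) hP hgN (m := 6) (fun π hπ => pow_six_G2 hπ) ha)
  rw [map_mul, map_mul, map_inv, map_pow, hax, conj_pow_of_conj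
    (conj_of_mem_zpowers hg y57_conj ((Commute.refl x57).pow_right 2)) 6] at h1
  exact x57_ne h1

open G2Three in
/-- no section `Alt 8` away from characteristics 2 and 3 -/
theorem g2_eight (hp2 : p ≠ 2) (hp3 : p ≠ 3) (H : Subgroup ↥(chevG2.group F))
    (ψ : ↥H →* ↥(alternatingGroup (Fin 8))) (hψ : Function.Surjective ψ) : False := by
  classical
  haveI : Fact (Nat.Prime 3) := ⟨by norm_num⟩
  haveI : Finite (GL chevG2.Idx F) := inferInstance
  have hq3 := not_dvd_card (F := F) (p := p) (r := 3) Fact.out (Ne.symm hp3)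
  set M : Subgroup ↥H := eHom.range.comap ψ with hM
  obtain ⟨P⟩ : Nonempty (Sylow 3 M) := inferInstance
  set Pm : Subgroup ↥H := (P : Subgroup M).map M.subtype with hPm
  have hPp : IsPGroup 3 Pm := P.2.map _
  have hPM : Pm ≤ M := Subgroup.map_subtype_le _
  -- the Sylow subgroup covers the elementary group
  let f : M →* eHom.range := (ψ.comp M.subtype).codRestrict _ fun m => m.2
  have hf : Function.Surjective f := by
    rintro ⟨e, he⟩
    obtain ⟨x, rfl⟩ := hψ e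
    exact ⟨⟨x, he⟩, rfl⟩
  have hE : IsPGroup 3 eHom.range := by
    have h3 : IsPGroup 3 (Multiplicative (ZMod 3 × ZMod 3)) := fun v => ⟨1, e_cube' v⟩
    exact h3.of_surjective eHom.rangeRestrict eHom.rangeRestrict_surjective
  have htop : ((P.mapSurjective hf : Sylow 3 eHom.range) : Subgroup eHom.range) = ⊤ := by
    apply Subgroup.eq_top_of_card_eq
    obtain ⟨j, hj⟩ := IsPGroup.iff_card.1 hE
    rw [(P.mapSurjective hf).card_eq_multiplicity, hj, Nat.Prime.factorization_pow Fact.out]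
    simp
  have hsurj : ∀ v, ∃ x ∈ Pm, ψ x = eHom v := fun v => by
    have h1 : (⟨eHom v, v, rfl⟩ : eHom.range) ∈
        ((P.mapSurjective hf : Sylow 3 eHom.range) : Subgroup eHom.range) := by
      rw [htop]; trivial
    obtain ⟨a, ha, hax⟩ := h1
    exact ⟨_, ⟨a, ha, rfl⟩, congrArg Subtype.val hax⟩
  have hrange : ∀ x ∈ Pm, ∃ v, ψ x = eHom v := fun x hx => by
    obtain ⟨v, hv⟩ := hPM hx
    exact ⟨v, hv.symm⟩
  -- the quarter turn
  obtain ⟨g₀, hg₀⟩ := hψ sr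
  obtain ⟨m, hm, hgn⟩ := exists_mul_normalizing 3 M P g₀ fun x hx => by
    obtain ⟨v, hv⟩ := hx
    exact ⟨turn v, by rw [map_mul, map_mul, map_inv, ← hv, hg₀, sr_conj]⟩
  set g := m * g₀
  have hgN : g ∈ Subgroup.normalizer (Pm : Set ↥H) := Subgroup.mem_normalizer_fintype hgn
  have hgv : ∀ {x v}, ψ x = eHom v → ψ (g * x * g⁻¹) = eHom (turn v) := fun {x v} h => by
    obtain ⟨w, hw⟩ := hm
    simp only [g, map_mul, map_inv, h, hg₀, ← hw]
    rw [show eHom w * sr * eHom v * (eHom w * sr)⁻¹ = eHom w * (sr * eHom v * sr⁻¹) * (eHom w)⁻¹ by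
      group, sr_conj, ← map_inv, ← map_mul, ← map_mul, mul_inv_cancel_comm]
  -- the larger field
  obtain ⟨K, iK, iKF, ι, hK⟩ := exists_field (F := F) (N := 3) (by norm_num)
    ((Nat.Prime.coprime_iff_not_dvd Fact.out).2 hq3).symm
  let φ' : ↥H →* GL chevG2.Idx K := (fmap chevG2 ι).comp ((chevG2.group F).subtype.comp H.subtype)
  have hφ' : ∀ h, φ' h ∈ chevG2.group K := fun h => cG2.G.fmap_mem_group ι h.1.2
  obtain ⟨c₀, hc₀, hconj⟩ := exists_conj_ext3 hK hPp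
    ((φ'.codRestrict _ hφ').comp Pm.subtype)
  let χ : ↥H →* GL chevG2.Idx K := (MulAut.conj c₀⁻¹).toMonoidHom.comp φ'
  have hχ : Function.Injective χ := (MulAut.conj c₀⁻¹).injective.comp fun a b h =>
    Subtype.ext (Subtype.ext (fmap_injective ι h))
  have hχG : ∀ h, χ h ∈ chevG2.group K := fun h => by
    simpa [χ] using mul_mem (mul_mem (inv_mem hc₀) (hφ' h)) hc₀
  have hχP : ∀ x ∈ Pm, χ x ∈ ext3 K := fun x hx => by
    simpa [χ, mul_assoc] using hconj ⟨x, hx⟩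
  have h6 : (6 : K) ≠ 0 := by
    haveI : CharP K p := charP_of_injective_ringHom ι.injective p
    intro h
    have h' : ((6 : ℕ) : K) = 0 := by exact_mod_cast h
    rw [CharP.cast_eq_zero_iff K p] at h'
    have hpp := (Fact.out : p.Prime)
    have := Nat.le_of_dvd (by norm_num) h'
    interval_cases p <;> norm_num at *
  set A : Subgroup ↥H := Pm ⊓ (chevG2.diagonalSubgroup K).comap χ with hA
  have hAdef : ∀ {x}, x ∈ A ↔ x ∈ Pm ∧ χ x ∈ chevG2.diagonalSubgroup K := Iff.rfl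
  have hAcomm : ∀ {x y}, x ∈ A → y ∈ A → Commute x y := fun {x y} hx hy => hχ (by
    rw [map_mul, map_mul, cG2.G.diagonal_comm hx.2 hy.2])
  have hout : ∀ {x}, x ∈ Pm → x ∉ A → x ^ 3 = 1 ∧
      Matrix.trace (χ x : Matrix chevG2.Idx chevG2.Idx K) = -1 ∧
      ∀ b ∈ A, Commute x b → nG * χ b = χ b * nG := fun {x} hx hxA => by
    obtain ⟨h1, h2, h3⟩ := outside_props (hχP x hx) fun h => hxA (hAdef.2 ⟨hx, h⟩)
    exact ⟨hχ (by rw [map_pow, h1, map_one]), h2, fun b hb hxb =>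
      h3 _ hb.2 (by rw [← map_mul, ← map_mul, hxb.eq])⟩
  have hAn : ∀ {x t}, x ∈ Pm → t ∈ A → x * t * x⁻¹ ∈ A := fun {x t} hx ht =>
    hAdef.2 ⟨mul_mem (mul_mem hx ht.1) (inv_mem hx), by
      rw [map_mul, map_mul, map_inv]; exact conj_mem_diag (hχP x hx) ht.2⟩
  have hidx : ∀ {x y}, x ∈ Pm → y ∈ Pm → y ∉ A → ∃ a ∈ A, ∃ j : ℕ, x = a * y ^ j := by
    intro x y hx hy hyA
    rcases outside_prod (hχP x hx) (hχP y hy) (fun h => hyA (hAdef.2 ⟨hy, h⟩)) with h | h | h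
    · exact ⟨x, hAdef.2 ⟨hx, h⟩, 0, by simp⟩
    · exact ⟨x * y⁻¹, hAdef.2 ⟨mul_mem hx (inv_mem hy), by simpa using h⟩, 1, by simp⟩
    · refine ⟨x * y, hAdef.2 ⟨mul_mem hx hy, by simpa using h⟩, 2, ?_⟩
      rw [mul_assoc, ← pow_succ', (hout hy hyA).1, mul_one]
  -- some diagonal element is moved out
  obtain ⟨a, haA, hbA⟩ : ∃ a ∈ A, g * a * g⁻¹ ∉ A := by
    by_contra hno
    push Not at hno
    have hn : ∀ z ∈ A.map χ, χ g * z * (χ g)⁻¹ ∈ A.map χ := by
      rintro _ ⟨y, hy, rfl⟩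
      exact ⟨g * y * g⁻¹, hno y hy, by simp⟩
    have hAd : A.map χ ≤ chevG2.diagonalSubgroup K := by
      rintro _ ⟨y, hy, rfl⟩; exact hy.2
    have hker : ∀ y ∈ A, ψ y = 1 := fun y hy => by
      obtain ⟨v, hv⟩ := hrange y hy.1
      have h1 := hχ (a₁ := g ^ 6 * y * (g ^ 6)⁻¹) (a₂ := y) (by
        simpa using pow_centralizes cG2 (hχG g) hAd hn (m := 6) (fun π hπ => pow_six_G2 hπ)
          ⟨y, hy, rfl⟩)
      have h2 : ψ (g ^ 6 * y * (g ^ 6)⁻¹) =
          eHom (turn (turn (turn (turn (turn (turn v)))))) := by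
        rw [show g ^ 6 * y * (g ^ 6)⁻¹ =
          g * (g * (g * (g * (g * (g * y * g⁻¹) * g⁻¹) * g⁻¹) * g⁻¹) * g⁻¹) * g⁻¹ by
            simp only [pow_succ, pow_zero, one_mul]; group]
        exact hgv (hgv (hgv (hgv (hgv (hgv hv)))))
      rw [h1, hv] at h2
      rw [hv, turn_six v (eHom_injective h2.symm), map_one]
    by_cases hall : ∀ x ∈ Pm, x ∈ A
    · obtain ⟨x, hx, hxe⟩ := hsurj (Multiplicative.ofAdd (1, 0))
      have := hker x (hall x hx)
      rw [hxe, ← map_one eHom] at this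
      exact e_ten (eHom_injective this)
    · push Not at hall
      obtain ⟨y, hy, hyA⟩ := hall
      obtain ⟨w, hw⟩ := hrange y hy
      obtain ⟨v, hv1, hv2, hv3⟩ := not_cyclic w
      obtain ⟨x, hx, hxe⟩ := hsurj v
      obtain ⟨a, ha, j, rfl⟩ := hidx hx hy hyA
      rw [map_mul, hker a ha, one_mul, map_pow, hw, ← map_pow] at hxe
      have e := (eHom_injective hxe).symm
      rw [pow_mod_three (e_cube w) j] at e
      generalize (⟨j % 3, Nat.mod_lt _ (by norm_num)⟩ : Fin 3) = k at e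
      have : k.val = 0 ∨ k.val = 1 ∨ k.val = 2 := by omega
      rcases this with h | h | h <;> rw [h] at e
      · exact hv1 (by simpa using e)
      · exact hv2 (by simpa using e)
      · exact hv3 (e.trans (e_sq w))
  set b := g * a * g⁻¹ with hb
  have hbP : b ∈ Pm := hgn a haA.1
  obtain ⟨hb3, -, hbfix⟩ := hout hbP hbA
  have ha3 : a ^ 3 = 1 := by
    have : g * a ^ 3 * g⁻¹ = 1 := by rw [← conj_pow, ← hb, hb3]
    simpa [mul_inv_eq_one] using this
  have ha1 : a ≠ 1 := fun h => hbA (by rw [hb, h, mul_one, mul_inv_cancel]; exact one_mem _)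
  -- a central element
  obtain ⟨z, hzA, hz1, hzb⟩ : ∃ z ∈ A, z ≠ 1 ∧ Commute b z := by
    set a₁ := b * a * b⁻¹
    have ha₁ : a₁ ∈ A := hAn hbP haA
    by_cases h : a₁ = a
    · exact ⟨a, haA, ha1, mul_inv_eq_iff_eq_mul.1 h⟩
    · refine ⟨a * a₁⁻¹, mul_mem haA (inv_mem ha₁), fun e => h (mul_inv_eq_one.1 e).symm, ?_⟩
      set a₂ := b * a₁ * b⁻¹
      have ha₂ : a₂ ∈ A := hAn hbP ha₁
      have hnorm : a * a₁ * a₂ = 1 := by
        have habA : a * b ∉ A := fun h => hbA ((Subgroup.mul_mem_cancel_left A haA).1 h)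
        have h1 := (hout (mul_mem haA.1 hbP) habA).1
        calc a * a₁ * a₂ = (a * b) ^ 3 * (b ^ 3)⁻¹ := by
              simp only [a₁, a₂, pow_succ, pow_zero]; group
          _ = 1 := by rw [h1, hb3, inv_one, one_mul]
      have e2 : a₂ = (a * a₁)⁻¹ := (eq_inv_of_mul_eq_one_right hnorm)
      have e3 : a₁ ^ 3 = 1 := by rw [conj_pow, ha3, mul_one, mul_inv_cancel]
      refine mul_inv_eq_iff_eq_mul.1 ?_
      calc b * (a * a₁⁻¹) * b⁻¹ = a₁ * a₂⁻¹ := by simp only [a₁, a₂]; group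
        _ = a₁ * (a * a₁) := by rw [e2, inv_inv]
        _ = a * a₁ ^ 2 := by rw [← mul_assoc, ← (hAcomm haA ha₁).eq, pow_two, mul_assoc]
        _ = a * a₁⁻¹ := by
            rw [show a₁⁻¹ = a₁ ^ 2 from (eq_inv_of_mul_eq_one_right (by rw [← pow_succ', e3])).symm]
  have hzfix := hbfix z hzA hzb
  have hz3 : z ^ 3 = 1 := hχ (by rw [map_pow, fixed_cube hzA.2 hzfix, map_one])
  have hzne : χ z ≠ 1 := fun h => hz1 (hχ (by rw [h, map_one]))
  have hztr := fixed_trace hzA.2 hzfix hzne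
  have huniq : ∀ y ∈ A, Commute b y → y ∈ Subgroup.zpowers z := fun y hy hby => by
    obtain ⟨k, hk⟩ := fixed_unique hzA.2 hzfix hzne hy.2 (hbfix y hy hby)
    rw [hχ (hk.trans (map_pow χ z k).symm)]
    exact pow_mem (Subgroup.mem_zpowers _) k
  have hzc : ∀ x ∈ Pm, Commute x z := fun x hx => by
    obtain ⟨y, hy, j, rfl⟩ := hidx hx hbP hbA
    exact (hAcomm hy hzA).mul_left (hzb.pow_left j)
  have hzN : ∀ h ∈ Subgroup.normalizer (Pm : Set ↥H), h * z * h⁻¹ ∈ Subgroup.zpowers z := by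
    intro h hh
    have hzP : h * z * h⁻¹ ∈ Pm := (Subgroup.mem_normalizer_iff.1 hh z).1 hzA.1
    have hzA' : h * z * h⁻¹ ∈ A := by
      by_contra hn
      have := (hout hzP hn).2.1
      rw [map_mul, map_mul, map_inv, Units.val_mul, Units.val_mul, Matrix.trace_units_conj, hztr] at this
      exact h6 (by linear_combination this)
    refine huniq _ hzA' ?_
    have hb' : h⁻¹ * b * h ∈ Pm := (Subgroup.mem_normalizer_iff''.1 hh b).1 hbP
    have := (hzc _ hb').eq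
    show b * (h * z * h⁻¹) = h * z * h⁻¹ * b
    calc b * (h * z * h⁻¹) = h * ((h⁻¹ * b * h) * z) * h⁻¹ := by group
      _ = _ := by rw [this]; group
  have hzker : ψ z = 1 := by
    obtain ⟨v, hv⟩ := hrange z hzA.1
    obtain ⟨k, hk⟩ := zpow_three hz3 (hzN g hgN)
    have h2 := hgv hv
    rw [hk, map_pow, hv, ← map_pow] at h2
    rw [hv, turn_line v k (eHom_injective h2).symm, map_one]
  -- the other generator
  have hgA : ∀ y ∈ A, g⁻¹ * y * g ∈ Pm := fun y hy =>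
    (Subgroup.mem_normalizer_iff''.1 hgN y).1 hy.1
  obtain ⟨c, hcA, hcA'⟩ : ∃ c ∈ A, g⁻¹ * c * g ∉ A := by
    by_contra hno
    push Not at hno
    have : g⁻¹ ∈ Subgroup.normalizer (A : Set ↥H) :=
      Subgroup.mem_normalizer_fintype fun y hy => by rw [inv_inv]; exact hno y hy
    exact hbA ((Subgroup.mem_normalizer_iff.1 ((inv_mem_iff).1 this) a).1 haA)
  set c' := g⁻¹ * c * g with hc'
  have hc'P : c' ∈ Pm := hgA c hcA
  have hc3 : c ^ 3 = 1 := by
    have h := (hout hc'P hcA').1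
    rw [hc', show g⁻¹ * c * g = g⁻¹ * c * (g⁻¹)⁻¹ by rw [inv_inv], conj_pow, inv_inv] at h
    have : c ^ 3 = g * (g⁻¹ * c ^ 3 * g) * g⁻¹ := by group
    rw [this, h, mul_one, mul_inv_cancel]
  have hinter : ∀ y ∈ A, g⁻¹ * y * g ∈ A → y ∈ Subgroup.zpowers z := fun y hy hy' => by
    refine huniq y hy ?_
    have h : Commute a (g⁻¹ * y * g) := hAcomm haA hy'
    show b * y = y * b
    calc b * y = g * (a * (g⁻¹ * y * g)) * g⁻¹ := by rw [hb]; group
      _ = y * b := by rw [h.eq, hb]; group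
  have hcz : c ∉ Subgroup.zpowers z := fun h => hcA' (by
    obtain ⟨k, hk⟩ := zpow_three hz3 h
    have h2 := hzN g⁻¹ (inv_mem hgN)
    rw [inv_inv] at h2
    obtain ⟨l, hl⟩ := zpow_three hz3 h2
    rw [hc', hk, show g⁻¹ * z ^ k.val * g = g⁻¹ * z ^ k.val * (g⁻¹)⁻¹ by rw [inv_inv], ← conj_pow,
      inv_inv, hl]
    exact pow_mem (pow_mem hzA _) _)
  have hgen : ∀ x ∈ Pm, ∃ (k : ℕ) (i j : Fin 3), x = z ^ k * c ^ i.val * b ^ j.val := fun x hx => by
    obtain ⟨y, hy, j, rfl⟩ := hidx hx hbP hbA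
    obtain ⟨y', hy', i, hi⟩ := hidx (hgA y hy) hc'P hcA'
    have hc'i : c' ^ i = g⁻¹ * c ^ i * g := by
      rw [hc', show g⁻¹ * c * g = g⁻¹ * c * (g⁻¹)⁻¹ by rw [inv_inv], conj_pow, inv_inv]
    have e : y = g * y' * g⁻¹ * c ^ i := by
      calc y = g * (g⁻¹ * y * g) * g⁻¹ := by group
        _ = g * y' * g⁻¹ * c ^ i := by rw [hi, hc'i]; group
    have h1 : g * y' * g⁻¹ ∈ A := by
      rw [eq_mul_inv_of_mul_eq e.symm]
      exact mul_mem hy (inv_mem (pow_mem hcA i))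
    obtain ⟨k, hk⟩ := zpow_three hz3 (hinter _ h1 (by
      rw [show g⁻¹ * (g * y' * g⁻¹) * g = y' by group]; exact hy'))
    exact ⟨k, ⟨i % 3, Nat.mod_lt _ (by norm_num)⟩, ⟨j % 3, Nat.mod_lt _ (by norm_num)⟩, by
      rw [e, hk, ← pow_mod_three hc3, ← pow_mod_three hb3]⟩
  -- the kernel
  obtain ⟨v₁, hv₁⟩ := hrange c hcA.1
  obtain ⟨v₂, hv₂⟩ := hrange b hbP
  have hspan : ∀ w, ∃ i j : Fin 3, w = v₁ ^ i.val * v₂ ^ j.val := fun w => by
    obtain ⟨x, hx, hxw⟩ := hsurj w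
    obtain ⟨k, i, j, rfl⟩ := hgen x hx
    rw [map_mul, map_mul, map_pow, map_pow, map_pow, hzker, one_pow, one_mul, hv₁, hv₂, ← map_pow,
      ← map_pow, ← map_mul] at hxw
    exact ⟨i, j, (eHom_injective hxw).symm⟩
  have hkerP : ∀ x ∈ Pm, ψ x = 1 → x ∈ Subgroup.zpowers z := fun x hx h => by
    obtain ⟨k, i, j, rfl⟩ := hgen x hx
    rw [map_mul, map_mul, map_pow, map_pow, map_pow, hzker, one_pow, one_mul, hv₁, hv₂, ← map_pow,
      ← map_pow, ← map_mul, ← map_one eHom] at h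
    obtain ⟨rfl, rfl⟩ := span_two v₁ v₂ hspan i j (eHom_injective h)
    simpa using pow_mem (Subgroup.mem_zpowers z) k
  have hbc : ¬ Commute b c := fun h => hcz (huniq c hcA h)
  -- the reflection, fixing `z`
  have hordz : orderOf z = 3 := orderOf_eq_prime hz3 hz1
  have hcardP : Nat.card Pm = 27 := by
    let π : Pm →* eHom.range := (ψ.comp Pm.subtype).codRestrict _ fun x => hPM x.2
    have hker : π.ker = (Subgroup.zpowers z).subgroupOf Pm := by
      ext x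
      refine ⟨fun h => hkerP x.1 x.2 (congrArg Subtype.val h), fun h => Subtype.ext ?_⟩
      obtain ⟨k, hk⟩ := Subgroup.mem_zpowers_iff.1 (show (x : ↥H) ∈ Subgroup.zpowers z from h)
      show ψ x = 1
      rw [← hk, map_zpow, hzker, one_zpow]
    rw [Subgroup.card_eq_card_quotient_mul_card_subgroup π.ker,
      Nat.card_congr (QuotientGroup.quotientKerEquivOfSurjective π fun e => by
        obtain ⟨v, hv⟩ := e.2
        obtain ⟨x, hx, hxe⟩ := hsurj v
        exact ⟨⟨x, hx⟩, Subtype.ext (hxe.trans hv)⟩).toEquiv,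
      ← Nat.card_congr (MonoidHom.ofInjective eHom_injective).toEquiv, hker,
      Nat.card_congr (Subgroup.subgroupOfEquivOfLe
        (Subgroup.zpowers_le.2 hzA.1)).toEquiv, Nat.card_zpowers, hordz]
    simp [Nat.card_prod, Nat.card_congr Multiplicative.toAdd]
  have hkM : ψ.ker ≤ M := fun x hx => ⟨1, by rw [map_one]; exact hx.symm⟩
  have hcardZ : Nat.card ((Subgroup.zpowers z).subgroupOf ψ.ker) =
      3 ^ (Nat.card ψ.ker).factorization 3 := by
    have hz : Nat.card ((Subgroup.zpowers z).subgroupOf ψ.ker) = 3 := by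
      rw [Nat.card_congr (Subgroup.subgroupOfEquivOfLe (Subgroup.zpowers_le.2
        (show z ∈ ψ.ker from hzker))).toEquiv, Nat.card_zpowers, hordz]
    have h1 : Nat.card M = 9 * Nat.card ψ.ker := by
      rw [Subgroup.card_eq_card_quotient_mul_card_subgroup f.ker,
        Nat.card_congr (QuotientGroup.quotientKerEquivOfSurjective f hf).toEquiv,
        ← Nat.card_congr (MonoidHom.ofInjective eHom_injective).toEquiv]
      have hk : f.ker = ψ.ker.subgroupOf M := by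
        ext x; exact ⟨fun h => congrArg Subtype.val h, fun h => Subtype.ext h⟩
      rw [hk, Nat.card_congr (Subgroup.subgroupOfEquivOfLe hkM).toEquiv]
      simp [Nat.card_prod, Nat.card_congr Multiplicative.toAdd]
    have h2 := P.card_eq_multiplicity
    rw [← Subgroup.card_map_of_injective M.subtype_injective, ← hPm, hcardP, h1,
      Nat.factorization_mul (by norm_num) Nat.card_pos.ne', show 27 = 3 ^ 3 from rfl] at h2
    have h3 := Nat.pow_right_injective (le_refl 2 |>.trans (by norm_num)) h2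
    rw [Finsupp.add_apply, show 9 = 3 ^ 2 from rfl, Nat.Prime.factorization_pow Fact.out,
      Finsupp.single_eq_same] at h3
    rw [hz, show (Nat.card ψ.ker).factorization 3 = 1 by omega, pow_one]
  let R : Sylow 3 ψ.ker := Sylow.ofCard _ hcardZ
  have hR : (R : Subgroup ψ.ker).map ψ.ker.subtype = Subgroup.zpowers z := by
    show ((Subgroup.zpowers z).subgroupOf ψ.ker).map _ = _
    rw [Subgroup.map_subgroupOf_eq_of_le (Subgroup.zpowers_le.2 (show z ∈ ψ.ker from hzker))]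
  obtain ⟨l₀, hl₀⟩ := hψ s4
  obtain ⟨l, hl, k, hk, hlk⟩ := Subgroup.mem_sup_of_normal_right.1
    (show l₀ ∈ Subgroup.normalizer (((R : Subgroup ψ.ker).map ψ.ker.subtype : Subgroup ↥H) : Set ↥H) ⊔
      ψ.ker by rw [Sylow.normalizer_sup_eq_top R]; trivial)
  rw [hR] at hl
  have hψl : ψ l = s4 := by rw [← hl₀, ← hlk, map_mul, MonoidHom.mem_ker.1 hk, mul_one]
  have hl2 : l ^ 2 * z * (l ^ 2)⁻¹ = z := by
    obtain ⟨k, hk⟩ := zpow_three hz3 ((Subgroup.mem_normalizer_iff.1 hl z).1 (Subgroup.mem_zpowers z))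
    have e : l ^ 2 * z * (l ^ 2)⁻¹ = z ^ (k.val * k.val) := by
      rw [pow_mul, ← hk, conj_pow, ← hk, pow_two]; group
    have hk0 : k.val ≠ 0 := fun h => hz1 (by
      rw [h, pow_zero, mul_inv_eq_one, mul_eq_left] at hk; exact hk)
    rcases (show k.val = 1 ∨ k.val = 2 by omega) with h | h <;> rw [e, h]
    · simp
    · rw [show 2 * 2 = 3 + 1 from rfl, pow_succ, hz3, one_mul]
  set M' : Subgroup ↥H := M ⊓ Subgroup.centralizer {z}
  have hPM' : Pm ≤ M' := le_inf hPM fun x hx => Subgroup.mem_centralizer_iff.2 fun y hy => by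
    rw [Set.mem_singleton_iff.1 hy]; exact (hzc x hx).symm.eq
  obtain ⟨Q, hQ⟩ := (hPp.of_equiv (Subgroup.subgroupOfEquivOfLe hPM').symm).exists_le_sylow
  have hQeq : (Q : Subgroup M').map M'.subtype = Pm := by
    set Qm := (Q : Subgroup M').map M'.subtype
    have hQM : Qm ≤ M := (Subgroup.map_subtype_le _).trans inf_le_left
    have hle : Pm ≤ Qm := fun x hx => ⟨⟨x, hPM' hx⟩, hQ hx, rfl⟩
    have h1 : Qm.subgroupOf M = P := P.is_maximal'
      ((Q.2.map M'.subtype).of_equiv (Subgroup.subgroupOfEquivOfLe hQM).symm)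
      fun x hx => hle ⟨x, hx, rfl⟩
    refine le_antisymm (fun x hx => ?_) hle
    exact ⟨⟨x, hQM hx⟩, h1 ▸ hx, rfl⟩
  have hs4 := s4_range
  obtain ⟨m', hm', hhn⟩ := exists_mul_normalizing 3 M' Q (l ^ 2) fun x hx => by
    refine ⟨?_, Subgroup.mem_centralizer_iff.2 fun y hy => ?_⟩
    · obtain ⟨v, hv⟩ := hx.1
      obtain ⟨w, hw⟩ := hs4 v
      exact ⟨w, by rw [map_mul, map_mul, map_inv, map_pow, hψl, ← hv, hw]⟩
    · rw [Set.mem_singleton_iff.1 hy]
      have h := (Subgroup.mem_centralizer_iff.1 hx.2 z rfl)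
      conv_lhs => rw [← hl2]
      conv_rhs => rw [← hl2]
      calc l ^ 2 * z * (l ^ 2)⁻¹ * (l ^ 2 * x * (l ^ 2)⁻¹) = l ^ 2 * (z * x) * (l ^ 2)⁻¹ := by group
        _ = _ := by rw [h]; group
  rw [hQeq] at hhn
  set h := m' * l ^ 2 with hh
  have hhz : h * z * h⁻¹ = z := by
    rw [hh, show m' * l ^ 2 * z * (m' * l ^ 2)⁻¹ = m' * (l ^ 2 * z * (l ^ 2)⁻¹) * m'⁻¹ by group, hl2,
      ← Subgroup.mem_centralizer_iff.1 hm'.2 z rfl, mul_inv_cancel_right]
  have hψh : ∀ e ∈ eHom.range, ∀ x, ψ x = e → s4 ^ 2 * e * (s4 ^ 2)⁻¹ ∈ eHom.range →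
      ψ (h * x * h⁻¹) = s4 ^ 2 * e * (s4 ^ 2)⁻¹ := by
    intro e _ x hx he
    obtain ⟨w, hw⟩ := hm'.1
    obtain ⟨u, hu⟩ := he
    simp only [hh, map_mul, map_inv, map_pow, hψl, hx, ← hw]
    rw [show eHom w * s4 ^ 2 * e * (eHom w * s4 ^ 2)⁻¹ =
      eHom w * (s4 ^ 2 * e * (s4 ^ 2)⁻¹) * (eHom w)⁻¹ by group, ← hu, ← map_inv, ← map_mul,
      ← map_mul, mul_inv_cancel_comm]
  obtain ⟨v₁', hv₁'⟩ := eb_mem
  obtain ⟨x₁, hx₁, hx₁'⟩ := hsurj v₁'
  rw [hv₁'] at hx₁'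
  obtain ⟨v₂', hv₂'⟩ := ea_mem
  obtain ⟨x₂, hx₂, hx₂'⟩ := hsurj v₂'
  rw [hv₂'] at hx₂'
  -- the commutator
  set d := x₁ * x₂ * x₁⁻¹ * x₂⁻¹ with hd
  have hcd : ∀ {y}, y ∈ Subgroup.zpowers z → ∀ x ∈ Pm, Commute x y := fun {y} hy x hx => by
    obtain ⟨i, rfl⟩ := Subgroup.mem_zpowers_iff.1 hy
    exact (hzc x hx).zpow_right i
  have hdz : d ∈ Subgroup.zpowers z :=
    hkerP d (mul_mem (mul_mem (mul_mem hx₁ hx₂) (inv_mem hx₁)) (inv_mem hx₂)) (by
      rw [hd, map_mul, map_mul, map_mul, map_inv, map_inv, hx₁', hx₂', ab_comm])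
  have hy₁ : ∃ e ∈ Subgroup.zpowers z, h * x₁ * h⁻¹ = x₁ * e :=
    ⟨x₁⁻¹ * (h * x₁ * h⁻¹), hkerP _ (mul_mem (inv_mem hx₁) (hhn x₁ hx₁)) (by
      rw [map_mul, map_inv, hψh eb eb_mem x₁ hx₁' (by rw [s4_sq.2]; exact eb_mem), hx₁', s4_sq.2,
        inv_mul_cancel]), by group⟩
  have hy₂ : ∃ e ∈ Subgroup.zpowers z, h * x₂ * h⁻¹ = x₂⁻¹ * e :=
    ⟨x₂ * (h * x₂ * h⁻¹), hkerP _ (mul_mem hx₂ (hhn x₂ hx₂)) (by
      rw [map_mul, hψh ea ea_mem x₂ hx₂' (by rw [s4_sq.1]; exact inv_mem ea_mem), hx₂', s4_sq.1,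
        mul_inv_cancel]), by group⟩
  obtain ⟨e₁, he₁, hy₁⟩ := hy₁
  obtain ⟨e₂, he₂, hy₂⟩ := hy₂
  have hfix : h * d * h⁻¹ = d := by
    obtain ⟨i, hi⟩ := Subgroup.mem_zpowers_iff.1 hdz
    rw [← hi, ← conj_zpow, hhz]
  have hinv : h * d * h⁻¹ = d⁻¹ := by
    have c1 : Commute e₁ (x₂⁻¹ * e₂) :=
      ((hcd he₁ x₂⁻¹ (inv_mem hx₂)).symm).mul_right (hcd he₁ e₂ (Subgroup.zpowers_le.2 hzA.1 he₂)).symm
    have c2 : Commute e₂ x₁⁻¹ := (hcd he₂ x₁⁻¹ (inv_mem hx₁)).symm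
    have c3 : Commute e₂ x₂ := (hcd he₂ x₂ hx₂).symm
    calc h * d * h⁻¹ = (h * x₁ * h⁻¹) * (h * x₂ * h⁻¹) * (h * x₁ * h⁻¹)⁻¹ * (h * x₂ * h⁻¹)⁻¹ := by
          rw [hd]; group
      _ = x₁ * (e₁ * (x₂⁻¹ * e₂) * e₁⁻¹) * x₁⁻¹ * (e₂⁻¹ * x₂) := by rw [hy₁, hy₂]; group
      _ = x₁ * x₂⁻¹ * (e₂ * x₁⁻¹) * e₂⁻¹ * x₂ := by rw [c1.eq, mul_inv_cancel_right]; group
      _ = x₁ * x₂⁻¹ * x₁⁻¹ * x₂ := by rw [c2.eq]; group
      _ = x₂⁻¹ * d⁻¹ * x₂ := by rw [hd]; group
      _ = d⁻¹ := by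
          rw [mul_assoc, ← (hcd (inv_mem hdz) x₂ hx₂).eq, inv_mul_cancel_left]
  have hd1 : d = 1 := by
    obtain ⟨k, hk⟩ := zpow_three hz3 hdz
    have h3 : d ^ 3 = 1 := by rw [hk, ← pow_mul, mul_comm, pow_mul, hz3, one_pow]
    have h2 : d ^ 2 = 1 := by
      rw [pow_two]
      nth_rewrite 1 [← hfix]
      rw [hinv, inv_mul_cancel]
    calc d = d ^ 3 * (d ^ 2)⁻¹ := by group
      _ = 1 := by rw [h3, h2, inv_one, mul_one]
  have h12 : Commute x₁ x₂ := mul_inv_eq_iff_eq_mul.1 (mul_inv_eq_one.1 hd1)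
  have hform : ∀ x ∈ Pm, ∃ (y : ↥H) (i j : ℕ), y ∈ Subgroup.zpowers z ∧ x = y * x₁ ^ i * x₂ ^ j := by
    intro x hx
    obtain ⟨v, hv⟩ := hrange x hx
    obtain ⟨i, j, hij⟩ := ab_span v
    refine ⟨x * (x₁ ^ i.val * x₂ ^ j.val)⁻¹, i, j, hkerP _
      (mul_mem hx (inv_mem (mul_mem (pow_mem hx₁ _) (pow_mem hx₂ _)))) ?_, by group⟩
    rw [map_mul, map_inv, map_mul, map_pow, map_pow, hx₁', hx₂', hv, hij, mul_inv_cancel]
  refine hbc ?_
  obtain ⟨y, i, j, hy, hbe⟩ := hform b hbP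
  obtain ⟨y', i', j', hy', hce⟩ := hform c hcA.1
  rw [hbe, hce]
  have k : ∀ x ∈ Pm, Commute x x₁ → Commute x x₂ → Commute x (y' * x₁ ^ i' * x₂ ^ j') :=
    fun x hx h₁ h₂ => ((hcd hy' x hx).mul_right (h₁.pow_right _)).mul_right (h₂.pow_right _)
  have hyP : y ∈ Pm := Subgroup.zpowers_le.2 hzA.1 hy
  exact ((k y hyP (hcd hy x₁ hx₁).symm (hcd hy x₂ hx₂).symm).mul_left
    ((k x₁ hx₁ (Commute.refl _) h12).pow_left _)).mul_left
    ((k x₂ hx₂ h12.symm (Commute.refl _)).pow_left _)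

/-- the degree of an alternating section -/
theorem g2_bound (r : ℕ) (H : Subgroup ↥(chevG2.group F)) (K : Subgroup ↥H) [K.Normal]
    (h : Nonempty (↥H ⧸ K ≃* ↥(alternatingGroup (Fin r)))) :
    r ≤ 6 + (if p = 5 then 1 else 0) := by
  by_contra hr
  split_ifs at hr with hp
  · obtain ⟨H', ψ, hψ⟩ := exists_section (k := 8) (by omega) H K h
    exact g2_eight (p := p) (by omega) (by omega) H' ψ hψ
  · obtain ⟨H', ψ, hψ⟩ := exists_section (k := 7) (by omega) H K h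
    exact g2_seven (p := p) hp H' ψ hψ

end CfsgLib.Lie.AltSection
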