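import Cfsg.Agent.Lib.Lie.AltSection.EightThree
import Cfsg.Agent.Lib.Lie.AltSection.D4Twisted

/-!
# No alternating sections of degree 8, and of degree 7 away from characteristic 5, in ³D₄(q)
-/

set_option autoImplicit false
set_option maxRecDepth 100000
set_option maxHeartbeats 1000000

namespace CfsgLib.Lie.AltSection

open Cfsg.Lie CfsgLib.Lie.Chev CfsgLib.Lie.CoxTorus TD4 D4Nat
open scoped MatrixGroups

variable {K : Type*} [Field K] [Fintype K] {p a : ℕ} [Fact p.Prime] [CharP K p]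

theorem cast_pow_ne_zero {r : ℕ} [Fact r.Prime] (h : p ≠ r) (a : ℕ) : ((p ^ a : ℕ) : ZMod r) ≠ 0 :=
  fun h0 => h.symm ((Nat.prime_dvd_prime_iff_eq Fact.out Fact.out).1
    ((Fact.out : r.Prime).dvd_of_dvd_pow ((ZMod.natCast_eq_zero_iff _ _).1 h0)))

/-- no section `Alt 7` away from characteristic 5 -/
theorem td4_seven (hp : p ≠ 5) (ha : 1 ≤ a) (hK : Fintype.card K = (p ^ a) ^ 3)
    (H : Subgroup ↥(twistedD4 K (p ^ a))) (ψ : ↥H →* ↥(alternatingGroup (Fin 7)))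
    (hψ : Function.Surjective ψ) : False := by
  classical
  haveI : Fact (Nat.Prime 5) := ⟨by norm_num⟩
  obtain ⟨L, iL, iLf, iLc, hL, hq1, fe, hfe⟩ := exists_enlarged (K := K) (r := 5) hK (by
    simpa using ZMod.pow_card_sub_one_eq_one (p := 5) (cast_pow_ne_zero hp a))
  have hq : IsPrimePow (p ^ (a * 4)) := (Nat.Prime.isPrimePow Fact.out).pow (by omega)
  obtain ⟨θ, hθ⟩ := Frob.exists_powEquiv (K := L) hq hL
  have h3 := h3_of θ hθ hL
  obtain ⟨P, hP, -, ⟨x, hxP, hxe⟩, hN⟩ := exists_lift ψ 5 (hψ x57) x57_ord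
  obtain ⟨g₀, hg₀⟩ := hψ y57
  obtain ⟨g, hgN, hg⟩ := hN g₀ (by rw [hg₀, y57_conj]; exact pow_mem (Subgroup.mem_zpowers _) 2)
  rw [hg₀] at hg
  obtain ⟨c, hc, hconj⟩ := exists_conj_five hq hL hq1 hP ((fe.comp H.subtype).comp P.subtype)
  let χ : ↥H →* GL chevD4.Idx L := (MulAut.conj c⁻¹).toMonoidHom.comp
    ((twistedD4 L (p ^ (a * 4))).subtype.comp (fe.comp H.subtype))
  have hχ : Function.Injective χ := (MulAut.conj c⁻¹).injective.comp fun x y h =>
    Subtype.ext (hfe (Subtype.ext h))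
  have hχF : ∀ y, χ y ∈ (twist θ).Fix := fun y => le_Fix θ hθ h3 (by
    simpa [χ] using mul_mem (mul_mem (inv_mem hc) (fe y.1).2) hc)
  have hd : P.map χ ≤ chevD4.diagonalSubgroup L := by
    rintro _ ⟨y, hy, rfl⟩
    simpa [χ, mul_assoc] using hconj ⟨y, hy⟩
  have hn : ∀ z ∈ P.map χ, χ g * z * (χ g)⁻¹ ∈ P.map χ := by
    rintro _ ⟨y, hy, rfl⟩
    exact ⟨g * y * g⁻¹, (Subgroup.mem_normalizer_iff.1 hgN y).1 hy, by simp⟩
  have h1 := congrArg ψ (hχ (a₁ := g ^ 6 * x * (g ^ 6)⁻¹) (a₂ := x) (by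
    simpa using pow_centralizes_fix (twist θ) (hχF g) hd hn (m := 6) (fun π hπ => wp_pow_six θ hπ)
      ⟨x, hxP, rfl⟩))
  rw [map_mul, map_mul, map_inv, map_pow, hxe, conj_pow_of_conj
    (conj_of_mem_zpowers hg y57_conj ((Commute.refl x57).pow_right 2)) 6] at h1
  exact x57_ne h1

/-- no section `Alt 8` away from characteristics 2 and 3 -/
theorem td4_eight (hp2 : p ≠ 2) (hp3 : p ≠ 3) (ha : 1 ≤ a)
    (hK : Fintype.card K = (p ^ a) ^ 3) (H : Subgroup ↥(twistedD4 K (p ^ a)))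
    (ψ : ↥H →* ↥(alternatingGroup (Fin 8))) (hψ : Function.Surjective ψ) : False := by
  classical
  haveI : Fact (Nat.Prime 3) := ⟨Nat.prime_three⟩
  obtain ⟨L, iL, iLf, iLc, hL, hq1, fe, hfe⟩ := exists_enlarged (K := K) (r := 3) hK (by
    rw [show (4 : ℕ) = 2 * 2 from rfl, pow_mul,
      show ((p ^ a : ℕ) : ZMod 3) ^ 2 = 1 from
        ZMod.pow_card_sub_one_eq_one (p := 3) (cast_pow_ne_zero hp3 a), one_pow])
  have hq : IsPrimePow (p ^ (a * 4)) := (Nat.Prime.isPrimePow Fact.out).pow (by omega)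
  obtain ⟨θ, hθ⟩ := Frob.exists_powEquiv (K := L) hq hL
  have h3 := h3_of θ hθ hL
  have hsmall : ∀ n : ℕ, (n = 2 ∨ n = 3) → (n : L) ≠ 0 := fun n hn h0 => by
    have hp := (Fact.out : p.Prime)
    have hd := (CharP.cast_eq_zero_iff L p n).1 h0
    rcases hn with rfl | rfl
    · exact hp2 ((Nat.prime_dvd_prime_iff_eq hp Nat.prime_two).1 hd)
    · exact hp3 ((Nat.prime_dvd_prime_iff_eq hp Nat.prime_three).1 hd)
  obtain ⟨P⟩ : Nonempty (Sylow 3 (preE ψ)) := inferInstance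
  obtain ⟨c, hc, hconj⟩ := exists_conj_ext3 hq hL hq1 (P.2.map (preE ψ).subtype)
    ((fe.comp H.subtype).comp (preS ψ P).subtype)
  let χ : ↥H →* GL chevD4.Idx L := (MulAut.conj c⁻¹).toMonoidHom.comp
    ((twistedD4 L (p ^ (a * 4))).subtype.comp (fe.comp H.subtype))
  have hχ : Function.Injective χ := (MulAut.conj c⁻¹).injective.comp fun x y h =>
    Subtype.ext (hfe (Subtype.ext h))
  have hχT : ∀ y, χ y ∈ twistedD4 L (p ^ (a * 4)) := fun y => by
    simpa [χ] using mul_mem (mul_mem (inv_mem hc) (fe y.1).2) hc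
  have hχG : ∀ y, χ y ∈ chevD4.group L := fun y => (twist θ).Fix_le (le_Fix θ hθ h3 (hχT y))
  have hχP : ∀ x ∈ preS ψ P, χ x ∈ ext3 L := fun x hx => by
    simpa [χ, mul_assoc] using hconj ⟨x, hx⟩
  set A : Subgroup ↥H := preS ψ P ⊓ (chevD4.diagonalSubgroup L).comap χ
  have hout : ∀ x ∈ preS ψ P, x ∉ A → χ x ∉ chevD4.diagonalSubgroup L := fun x hx hxA h =>
    hxA ⟨hx, h⟩
  have hfixed : ∀ z ∈ A, ∀ b ∈ preS ψ P, b ∉ A → Commute b z →
      ∃ v : Lˣ, v ^ 3 = 1 ∧ χ z = C.G.torθ (cst v) := by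
    intro z hz b hb hbA hbz
    have hn := commute_of_outside (hχP b hb) (hout b hb hbA) hz.2 (by
      rw [← map_mul, ← map_mul, hbz.eq])
    obtain ⟨k, hk⟩ := (P.2.map (preE ψ).subtype) ⟨z, hz.1⟩
    exact fixed_three θ hθ h3 hq1 hz.2 (hχT z) hn (k := k) (by
      rw [← map_pow, show z ^ 3 ^ k = 1 from congrArg Subtype.val hk, map_one])
  have hne : ∀ {z : ↥H} {v : Lˣ}, z ≠ 1 → χ z = C.G.torθ (cst v) → v ≠ 1 := fun {z v} hz e h =>
    hz (hχ (by
      rw [e, map_one, show cst v = 1 from funext fun l => by simp [cst, h], map_one]))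
  refine eight_three ψ hψ P A inf_le_left ?_ ?_ ?_ ?_ ?_ ?_
  · intro x hx y hy
    exact hχ (by rw [map_mul, map_mul, C.G.diagonal_comm hx.2 hy.2])
  · intro x hx y hy hyA
    have hyd := hout y hy hyA
    have hX := hχP y hy
    obtain ⟨i, hi, ht⟩ := (mem_ext3 hX).resolve_left hyd
    rcases mem_ext3 (hχP x hx) with hxd | ⟨j, hj, hs⟩
    · exact ⟨x, ⟨hx, hxd⟩, 0, by simp⟩
    · by_cases hij : j = i
      · subst hij
        refine ⟨x * y⁻¹, Subgroup.mem_inf.2 ⟨mul_mem hx (inv_mem hy), ?_⟩, 1, by simp⟩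
        show χ (x * y⁻¹) ∈ chevD4.diagonalSubgroup L
        rw [map_mul, map_inv]
        have e : χ x * (χ y)⁻¹ =
            χ x * (nG ^ j)⁻¹ * (χ y * (nG ^ j)⁻¹)⁻¹ := by group
        rw [e]; exact mul_mem hs (inv_mem ht)
      · refine ⟨x * y * (y ^ 3)⁻¹, Subgroup.mem_inf.2 ⟨mul_mem (mul_mem hx hy) (inv_mem (pow_mem hy 3)), ?_⟩, 2, by group⟩
        show χ (x * y * (y ^ 3)⁻¹) ∈ chevD4.diagonalSubgroup L
        rw [map_mul, map_mul, map_inv, map_pow]
        refine mul_mem ?_ (inv_mem (ext3_cube hX))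
        have hji : (nG : GL chevD4.Idx L) ^ j * nG ^ i = 1 := by
          rw [← pow_add, show j + i = 3 by omega, nG_cube]
        have e : χ x * χ y = χ x * (nG ^ j)⁻¹ *
            (nG ^ j * (χ y * (nG ^ i)⁻¹) * (nG ^ j)⁻¹) * (nG ^ j * nG ^ i) := by group
        rw [e, hji, mul_one]
        exact mul_mem hs ((Subgroup.mem_normalizer_iff.1
          (pow_mem (C.G.monomial_le_normalizer nG_monomial) j) _).1 ht)
  · intro x hx
    exact ⟨pow_mem hx 3, by
      show χ (x ^ 3) ∈ chevD4.diagonalSubgroup L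
      rw [map_pow]; exact ext3_cube (hχP x hx)⟩
  · intro g hg y hy
    refine hχ ?_
    simpa using pow_centralizes_fix (twist θ) (le_Fix θ hθ h3 (hχT g)) (A := A.map χ)
      (by rintro _ ⟨w, hw, rfl⟩; exact hw.2)
      (by rintro _ ⟨w, hw, rfl⟩; exact ⟨g * w * g⁻¹, hg w hw, by simp⟩)
      (m := 6) (fun π hπ => wp_pow_six θ hπ) ⟨y, hy, rfl⟩
  · intro z hz b hb hbA hbz hz1
    obtain ⟨v, hv, hve⟩ := hfixed z hz b hb hbA hbz
    refine ⟨hχ (by
      rw [map_pow, map_one, hve, ← map_pow,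
        show cst v ^ 3 = 1 from funext fun l => by
          simp only [cst, Pi.pow_apply, Pi.one_apply]; split_ifs <;> simp [hv], map_one]),
      fun y hy hby => ?_⟩
    obtain ⟨w, hw, hwe⟩ := hfixed y hy b hb hbA hby
    obtain ⟨k, hk⟩ := fixed_unique hv (hne hz1 hve) hw
    rw [hχ (show χ y = χ (z ^ k) by rw [map_pow, hwe, hve, hk])]
    exact pow_mem (Subgroup.mem_zpowers _) k
  · intro z hz b hb hbA hbz hz1 x hx hxA hx3 g h hg hh hhx
    obtain ⟨v, hv, hve⟩ := hfixed z hz b hb hbA hbz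
    obtain ⟨xt, lam, hl, hxt, hM⟩ := exists_outer θ hθ h3 (hχP x hx) (hout x hx hxA) (hχT x)
    refine not_conj_inverted (by exact_mod_cast hsmall 2 (Or.inl rfl))
      (by exact_mod_cast hsmall 3 (Or.inr rfl)) hv (hne hz1 hve) (cst_values v) hl hM
      (by rw [hxt, ← map_pow, hx3, map_one]) (hχG g) (hχG h) ?_ ?_ ?_
    · rw [hxt, ← hve, ← map_inv, ← map_mul, ← map_mul, hg]
    · rw [← hve, ← map_inv, ← map_mul, ← map_mul, hh]
    · rw [hxt, ← map_inv, ← map_inv, ← map_mul, ← map_mul, hhx]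

/-- the degree of an alternating section -/
theorem td4_bound (ha : 1 ≤ a) (hK : Fintype.card K = (p ^ a) ^ 3) (r : ℕ)
    (H : Subgroup ↥(twistedD4 K (p ^ a))) (N : Subgroup ↥H) [N.Normal]
    (h : Nonempty (↥H ⧸ N ≃* ↥(alternatingGroup (Fin r)))) :
    r ≤ 6 + (if p = 5 then 1 else 0) := by
  by_contra hr
  split_ifs at hr with hp
  · obtain ⟨H', ψ, hψ⟩ := exists_section (k := 8) (by omega) H N h
    exact td4_eight (p := p) (by omega) (by omega) ha hK H' ψ hψ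
  · obtain ⟨H', ψ, hψ⟩ := exists_section (k := 7) (by omega) H N h
    exact td4_seven (p := p) hp ha hK H' ψ hψ

end CfsgLib.Lie.AltSection
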